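import Mathlib
import Cfsg.Agent.S2553
import Cfsg.Agent.Lib.Inv59.RankFour.Layers
import Cfsg.Agent.Lib.Inv59.RankFour.Five

/-!
# Groups acting on a natural module of order eight for `GL₃(2)`
-/

set_option autoImplicit false
set_option linter.unusedSectionVars false
set_option linter.style.haveILetI false
set_option synthInstance.maxSize 4000
set_option synthInstance.maxHeartbeats 400000

namespace Cfsg.Agent.Lib.Inv59.RankFour.Seven

universe u v

/-- The natural module. -/
abbrev V3 := Fin 3 → ZMod 2

/-- `GL₃(2)`. -/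
abbrev L3 := GL (Fin 3) (ZMod 2)

/-- A vector. -/
abbrev vec (a b c : ZMod 2) : V3 := ![a, b, c]

/-- The scalar product. -/
def dot (f v : V3) : ZMod 2 := f 0 * v 0 + f 1 * v 1 + f 2 * v 2

theorem tv_invol : ∀ f d v : V3, dot f d = 0 →
    (v + dot f v • d) + dot f (v + dot f v • d) • d = v := by decide +kernel

theorem tv_add : ∀ f d v w : V3, v + w + dot f (v + w) • d = (v + dot f v • d) + (w + dot f w • d) := by
  decide +kernel

/-- A transvection. -/
def tv (f d : V3) (h : dot f d = 0) : V3 ≃+ V3 where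
  toFun v := v + dot f v • d
  invFun v := v + dot f v • d
  left_inv v := tv_invol f d v h
  right_inv v := tv_invol f d v h
  map_add' v w := tv_add f d v w

theorem tv_apply (f d : V3) (h : dot f d = 0) (v : V3) : tv f d h v = v + dot f v • d := rfl

/-- The vector product. -/
def cross (a b : V3) : V3 :=
  vec (a 1 * b 2 + a 2 * b 1) (a 2 * b 0 + a 0 * b 2) (a 0 * b 1 + a 1 * b 0)

/-- Three vectors of `V3` outside a line. -/
theorem moved_by_tv : ∀ a b c : V3, a ≠ 0 → b ≠ 0 → a ≠ b → c ≠ 0 → c ≠ a → c ≠ b → c ≠ a + b →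
    dot (cross a b) a = 0 ∧ dot (cross a b) b = 0 ∧ dot (cross a b) c = 1 := by
  decide +kernel

/-- The square of a product of two transvections. -/
def twice (f d f' d' c : V3) : V3 :=
  let w := c + dot f' c • d'
  let x := w + dot f w • d
  let y := x + dot f' x • d'
  y + dot f y • d

/-- Only `0` and `a` are fixed by the squares of the stabilizer of `a`. -/
theorem moved_by_square : ∀ a c : V3, a ≠ 0 → c ≠ 0 → c ≠ a →
    ∃ f d f' d' : V3, dot f d = 0 ∧ dot f' d' = 0 ∧ dot f a = 0 ∧ dot f' a = 0 ∧
      twice f d f' d' c ≠ c := by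
  decide +kernel

variable {G : Type u} [Group G]

/-- Coordinates on a normal subgroup of order eight inducing every automorphism. -/
structure Frame (W : Subgroup G) where
  /-- the coordinates -/
  e : V3 → G
  mem : ∀ v, e v ∈ W
  surj : ∀ x ∈ W, ∃ v, e v = x
  inj : Function.Injective e
  add : ∀ a b, e (a + b) = e a * e b
  rep : ∀ σ : V3 ≃+ V3, ∃ g : G, ∀ v, g * e v * g⁻¹ = e (σ v)

namespace Frame

variable {W : Subgroup G} (F : Frame W)

theorem zero : F.e 0 = 1 := by
  have h := F.add 0 0
  rw [add_zero] at h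
  exact mul_eq_left.1 h.symm

theorem eq_one {v : V3} : F.e v = 1 ↔ v = 0 :=
  ⟨fun h => F.inj (h.trans F.zero.symm), fun h => h ▸ F.zero⟩

theorem add_self : ∀ v : V3, v + v = 0 := by decide

theorem sq (v : V3) : F.e v * F.e v = 1 := by rw [← F.add, add_self, F.zero]

theorem comm (a b : V3) : F.e a * F.e b = F.e b * F.e a := by rw [← F.add, ← F.add, add_comm]

theorem inv (v : V3) : (F.e v)⁻¹ = F.e v := inv_eq_of_mul_eq_one_right (F.sq v)

theorem card (F : Frame W) : Nat.card W = 8 := by
  have e : V3 ≃ ↥W :=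
    Equiv.ofBijective (fun v => ⟨F.e v, F.mem v⟩)
      ⟨fun a b h => F.inj (congrArg Subtype.val h), fun x =>
        (F.surj x.1 x.2).elim fun v hv => ⟨v, Subtype.ext hv⟩⟩
  rw [← Nat.card_congr e, Nat.card_eq_fintype_card]
  decide

end Frame

variable [Finite G]

theorem card_addEquiv_le : Nat.card (V3 ≃+ V3) ≤ 168 := by
  classical
  have mulVec : ∀ f g : V3 →+ V3,
      LinearMap.toMatrix' ((f.comp g).toZModLinearMap 2) =
        LinearMap.toMatrix' (f.toZModLinearMap 2) * LinearMap.toMatrix' (g.toZModLinearMap 2) := by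
    intro f g
    rw [← LinearMap.toMatrix'_comp]
    rfl
  have hone : LinearMap.toMatrix' ((AddMonoidHom.id V3).toZModLinearMap 2) = 1 := LinearMap.toMatrix'_id
  let m : (V3 ≃+ V3) → GL (Fin 3) (ZMod 2) := fun σ =>
    { val := LinearMap.toMatrix' (σ.toAddMonoidHom.toZModLinearMap 2)
      inv := LinearMap.toMatrix' (σ.symm.toAddMonoidHom.toZModLinearMap 2)
      val_inv := by
        rw [← mulVec, show σ.toAddMonoidHom.comp σ.symm.toAddMonoidHom = AddMonoidHom.id V3 from
          AddMonoidHom.ext fun x => σ.apply_symm_apply x, hone]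
      inv_val := by
        rw [← mulVec, show σ.symm.toAddMonoidHom.comp σ.toAddMonoidHom = AddMonoidHom.id V3 from
          AddMonoidHom.ext fun x => σ.symm_apply_apply x, hone] }
  have hm : Function.Injective m := by
    intro σ τ h
    have h' := LinearMap.toMatrix'.injective (congrArg Units.val h)
    exact AddEquiv.ext fun x => LinearMap.congr_fun h' x
  exact (Nat.card_le_card_of_injective m hm).trans_eq S2553.card_gl3

/-- A faithfully acted on elementary group of order eight has a frame. -/
theorem exists_frame {Q : Subgroup G} {φ : G →* L3} (hφ : Function.Surjective φ) (hker : φ.ker = Q)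
    (W : Subgroup G) [W.Normal] (h2 : ∀ w ∈ W, w * w = 1) (h8 : Nat.card W = 8)
    (hC : ∀ g, (∀ w ∈ W, g * w = w * g) ↔ g ∈ Q) : Nonempty (Frame W) := by
  classical
  have hWc : ∀ a b : ↥W, a * b = b * a := fun a b => Subtype.ext (comm_of_sq h2 a.2 b.2)
  letI : CommGroup ↥W := { (inferInstance : Group ↥W) with mul_comm := hWc }
  letI : Module (ZMod 2) (Additive ↥W) :=
    AddCommGroup.zmodModule (n := 2) fun x => Additive.toMul.injective (by
      rw [toMul_nsmul, pow_two]; exact Subtype.ext (h2 _ (Additive.toMul x).2))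
  have hd : Module.finrank (ZMod 2) (Additive ↥W) = 3 := by
    have h := Module.natCard_eq_pow_finrank (K := ZMod 2) (V := Additive ↥W)
    rw [Nat.card_zmod, show Nat.card (Additive ↥W) = Nat.card W from rfl, h8,
      show (8 : ℕ) = 2 ^ 3 by norm_num] at h
    exact (Nat.pow_right_injective (le_refl 2) h).symm
  let b := Module.finBasisOfFinrankEq (ZMod 2) (Additive ↥W) hd
  let L : Additive ↥W ≃+ V3 := b.equivFun.toAddEquiv
  let e : V3 → G := fun v => ((Additive.toMul (L.symm v) : ↥W) : G)
  have hmem : ∀ v, e v ∈ W := fun v => (Additive.toMul (L.symm v)).2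
  have hsurj : ∀ x ∈ W, ∃ v, e v = x := fun x hx => ⟨L (Additive.ofMul ⟨x, hx⟩), by simp [e]⟩
  have hinj : Function.Injective e := fun a b h => L.symm.injective (Additive.toMul.injective (Subtype.ext h))
  have hadd : ∀ a b, e (a + b) = e a * e b := fun a b => by
    show ((Additive.toMul (L.symm (a + b)) : ↥W) : G) = _
    rw [map_add]
    rfl
  have hWn : ∀ (y : G), ∀ w ∈ W, y * w * y⁻¹ ∈ W := fun y w hw => (inferInstance : W.Normal).conj_mem w hw y
  let act : G → V3 → V3 := fun g v => L (Additive.ofMul ⟨g * e v * g⁻¹, hWn g _ (hmem v)⟩)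
  have hact : ∀ g v, e (act g v) = g * e v * g⁻¹ := fun g v => by simp [act, e]
  let σ : G → (V3 ≃+ V3) := fun g =>
    { toFun := act g
      invFun := act g⁻¹
      left_inv := fun v => hinj (by rw [hact, hact]; group)
      right_inv := fun v => hinj (by rw [hact, hact]; group)
      map_add' := fun v w => hinj (by rw [hact, hadd, hadd, hact, hact]; group) }
  have hfib : ∀ g h, σ g = σ h → φ g = φ h := by
    intro g h hgh
    have hm : h⁻¹ * g ∈ φ.ker := by
      rw [hker, ← hC]
      intro w hw
      obtain ⟨v, rfl⟩ := hsurj w hw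
      have h1 : g * e v * g⁻¹ = h * e v * h⁻¹ := by
        rw [← hact, ← hact]
        exact congrArg e (congrArg (fun s : V3 ≃+ V3 => s v) hgh)
      calc h⁻¹ * g * e v = h⁻¹ * (g * e v * g⁻¹) * g := by group
        _ = h⁻¹ * (h * e v * h⁻¹) * g := by rw [h1]
        _ = e v * (h⁻¹ * g) := by group
    rw [MonoidHom.mem_ker, map_mul, map_inv, inv_mul_eq_one] at hm
    exact hm.symm
  have hsurjσ : Function.Surjective fun l => σ (Function.surjInv hφ l) := by
    haveI : Finite (V3 ≃+ V3) := Finite.of_injective (fun s : V3 ≃+ V3 => (s : V3 → V3)) DFunLike.coe_injective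
    have hi : Function.Injective fun l => σ (Function.surjInv hφ l) := fun a b h => by
      have := hfib _ _ h
      rwa [Function.surjInv_eq hφ, Function.surjInv_eq hφ] at this
    refine ((Nat.bijective_iff_injective_and_card _).2 ⟨hi, ?_⟩).2
    exact le_antisymm (Nat.card_le_card_of_injective _ hi) (card_addEquiv_le.trans S2553.card_gl3.ge)
  have hrep : ∀ s : V3 ≃+ V3, ∃ g : G, ∀ v, g * e v * g⁻¹ = e (s v) := by
    intro s
    obtain ⟨l, hl⟩ := hsurjσ s
    refine ⟨Function.surjInv hφ l, fun v => ?_⟩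
    rw [← hact, ← hl]
    rfl
  exact ⟨⟨e, hmem, hsurj, hinj, hadd, hrep⟩⟩

/-! ### Elements of order seven -/

theorem exists_seven {φ : G →* L3} (hφ : Function.Surjective φ) : ∃ y : G, orderOf y = 7 := by
  haveI : Fact (Nat.Prime 7) := ⟨by norm_num⟩
  refine exists_prime_orderOf_dvd_card' 7 ((show 7 ∣ 168 by norm_num).trans ?_)
  rw [← S2553.card_gl3]
  exact Subgroup.card_dvd_of_surjective φ hφ

theorem normal_above {Q : Subgroup G} {φ : G →* L3} (hφ : Function.Surjective φ) (hker : φ.ker = Q)
    (K : Subgroup G) [K.Normal] (hQK : Q ≤ K) : K = Q ∨ K = ⊤ := by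
  haveI : IsSimpleGroup L3 := S2553.simple_gl3
  have hK : (K.map φ).comap φ = K := by
    rw [Subgroup.comap_map_eq, hker, sup_eq_left.2 hQK]
  rcases (Subgroup.Normal.map (inferInstance : K.Normal) φ hφ).eq_bot_or_eq_top with h | h
  · exact Or.inl (by rw [← hK, h, MonoidHom.comap_bot, hker])
  · exact Or.inr (by rw [← hK, h, Subgroup.comap_top])

end Cfsg.Agent.Lib.Inv59.RankFour.Seven
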