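import Mathlib
import Cfsg.Agent.Lib.Inv59.RankFour.Seven.Frame
import Cfsg.Agent.Lib.TwoGroups.Recognition

/-!
# Lifts of transvections
-/

set_option autoImplicit false
set_option linter.unusedSectionVars false
set_option linter.style.haveILetI false
set_option synthInstance.maxSize 4000
set_option synthInstance.maxHeartbeats 400000

namespace Cfsg.Agent.Lib.Inv59.RankFour.Seven

open TwoGroups.Recognition

universe u v

/-- The common centre of the transvections used. -/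
def cp : V3 := vec 1 0 0

/-- A transvection with centre `cp`. -/
def t1 : V3 ≃+ V3 := tv (vec 0 0 1) cp (by decide)

/-- A second transvection with the same centre. -/
def t2 : V3 ≃+ V3 := tv (vec 0 1 0) cp (by decide)

/-- Their product. -/
def t3 : V3 ≃+ V3 := tv (vec 0 1 1) cp (by decide)

/-- A transvection with the axis of `t1`. -/
def ts : V3 ≃+ V3 := tv (vec 0 0 1) (vec 0 1 0) (by decide)

/-- Conjugates `t1` to `t2`. -/
def h2 : V3 ≃+ V3 := tv (vec 0 1 1) (vec 0 1 1) (by decide)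

/-- Conjugates `t1` to `t3`. -/
def h3 : V3 ≃+ V3 := tv (vec 0 1 0) (vec 0 0 1) (by decide)

/-- Conjugates `t1` to `ts`. -/
def hs : V3 ≃+ V3 := tv (vec 1 1 0) (vec 1 1 0) (by decide)

theorem conj_h2 : ∀ v, h2 (t1 (h2 v)) = t2 v := by decide +kernel

theorem conj_h3 : ∀ v, h3 (t1 (h3 v)) = t3 v := by decide +kernel

theorem conj_hs : ∀ v, hs (t1 (hs v)) = ts v := by decide +kernel

theorem invol_all : ∀ v, t1 (t1 v) = v ∧ t2 (t2 v) = v ∧ t3 (t3 v) = v ∧ ts (ts v) = v ∧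
    t1 (t2 v) = t3 v ∧ t2 (t1 v) = t3 v ∧ h2 (h2 v) = v ∧ h3 (h3 v) = v ∧ hs (hs v) = v := by
  decide +kernel

variable {G : Type u} [Group G]

/-- `g` induces `σ`. -/
def Frame.Acts {W : Subgroup G} (F : Frame W) (g : G) (σ : V3 ≃+ V3) : Prop :=
  ∀ v, g * F.e v * g⁻¹ = F.e (σ v)

namespace Frame

variable {W : Subgroup G} (F : Frame W)

theorem acts_mul {g h : G} {σ τ ρ : V3 ≃+ V3} (hg : F.Acts g σ) (hh : F.Acts h τ)
    (he : ∀ v, σ (τ v) = ρ v) : F.Acts (g * h) ρ := by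
  intro v
  rw [← he, ← hg, ← hh]
  group

theorem acts_conj {g h : G} {σ τ ρ : V3 ≃+ V3} (hh : F.Acts h σ) (hg : F.Acts g τ)
    (hinv : ∀ v, σ (σ v) = v) (he : ∀ v, σ (τ (σ v)) = ρ v) : F.Acts (h * g * h⁻¹) ρ := by
  intro v
  have h1 : h⁻¹ * F.e v * h = F.e (σ v) := by
    conv_lhs => rw [← hinv v, ← hh]
    group
  rw [← he, ← hh, ← hg, ← h1]
  group

/-- Elements with the same action differ by an element centralizing `W`. -/
theorem same_action {g g' : G} {σ : V3 ≃+ V3} (hg : F.Acts g σ) (hg' : F.Acts g' σ) :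
    ∀ w ∈ W, g⁻¹ * g' * w = w * (g⁻¹ * g') := by
  intro w hw
  obtain ⟨v, rfl⟩ := F.surj w hw
  calc g⁻¹ * g' * F.e v = g⁻¹ * (g' * F.e v * g'⁻¹) * g' := by group
    _ = g⁻¹ * (g * F.e v * g⁻¹) * g' := by rw [hg', hg]
    _ = F.e v * (g⁻¹ * g') := by group

theorem sq_central {g : G} {σ : V3 ≃+ V3} (hg : F.Acts g σ) (hinv : ∀ v, σ (σ v) = v) :
    ∀ w ∈ W, g * g * w = w * (g * g) := by
  intro w hw
  obtain ⟨v, rfl⟩ := F.surj w hw
  calc g * g * F.e v = g * (g * F.e v * g⁻¹) * g⁻¹ * (g * g) := by group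
    _ = g * F.e (σ v) * g⁻¹ * (g * g) := by rw [hg]
    _ = F.e v * (g * g) := by rw [hg, hinv]

theorem comm_central {g h : G} {σ τ ρ : V3 ≃+ V3} (hg : F.Acts g σ) (hh : F.Acts h τ)
    (h1 : ∀ v, σ (τ v) = ρ v) (h2 : ∀ v, τ (σ v) = ρ v) :
    ∀ w ∈ W, g * h * g⁻¹ * h⁻¹ * w = w * (g * h * g⁻¹ * h⁻¹) := by
  intro w hw
  have key := F.same_action (F.acts_mul hh hg h2) (F.acts_mul hg hh h1)
  obtain ⟨v, rfl⟩ := F.surj w hw
  obtain ⟨v', hv'⟩ : ∃ v', (h * g) * F.e v' * (h * g)⁻¹ = F.e v :=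
    ⟨ρ.symm v, by rw [F.acts_mul hh hg h2, AddEquiv.apply_symm_apply]⟩
  have h3 := key _ (F.mem v')
  rw [← hv']
  calc g * h * g⁻¹ * h⁻¹ * (h * g * F.e v' * (h * g)⁻¹)
      = h * g * ((h * g)⁻¹ * (g * h) * F.e v') * (h * g)⁻¹ := by group
    _ = h * g * (F.e v' * ((h * g)⁻¹ * (g * h))) * (h * g)⁻¹ := by rw [h3]
    _ = h * g * F.e v' * (h * g)⁻¹ * (g * h * g⁻¹ * h⁻¹) := by group

/-- The image of a frame under a homomorphism injective on `W`. -/
def map {H : Type v} [Group H] (f : G →* H) (hf : Function.Surjective f)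
    (hinj : ∀ x ∈ W, f x = 1 → x = 1) : Frame (W.map f) where
  e v := f (F.e v)
  mem v := ⟨_, F.mem v, rfl⟩
  surj := by
    rintro _ ⟨x, hx, rfl⟩
    obtain ⟨v, rfl⟩ := F.surj x hx
    exact ⟨v, rfl⟩
  inj a b h := by
    refine F.inj (inv_mul_eq_one.1 (hinj _ (W.mul_mem (W.inv_mem (F.mem a)) (F.mem b)) ?_))
    rw [map_mul, map_inv, show f (F.e a) = f (F.e b) from h, inv_mul_cancel]
  add a b := by rw [F.add, map_mul]
  rep σ := by
    obtain ⟨g, hg⟩ := F.rep σ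
    exact ⟨f g, fun v => by rw [← map_inv, ← map_mul, ← map_mul, hg]⟩

end Frame

theorem par_key : ∀ a cc z : V3, t1 a = a →
    t2 a = cc + t1 cc + a → t1 (h2 a) = cc + t2 cc + h2 a → cc + t2 a + h2 a = h3 a + t3 z + z →
      (a = 0 ∨ a = cp) ∧ (h2 a = 0 ∨ h2 a = cp) ∧ (cc = 0 ∨ cc = cp) := by
  decide +kernel

/-- In an extension of the natural module by its automorphism group two commuting transvections with
a common centre have lifts whose squares and commutator lie in the centre. -/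
theorem parity {W : Subgroup G} (F : Frame W) (hC : ∀ g, (∀ w ∈ W, g * w = w * g) → g ∈ W) :
    ∃ g₁ g₂, F.Acts g₁ t1 ∧ F.Acts g₂ t2 ∧ (g₁ * g₁ = 1 ∨ g₁ * g₁ = F.e cp) ∧
      (g₂ * g₂ = 1 ∨ g₂ * g₂ = F.e cp) ∧
      (g₁ * g₂ * g₁⁻¹ * g₂⁻¹ = 1 ∨ g₁ * g₂ * g₁⁻¹ * g₂⁻¹ = F.e cp) := by
  obtain ⟨g₁, hg₁⟩ := F.rep t1
  obtain ⟨k₂, hk₂⟩ := F.rep h2
  obtain ⟨k₃, hk₃⟩ := F.rep h3
  have hi : ∀ v, t1 (t1 v) = v := fun v => (invol_all v).1
  set g₂ := k₂ * g₁ * k₂⁻¹ with hg₂def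
  have hg₂ : F.Acts g₂ t2 := F.acts_conj hk₂ hg₁ (fun v => (invol_all v).2.2.2.2.2.2.1) conj_h2
  have hg₃ : F.Acts (k₃ * g₁ * k₃⁻¹) t3 := F.acts_conj hk₃ hg₁ (fun v => (invol_all v).2.2.2.2.2.2.2.1) conj_h3
  have h12 : F.Acts (g₁ * g₂) t3 := F.acts_mul hg₁ hg₂ fun v => (invol_all v).2.2.2.2.1
  obtain ⟨a, ha⟩ := F.surj _ (hC _ (F.sq_central hg₁ hi))
  obtain ⟨z, hz⟩ := F.surj _ (hC _ (F.same_action hg₃ h12))
  obtain ⟨cc, hcc⟩ := F.surj _ (hC _ (F.comm_central hg₁ hg₂ (fun v => (invol_all v).2.2.2.2.1)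
    (fun v => (invol_all v).2.2.2.2.2.1)))
  have hta : t1 a = a := F.inj (by rw [← hg₁, ha]; group)
  have hu₂ : g₂ * g₂ = F.e (h2 a) := by
    rw [← hk₂, ha, hg₂def]; group
  have e1 : t2 a = cc + t1 cc + a := F.inj (by
    rw [F.add, F.add, ← hg₂, ← hg₁, ha]
    calc g₂ * (g₁ * g₁) * g₂⁻¹ = (g₁ * g₂ * g₁⁻¹ * g₂⁻¹)⁻¹ * g₁ * (g₁ * g₂ * g₁⁻¹ * g₂⁻¹)⁻¹ * g₁ := by group
      _ = F.e cc * g₁ * F.e cc * g₁ := by rw [← hcc, F.inv]
      _ = F.e cc * (g₁ * F.e cc * g₁⁻¹) * (g₁ * g₁) := by group)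
  have e2 : t1 (h2 a) = cc + t2 cc + h2 a := F.inj (by
    rw [F.add, F.add, ← hg₁, ← hg₂, ← hu₂]
    calc g₁ * (g₂ * g₂) * g₁⁻¹ = (g₁ * g₂ * g₁⁻¹ * g₂⁻¹) * g₂ * (g₁ * g₂ * g₁⁻¹ * g₂⁻¹) * g₂ := by group
      _ = F.e cc * g₂ * F.e cc * g₂ := by rw [← hcc]
      _ = F.e cc * (g₂ * F.e cc * g₂⁻¹) * (g₂ * g₂) := by group)
  have e3 : cc + t2 a + h2 a = h3 a + t3 z + z := F.inj (by
    rw [F.add, F.add, F.add, F.add, ← hu₂, ← hg₂, hcc, ← hk₃, ha, ← hg₃, hz]
    set n := (k₃ * g₁ * k₃⁻¹)⁻¹ * (g₁ * g₂) with hn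
    calc g₁ * g₂ * g₁⁻¹ * g₂⁻¹ * (g₂ * (g₁ * g₁) * g₂⁻¹) * (g₂ * g₂) = g₁ * g₂ * (g₁ * g₂) := by group
      _ = k₃ * (g₁ * g₁) * k₃⁻¹ * ((k₃ * g₁ * k₃⁻¹)⁻¹ * n * (k₃ * g₁ * k₃⁻¹)) * n := by
        rw [hn]; group
      _ = k₃ * (g₁ * g₁) * k₃⁻¹ * ((k₃ * g₁ * k₃⁻¹) * n * (k₃ * g₁ * k₃⁻¹)⁻¹) * n := by
        have key := F.sq_central hg₃ (fun v => (invol_all v).2.2.1) n (hC _ (F.same_action hg₃ h12))
        set r := k₃ * g₁ * k₃⁻¹ with hr
        have : r⁻¹ * n * r = r * n * r⁻¹ := by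
          calc r⁻¹ * n * r = r⁻¹ * (n * (r * r)) * r⁻¹ := by group
            _ = r⁻¹ * (r * r * n) * r⁻¹ := by rw [key]
            _ = r * n * r⁻¹ := by group
        rw [this])
  obtain ⟨r1, r2, r3⟩ := par_key a cc z hta e1 e2 e3
  refine ⟨g₁, g₂, hg₁, hg₂, ?_, ?_, ?_⟩
  · rw [← ha]; exact r1.imp (fun h => F.eq_one.2 h) (fun h => congrArg F.e h)
  · rw [hu₂]; exact r2.imp (fun h => F.eq_one.2 h) (fun h => congrArg F.e h)
  · rw [← hcc]; exact r3.imp (fun h => F.eq_one.2 h) (fun h => congrArg F.e h)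

variable [Finite G]

theorem ts_facts : ∃ v, t2 (ts v) ≠ ts (t2 v) := by decide +kernel

theorem gh_square : ∀ v, t2 (ts (t2 (ts v))) = t1 v := by decide +kernel

/-- Splitting off a central factor of order two below `GL₃(2)` (transfer). -/
theorem split_top {Q : Subgroup G} {φ : G →* L3} (hφ : Function.Surjective φ) (hker : φ.ker = Q)
    (M : Subgroup G) [M.Normal] (hMQ : M ≤ Q) (h2 : Nat.card Q = 2 * Nat.card M) (g h : G)
    (hg : g * g ∈ M) (hh : h * h ∈ M) (h4 : g * h * (g * h) * (g * h * (g * h)) ∈ M)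
    (hgh : φ (g * h) * φ (g * h) ≠ 1) :
    ∃ X : Subgroup G, M ≤ X ∧ Function.Surjective (φ.comp X.subtype) ∧ ∀ x ∈ X, φ x = 1 → x ∈ M := by
  classical
  haveI := Fact.mk Nat.prime_two
  let π := QuotientGroup.mk' M
  let ψ : G ⧸ M →* L3 := QuotientGroup.lift M φ (fun x hx => by rw [hker]; exact hMQ hx)
  have hψ : ∀ x, ψ (π x) = φ x := fun x => rfl
  have hψs : Function.Surjective ψ := fun a => (hφ a).elim fun x hx => ⟨π x, hx⟩
  have hkψ : ψ.ker = Q.map π := (QuotientGroup.ker_lift _ _ _).trans (by rw [hker])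
  have hk2 : Nat.card ψ.ker = 2 := by
    rw [hkψ]
    have h : Nat.card ↥(Q.map π) * Nat.card M = Nat.card Q := card_map_mk M Q hMQ
    rw [h2] at h
    exact Nat.eq_of_mul_eq_mul_right Nat.card_pos h
  set a := π (g * h) with hadef
  have hone : ∀ x ∈ M, π x = 1 := fun x hx => (QuotientGroup.eq_one_iff x).2 hx
  have ha4 : a ^ 4 = 1 := by
    rw [hadef, ← map_pow, show (g * h) ^ 4 = g * h * (g * h) * (g * h * (g * h)) by
      rw [show 4 = 2 + 2 from rfl, pow_add, pow_two]]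
    exact hone _ h4
  have hb : π g * π g = 1 := by rw [← map_mul]; exact hone _ hg
  have hhb : π h * π h = 1 := by rw [← map_mul]; exact hone _ hh
  have hab : π g * a * (π g)⁻¹ = a⁻¹ := by
    rw [hadef, map_mul, mul_inv_rev, ← mul_assoc, hb, one_mul, inv_eq_of_mul_eq_one_right hhb]
  have hψ2 : ψ a ^ 2 ≠ 1 := by rw [pow_two, hadef, hψ]; exact hgh
  have hψ4 : orderOf (ψ a) = 4 := by
    refine orderOf_eq_prime_pow (p := 2) (n := 1) (by rwa [pow_one]) ?_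
    show ψ a ^ 4 = 1
    rw [← map_pow, ha4, map_one]
  have ha : orderOf a = 4 := by
    refine Nat.dvd_antisymm (orderOf_dvd_of_pow_eq_one ha4) ?_
    rw [← hψ4]
    exact orderOf_map_dvd ψ a
  have hψab : ψ (π g) * ψ a * (ψ (π g))⁻¹ = (ψ a)⁻¹ := by rw [← map_inv, ← map_mul, ← map_mul, hab, map_inv]
  have hψmem : ψ (π g) ∉ Subgroup.zpowers (ψ a) := by
    rintro ⟨i, hi⟩
    have hc := (Commute.refl (ψ a)).zpow_right i
    rw [show ψ a ^ i = ψ (π g) from hi] at hc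
    rw [← hc.eq, mul_inv_cancel_right] at hψab
    exact hψ2 (by rw [pow_two]; exact mul_eq_one_iff_eq_inv.2 hψab)
  have hmem : π g ∉ Subgroup.zpowers a := by
    rintro ⟨i, hi⟩
    exact hψmem ⟨i, (map_zpow ψ a i).symm.trans (congrArg ψ hi)⟩
  let D := dihedralHom (pow_eq_one_of_orderOf ha) hb hab
  let D' := dihedralHom (pow_eq_one_of_orderOf hψ4)
    (show ψ (π g) * ψ (π g) = 1 by rw [← map_mul, hb, map_one]) hψab
  have hDD : ∀ d, ψ (D d) = D' d := by
    rintro (i | i)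
    · show ψ (powZ 4 a i) = powZ 4 (ψ a) i
      exact map_pow ψ a _
    · show ψ (π g * powZ 4 a i) = ψ (π g) * powZ 4 (ψ a) i
      rw [map_mul]
      exact congrArg (ψ (π g) * ·) (map_pow ψ a _)
  have hD'inj : Function.Injective D' :=
    dihedralHom_injective hψ4 (show ψ (π g) * ψ (π g) = 1 by rw [← map_mul, hb, map_one]) hψab hψmem
  have hDinj : Function.Injective D := dihedralHom_injective ha hb hab hmem
  set H := (D'.range).comap ψ with hH
  have hDH : D.range ≤ H := by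
    rintro _ ⟨d, rfl⟩
    exact ⟨d, (hDD d).symm⟩
  have hHcard : Nat.card H = 16 := by
    have hc := Subgroup.card_mul_index (ψ.subgroupComap D'.range).ker
    rw [Subgroup.index_ker, MonoidHom.range_eq_top.2 (ψ.subgroupComap_surjective_of_surjective _ hψs),
      Subgroup.card_top, ← Nat.card_congr (MonoidHom.ofInjective hD'inj).toEquiv, DihedralGroup.nat_card] at hc
    have hk : (ψ.subgroupComap D'.range).ker = ψ.ker.subgroupOf H := by
      ext x
      rw [MonoidHom.mem_ker, Subgroup.mem_subgroupOf, MonoidHom.mem_ker]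
      exact Subtype.ext_iff
    have hkH : ψ.ker ≤ H := fun x hx => ⟨1, by rw [map_one]; exact (MonoidHom.mem_ker.1 hx).symm⟩
    rw [hk, Nat.card_congr (Subgroup.subgroupOfEquivOfLe hkH).toEquiv, hk2] at hc
    exact hc.symm
  have hD2 : (D.range.subgroupOf H).index = 2 := by
    have hc := Subgroup.card_mul_index (D.range.subgroupOf H)
    rw [Nat.card_congr (Subgroup.subgroupOfEquivOfLe hDH).toEquiv, hHcard,
      ← Nat.card_congr (MonoidHom.ofInjective hDinj).toEquiv, DihedralGroup.nat_card] at hc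
    omega
  let χ : ↥H →* ℤˣ := MonoidHom.mk' (fun x => if x ∈ D.range.subgroupOf H then 1 else -1) (by
    intro x y
    have hiff := Subgroup.mul_mem_iff_of_index_two hD2 (a := x) (b := y)
    by_cases hx : x ∈ D.range.subgroupOf H <;> by_cases hy : y ∈ D.range.subgroupOf H <;>
      simp [hx, hy, hiff])
  -- the central involution
  obtain ⟨z, hz, hz1⟩ := (Subgroup.bot_or_exists_ne_one ψ.ker).resolve_left fun h => by
    rw [h, Subgroup.card_bot] at hk2; omega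
  have hz12 : ∀ x ∈ ψ.ker, x = 1 ∨ x = z := by
    intro x hx
    by_contra hcon
    push Not at hcon
    have : ({1, z, x} : Set (G ⧸ M)).ncard = 3 := by
      rw [Set.ncard_insert_of_notMem (by simp [Ne.symm hz1, Ne.symm hcon.1]), Set.ncard_pair (Ne.symm hcon.2)]
    have hle := Set.ncard_le_ncard (show ({1, z, x} : Set (G ⧸ M)) ⊆ (ψ.ker : Set (G ⧸ M)) by
      rintro w (rfl | rfl | rfl)
      · exact ψ.ker.one_mem
      · exact hz
      · exact hx) (Set.toFinite _)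
    rw [this, ← Nat.card_coe_set_eq] at hle
    rw [show Nat.card ↥(ψ.ker : Set (G ⧸ M)) = 2 from hk2] at hle
    omega
  have hzc : ∀ x, x * z = z * x := by
    intro x
    rcases hz12 (x * z * x⁻¹) ((inferInstance : ψ.ker.Normal).conj_mem z hz x) with e | e
    · exact absurd (conj_eq_one_iff.1 e) hz1
    · exact mul_inv_eq_iff_eq_mul.1 e
  have key : ∀ (k : ℕ) (g₀ : G ⧸ M), g₀⁻¹ * z ^ k * g₀ ∈ H → g₀⁻¹ * z ^ k * g₀ = z ^ k := fun k g₀ _ => by
    rw [mul_assoc, ← ((show Commute g₀ z from hzc g₀).pow_right k).eq, inv_mul_cancel_left]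
  let τ : G ⧸ M →* ℤˣ := MonoidHom.transfer χ
  have hidx : H.index = 21 := by
    have hc := Subgroup.card_mul_index H
    have hG := Subgroup.card_mul_index ψ.ker
    rw [Subgroup.index_ker, hk2, MonoidHom.range_eq_top.2 hψs, Subgroup.card_top, S2553.card_gl3] at hG
    rw [hHcard, ← hG] at hc
    omega
  have hzz : z ^ 2 = 1 := by
    rcases hz12 _ (ψ.ker.mul_mem hz hz) with e | e
    · rw [pow_two]; exact e
    · exact absurd (mul_eq_left.1 e) hz1
  have hτz : τ z = -1 := by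
    show MonoidHom.transfer χ z = -1
    rw [MonoidHom.transfer_eq_pow χ z key]
    show (if (⟨z ^ H.index, _⟩ : ↥H) ∈ D.range.subgroupOf H then (1 : ℤˣ) else -1) = -1
    rw [if_neg]
    rw [Subgroup.mem_subgroupOf]
    show z ^ H.index ∉ D.range
    rw [hidx, show 21 = 2 * 10 + 1 from rfl, pow_succ, pow_mul, hzz, one_pow, one_mul]
    rintro ⟨d, hd⟩
    have hd1 : D' d = 1 := by rw [← hDD, hd]; exact MonoidHom.mem_ker.1 hz
    rw [← map_one D'] at hd1
    rw [hD'inj hd1, map_one] at hd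
    exact hz1 hd.symm
  let X := (τ.comp π).ker
  have hMX : M ≤ X := fun x hx => by
    rw [MonoidHom.mem_ker, MonoidHom.comp_apply, hone x hx, map_one]
  have hXQ : ∀ x ∈ X, φ x = 1 → x ∈ M := by
    intro x hx hφx
    rcases hz12 (π x) (MonoidHom.mem_ker.2 ((hψ x).trans hφx)) with e | e
    · exact (QuotientGroup.eq_one_iff x).1 e
    · exfalso
      rw [MonoidHom.mem_ker, MonoidHom.comp_apply, e, hτz] at hx
      exact absurd hx (by decide)
  refine ⟨X, hMX, ?_, hXQ⟩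
  haveI : IsSimpleGroup L3 := S2553.simple_gl3
  have hn : (X.map φ).Normal := Subgroup.Normal.map inferInstance φ hφ
  rw [← MonoidHom.range_eq_top, MonoidHom.range_comp, Subgroup.range_subtype]
  refine hn.eq_bot_or_eq_top.resolve_left fun hbot => ?_
  have hXle : X ≤ M := fun x hx => hXQ x hx (Subgroup.mem_bot.1 (hbot ▸ ⟨x, hx, rfl⟩))
  have hX2 : X.index ≤ 2 := by
    rw [Subgroup.index_ker]
    exact (Subgroup.card_le_card_group _).trans (by rw [Nat.card_eq_fintype_card, Fintype.card_units_int])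
  have h1 := Subgroup.card_mul_index X
  have h2' := Subgroup.card_mul_index φ.ker
  rw [Subgroup.index_ker, MonoidHom.range_eq_top.2 hφ, Subgroup.card_top, S2553.card_gl3, hker, h2] at h2'
  have := Nat.mul_le_mul (Subgroup.card_le_of_le hXle) hX2
  have := Nat.card_pos (α := M)
  omega

end Cfsg.Agent.Lib.Inv59.RankFour.Seven
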