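import Mathlib
import Cfsg.Agent.Lib.Inv59.RankFour.Seven.Par

/-!
# No layer `Z/4`-natural in sectional rank four
-/

set_option autoImplicit false
set_option linter.unusedSectionVars false
set_option linter.style.haveILetI false
set_option synthInstance.maxSize 4000
set_option synthInstance.maxHeartbeats 400000

namespace Cfsg.Agent.Lib.Inv59.RankFour.Seven

universe u v

variable {G : Type u} [Group G]

/-- The commutator with `g`. -/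
def cm (g x : G) : G := g * x * g⁻¹ * x⁻¹

/-- The conditions on the module. -/
structure CoreData (M Om W : Subgroup G) (F : Frame W) : Prop where
  mnormal : M.Normal
  omnormal : Om.Normal
  wnormal : W.Normal
  comm : ∀ a ∈ M, ∀ b ∈ M, a * b = b * a
  mem_om : ∀ x, x ∈ Om ↔ x ∈ M ∧ x * x = 1
  w_om : W ≤ Om
  sq : ∀ x ∈ M, x * x ∈ W
  root : ∀ w ∈ W, ∃ x ∈ M, x * x = w
  cent : ∀ g, (∀ w ∈ W, g * w = w * g) → g ∈ M
  small : ∀ a ∈ Om, ∀ b ∈ Om, a ∉ W → b ∉ W → a * b ∈ W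

namespace CoreData

variable {M Om W : Subgroup G} {F : Frame W} (D : CoreData M Om W F)

include D

theorem om_le : Om ≤ M := fun _ hx => ((D.mem_om _).1 hx).1

theorem om_sq {x : G} (hx : x ∈ Om) : x * x = 1 := ((D.mem_om x).1 hx).2

theorem conjM (g : G) {x : G} (hx : x ∈ M) : g * x * g⁻¹ ∈ M := D.mnormal.conj_mem x hx g

theorem cm_mem (g : G) {x : G} (hx : x ∈ M) : cm g x ∈ M := M.mul_mem (D.conjM g hx) (M.inv_mem hx)

theorem cm_mul (g : G) {x y : G} (hx : x ∈ M) (hy : y ∈ M) : cm g (x * y) = cm g x * cm g y := by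
  unfold cm
  calc g * (x * y) * g⁻¹ * (x * y)⁻¹ = g * x * g⁻¹ * ((g * y * g⁻¹ * y⁻¹) * x⁻¹) := by group
    _ = g * x * g⁻¹ * (x⁻¹ * (g * y * g⁻¹ * y⁻¹)) := by
      rw [D.comm _ (show g * y * g⁻¹ * y⁻¹ ∈ M from D.cm_mem g hy) _ (M.inv_mem hx)]
    _ = g * x * g⁻¹ * x⁻¹ * (g * y * g⁻¹ * y⁻¹) := by group

theorem cm_sq (g : G) {x : G} (hx : x ∈ M) : cm g x * cm g x = cm g (x * x) := (D.cm_mul g hx hx).symm

theorem cm_W {g : G} {σ : V3 ≃+ V3} (hg : F.Acts g σ) (v : V3) : cm g (F.e v) = F.e (σ v + v) := by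
  rw [F.add, cm, hg, F.inv]

theorem same (g : G) {m x : G} (hm : m ∈ M) (hx : x ∈ M) : cm (g * m) x = cm g x := by
  unfold cm
  rw [show g * m * x * (g * m)⁻¹ * x⁻¹ = g * (m * x * m⁻¹) * g⁻¹ * x⁻¹ by group,
    D.comm m hm x hx, mul_inv_cancel_right]

theorem same' {g g' : G} (h : g⁻¹ * g' ∈ M) {x : G} (hx : x ∈ M) : cm g' x = cm g x := by
  rw [show g' = g * (g⁻¹ * g') by group, D.same g h hx]

theorem cm_cm {g : G} (hg : g * g ∈ M) {x : G} (hx : x ∈ M) : cm g (cm g x) = (cm g x * cm g x)⁻¹ := by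
  have h1 : g * g * x * (g * g)⁻¹ = x := by rw [D.comm _ hg x hx, mul_inv_cancel_right]
  unfold cm
  calc g * (g * x * g⁻¹ * x⁻¹) * g⁻¹ * (g * x * g⁻¹ * x⁻¹)⁻¹
      = (g * g * x * (g * g)⁻¹) * (g * x * g⁻¹)⁻¹ * (g * x * g⁻¹ * x⁻¹)⁻¹ := by group
    _ = x * (g * x * g⁻¹)⁻¹ * (g * x * g⁻¹ * x⁻¹)⁻¹ := by rw [h1]
    _ = (g * x * g⁻¹ * x⁻¹ * (g * x * g⁻¹ * x⁻¹))⁻¹ := by group

theorem cm_prod (g h : G) {x : G} (hx : x ∈ M) : cm (g * h) x = cm g (cm h x) * cm g x * cm h x := by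
  have h1 : cm (g * h) x = cm g (h * x * h⁻¹) * cm h x := by unfold cm; group
  rw [h1, show h * x * h⁻¹ = cm h x * x by unfold cm; group, D.cm_mul g (D.cm_mem h hx) hx]

theorem cm_comm {g h : G} (hc : g * h * g⁻¹ * h⁻¹ ∈ M) {x : G} (hx : x ∈ M) :
    cm g (cm h x) = cm h (cm g x) := by
  have hM : (h * g)⁻¹ * (g * h) ∈ M := by
    have := D.conjM (h * g)⁻¹ hc
    rwa [show (h * g)⁻¹ * (g * h * g⁻¹ * h⁻¹) * (h * g)⁻¹⁻¹ = (h * g)⁻¹ * (g * h) by group] at this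
  have h1 := D.same' hM hx
  rw [D.cm_prod g h hx, D.cm_prod h g hx, mul_assoc, mul_assoc,
    D.comm (cm h x) (D.cm_mem h hx) (cm g x) (D.cm_mem g hx)] at h1
  exact mul_right_cancel h1

theorem inv_om {x : G} (hx : x ∈ Om) : x⁻¹ = x := inv_eq_of_mul_eq_one_right (D.om_sq hx)

/-- `[g, ·]` maps the elements of order two into `W`. -/
theorem cm_om (g : G) {x : G} (hx : x ∈ Om) : cm g x ∈ W := by
  by_cases hW : x ∈ W
  · exact W.mul_mem (D.wnormal.conj_mem x hW g) (W.inv_mem hW)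
  · refine D.small _ (D.omnormal.conj_mem x hx g) _ (Om.inv_mem hx) (fun h => hW ?_) (fun h => hW ?_)
    · have := D.wnormal.conj_mem _ h g⁻¹
      rwa [show g⁻¹ * (g * x * g⁻¹) * g⁻¹⁻¹ = x by group] at this
    · have := W.inv_mem h
      rwa [inv_inv] at this

theorem fix_iff {g x : G} : cm g x = 1 ↔ g * x = x * g := by
  rw [cm, mul_inv_eq_one, mul_inv_eq_iff_eq_mul]

/-- The coordinates on `M / Ω` given by squaring. -/
theorem quotient_frame : ∃ X : V3 → G, (∀ v, X v ∈ M ∧ X v * X v = F.e v) ∧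
    ∀ g σ, F.Acts g σ → ∀ v, (g * X v * g⁻¹) * (X (σ v))⁻¹ ∈ Om := by
  choose X hXM hXsq using fun v => D.root (F.e v) (F.mem v)
  refine ⟨X, fun v => ⟨hXM v, hXsq v⟩, fun g σ hg v => (D.mem_om _).2 ⟨M.mul_mem (D.conjM g (hXM v)) (M.inv_mem (hXM _)), ?_⟩⟩
  have hc := D.comm _ (M.inv_mem (hXM (σ v))) _ (D.conjM g (hXM v))
  calc g * X v * g⁻¹ * (X (σ v))⁻¹ * (g * X v * g⁻¹ * (X (σ v))⁻¹)
      = g * X v * g⁻¹ * ((X (σ v))⁻¹ * (g * X v * g⁻¹)) * (X (σ v))⁻¹ := by group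
    _ = g * X v * g⁻¹ * ((g * X v * g⁻¹) * (X (σ v))⁻¹) * (X (σ v))⁻¹ := by rw [hc]
    _ = g * (X v * X v) * g⁻¹ * (X (σ v) * X (σ v))⁻¹ := by group
    _ = 1 := by rw [hXsq, hXsq, hg, mul_inv_cancel]

theorem root_congr {x y : G} (hx : x ∈ M) (hy : y ∈ M) (h : x * x = y * y) : x⁻¹ * y ∈ Om := by
  refine (D.mem_om _).2 ⟨M.mul_mem (M.inv_mem hx) hy, ?_⟩
  calc x⁻¹ * y * (x⁻¹ * y) = x⁻¹ * (y * x⁻¹) * y := by group
    _ = x⁻¹ * (x⁻¹ * y) * y := by rw [D.comm y hy _ (M.inv_mem hx)]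
    _ = (x * x)⁻¹ * (y * y) := by group
    _ = 1 := by rw [h, inv_mul_cancel]

end CoreData

theorem adjust_key₁ : ∀ a : V3, (a = 0 ∨ a = cp) → ∃ v : V3, t1 v + v = a ∧ t2 v = v := by decide +kernel

theorem adjust_key₂ : ∀ a : V3, (a = 0 ∨ a = cp) → ∃ v : V3, t2 v + v = a := by decide +kernel

theorem adjust_key₃ : ∀ a : V3, (a = 0 ∨ a = cp) → ∃ v : V3, t1 v = v ∧ t1 (t2 v + v) = a := by decide +kernel

theorem fixed_both : ∀ r : V3, t1 r = r → t2 r = r → r = 0 ∨ r = cp := by decide +kernel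

/-- Lifts of the two transvections with squares and commutator of order at most two. -/
theorem core_lifts [Finite G] {M Om W : Subgroup G} {F : Frame W} (D : CoreData M Om W F) :
    ∃ g₁ g₂, F.Acts g₁ t1 ∧ F.Acts g₂ t2 ∧ g₁ * g₁ ∈ Om ∧ g₂ * g₂ ∈ Om ∧ g₁ * g₂ * g₁⁻¹ * g₂⁻¹ ∈ Om := by
  haveI := D.omnormal
  obtain ⟨X, hX, hXg⟩ := D.quotient_frame
  let π := QuotientGroup.mk' Om
  have hπs : Function.Surjective π := QuotientGroup.mk'_surjective Om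
  have hone : ∀ x, π x = 1 ↔ x ∈ Om := fun x => QuotientGroup.eq_one_iff x
  have hπeq : ∀ {x y : G}, x ∈ M → y ∈ M → x * x = y * y → π x = π y := by
    intro x y hx hy h
    have h1 := (hone _).2 (D.root_congr hx hy h)
    rw [map_mul, map_inv, inv_mul_eq_one] at h1
    exact h1
  let F' : Frame (M.map π) :=
    { e := fun v => π (X v)
      mem := fun v => ⟨_, (hX v).1, rfl⟩
      surj := by
        rintro _ ⟨x, hx, rfl⟩
        obtain ⟨v, hv⟩ := F.surj _ (D.sq x hx)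
        exact ⟨v, hπeq (hX v).1 hx (by rw [(hX v).2, hv])⟩
      inj := fun a b h => by
        have h1 : π ((X a)⁻¹ * X b) = 1 := by rw [map_mul, map_inv]; exact inv_mul_eq_one.2 h
        have h2 := D.om_sq ((hone _).1 h1)
        refine F.inj ?_
        rw [← (hX a).2, ← (hX b).2]
        refine inv_mul_eq_one.1 ?_
        calc (X a * X a)⁻¹ * (X b * X b) = (X a)⁻¹ * ((X a)⁻¹ * X b) * X b := by group
          _ = (X a)⁻¹ * (X b * (X a)⁻¹) * X b := by rw [D.comm _ (M.inv_mem (hX a).1) _ (hX b).1]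
          _ = (X a)⁻¹ * X b * ((X a)⁻¹ * X b) := by group
          _ = 1 := h2
      add := fun a b => by
        rw [← map_mul]
        refine hπeq (hX _).1 (M.mul_mem (hX a).1 (hX b).1) ?_
        rw [(hX _).2, F.add, ← (hX a).2, ← (hX b).2]
        calc X a * X a * (X b * X b) = X a * (X a * X b) * X b := by group
          _ = X a * (X b * X a) * X b := by rw [D.comm _ (hX a).1 _ (hX b).1]
          _ = X a * X b * (X a * X b) := by group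
      rep := fun σ => by
        obtain ⟨g, hg⟩ := F.rep σ
        refine ⟨π g, fun v => ?_⟩
        have h := (hone _).2 (hXg g σ hg v)
        rw [map_mul, map_mul, map_mul, map_inv, map_inv, mul_inv_eq_one] at h
        exact h }
  have hdown : ∀ (g : G) σ, F'.Acts (π g) σ → F.Acts g σ := by
    intro g σ hg v
    have h : π (g * X v * g⁻¹) = π (X (σ v)) := by rw [map_mul, map_mul, map_inv]; exact hg v
    have h1 := D.om_sq ((hone _).1 (show π ((g * X v * g⁻¹)⁻¹ * X (σ v)) = 1 by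
      rw [map_mul, map_inv, h, inv_mul_cancel]))
    have hc := D.comm _ (M.inv_mem (D.conjM g (hX v).1)) _ (hX (σ v)).1
    rw [← (hX v).2, ← (hX (σ v)).2]
    refine inv_mul_eq_one.1 ?_
    calc (g * (X v * X v) * g⁻¹)⁻¹ * (X (σ v) * X (σ v))
        = (g * X v * g⁻¹)⁻¹ * ((g * X v * g⁻¹)⁻¹ * X (σ v)) * X (σ v) := by group
      _ = (g * X v * g⁻¹)⁻¹ * (X (σ v) * (g * X v * g⁻¹)⁻¹) * X (σ v) := by rw [hc]
      _ = (g * X v * g⁻¹)⁻¹ * X (σ v) * ((g * X v * g⁻¹)⁻¹ * X (σ v)) := by group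
      _ = 1 := h1
  obtain ⟨h₁, h₂, ha₁, ha₂, hs₁, hs₂, hs₃⟩ := parity F' (by
    intro h hh
    obtain ⟨a, rfl⟩ := hπs h
    refine ⟨a, D.cent a fun w hw => ?_, rfl⟩
    obtain ⟨v, rfl⟩ := F.surj w hw
    have h1 : F'.Acts (π a) (AddEquiv.refl V3) := fun v => by
      show π a * F'.e v * (π a)⁻¹ = F'.e v
      rw [hh _ (F'.mem v), mul_inv_cancel_right]
    exact mul_inv_eq_iff_eq_mul.1 (hdown a _ h1 v))
  have hval : ∀ r : G ⧸ Om, r = 1 ∨ r = F'.e cp → ∃ a, (a = 0 ∨ a = cp) ∧ r = F'.e a := by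
    rintro r (h | h)
    · exact ⟨0, Or.inl rfl, h.trans F'.zero.symm⟩
    · exact ⟨cp, Or.inr rfl, h⟩
  obtain ⟨a, ha, hsa⟩ := hval _ hs₁
  obtain ⟨b, hb, hsb⟩ := hval _ hs₂
  obtain ⟨v₁, hv₁, hv₁'⟩ := adjust_key₁ a ha
  obtain ⟨v₂, hv₂⟩ := adjust_key₂ b hb
  have hmulsq : ∀ (g : G ⧸ Om) (σ : V3 ≃+ V3) (v : V3), F'.Acts g σ → (∀ w, σ (σ w) = w) →
      g * F'.e v * (g * F'.e v) = g * g * F'.e (σ v + v) := by
    intro g σ v hg hσ
    have h1 : g⁻¹ * F'.e v * g = F'.e (σ v) := by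
      conv_lhs => rw [← hσ v, ← hg]
      group
    rw [F'.add, ← h1]
    group
  set k₁ := h₁ * F'.e v₁
  set k₂ := h₂ * F'.e v₂
  have hself : ∀ v, F'.Acts (F'.e v) (AddEquiv.refl V3) := fun v w => by
    show F'.e v * F'.e w * (F'.e v)⁻¹ = F'.e w
    rw [F'.comm, mul_inv_cancel_right]
  have hk₁ : F'.Acts k₁ t1 := F'.acts_mul ha₁ (hself _) fun v => rfl
  have hk₂ : F'.Acts k₂ t2 := F'.acts_mul ha₂ (hself _) fun v => rfl
  have hk₁s : k₁ * k₁ = 1 := by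
    rw [hmulsq h₁ t1 v₁ ha₁ (fun v => (invol_all v).1), hsa, hv₁, ← F'.add, Frame.add_self, F'.zero]
  have hk₂s : k₂ * k₂ = 1 := by
    rw [hmulsq h₂ t2 v₂ ha₂ (fun v => (invol_all v).2.1), hsb, hv₂, ← F'.add, Frame.add_self, F'.zero]
  -- the commutator
  have hkc : ∃ r, (r = 0 ∨ r = cp) ∧ k₁ * k₂ * k₁⁻¹ * k₂⁻¹ = F'.e r := by
    obtain ⟨r, hr⟩ := F'.surj (k₁ * k₂ * k₁⁻¹ * k₂⁻¹) (by
      obtain ⟨a', ha'⟩ := hπs h₁
      obtain ⟨b', hb'⟩ := hπs h₂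
      obtain ⟨a₁, hk1⟩ := hπs k₁
      obtain ⟨a₂, hk2⟩ := hπs k₂
      refine ⟨a₁ * a₂ * a₁⁻¹ * a₂⁻¹, D.cent _ ?_, by rw [map_mul, map_mul, map_mul, map_inv, map_inv, hk1, hk2]⟩
      exact F.comm_central (hdown a₁ _ (by rw [hk1]; exact hk₁)) (hdown a₂ _ (by rw [hk2]; exact hk₂))
        (fun v => (invol_all v).2.2.2.2.1) (fun v => (invol_all v).2.2.2.2.2.1))
    refine ⟨r, ?_, hr.symm⟩
    have e1 : t1 r = r := F'.inj (by
      rw [← hk₁, hr]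
      calc k₁ * (k₁ * k₂ * k₁⁻¹ * k₂⁻¹) * k₁⁻¹ = k₁ * k₁ * k₂ * (k₁ * k₁)⁻¹ * (k₁ * k₂ * k₁⁻¹)⁻¹ := by group
        _ = (k₁ * k₂ * k₁⁻¹ * k₂⁻¹)⁻¹ := by rw [hk₁s]; group
        _ = k₁ * k₂ * k₁⁻¹ * k₂⁻¹ := by rw [← hr, F'.inv])
    have e2 : t2 r = r := F'.inj (by
      rw [← hk₂, hr]
      have hk₂i : k₂⁻¹ = k₂ := inv_eq_of_mul_eq_one_right hk₂s
      calc k₂ * (k₁ * k₂ * k₁⁻¹ * k₂⁻¹) * k₂⁻¹ = k₂ * k₁ * k₂ * k₁⁻¹ * (k₂⁻¹ * k₂⁻¹) := by group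
        _ = k₂ * k₁ * k₂⁻¹ * k₁⁻¹ := by rw [← mul_inv_rev, hk₂s, inv_one, mul_one, hk₂i]
        _ = (k₁ * k₂ * k₁⁻¹ * k₂⁻¹)⁻¹ := by group
        _ = k₁ * k₂ * k₁⁻¹ * k₂⁻¹ := by rw [← hr, F'.inv])
    exact fixed_both r e1 e2
  obtain ⟨r, hr, hkr⟩ := hkc
  obtain ⟨v₃, hv₃, hv₃'⟩ := adjust_key₃ r hr
  set l₁ := k₁ * F'.e v₃ with hl₁
  have hl₁a : F'.Acts l₁ t1 := F'.acts_mul hk₁ (hself _) fun v => rfl
  have hl₁s : l₁ * l₁ = 1 := by
    rw [hl₁, hmulsq k₁ t1 v₃ hk₁ (fun v => (invol_all v).1), hk₁s, hv₃, Frame.add_self, F'.zero, one_mul]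
  have hlc : l₁ * k₂ * l₁⁻¹ * k₂⁻¹ = 1 := by
    calc l₁ * k₂ * l₁⁻¹ * k₂⁻¹
        = k₁ * (F'.e v₃ * (k₂ * (F'.e v₃)⁻¹ * k₂⁻¹)) * k₁⁻¹ * (k₁ * k₂ * k₁⁻¹ * k₂⁻¹) := by rw [hl₁]; group
      _ = k₁ * (F'.e v₃ * F'.e (t2 v₃)) * k₁⁻¹ * F'.e r := by rw [F'.inv, hk₂, hkr]
      _ = F'.e (t1 (v₃ + t2 v₃)) * F'.e r := by rw [← F'.add, hk₁]
      _ = 1 := by rw [add_comm v₃, hv₃', ← F'.add, Frame.add_self, F'.zero]
  obtain ⟨g₁, hg₁⟩ := hπs l₁
  obtain ⟨g₂, hg₂⟩ := hπs k₂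
  refine ⟨g₁, g₂, hdown g₁ _ (hg₁ ▸ hl₁a), hdown g₂ _ (hg₂ ▸ hk₂), (hone _).1 ?_, (hone _).1 ?_, (hone _).1 ?_⟩
  · rw [map_mul, hg₁, hl₁s]
  · rw [map_mul, hg₂, hk₂s]
  · rw [map_mul, map_mul, map_mul, map_inv, map_inv, hg₁, hg₂, hlc]

/-- A basis vector fixed by `t1`. -/
def q1 : V3 := vec 0 1 0

/-- A basis vector fixed by `t2`. -/
def q2 : V3 := vec 0 0 1

/-- A vector fixed by `t3`. -/
def q3 : V3 := vec 0 1 1

theorem q_facts : t1 q1 = q1 ∧ t1 q2 + q2 = cp ∧ t2 q1 + q1 = cp ∧ t2 q2 = q2 ∧ h2 q1 = q2 ∧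
    h3 q1 = q3 ∧ q1 + q2 = q3 ∧ t1 cp = cp ∧ t2 cp = cp ∧ cp + cp = 0 ∧ cp ≠ 0 := by decide +kernel

theorem t_cases : ∀ v : V3, (t1 v + v = 0 ∨ t1 v + v = cp) ∧ (t2 v + v = 0 ∨ t2 v + v = cp) ∧
    (t3 v + v = 0 ∨ t3 v + v = cp) := by decide +kernel

theorem conj_maps : ∀ v, h2 (t2 (h2 v)) = t1 v ∧ h3 (t3 (h3 v)) = t1 v ∧ h3 (t2 (h3 v)) = t2 v := by
  decide +kernel

theorem outside_key : ∀ v w : V3, t1 v = v → t2 w = w → t2 v + v = t1 w + w →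
    (∃ r, t1 r + r = v ∧ t2 r + r = w) ∨ ((v = q1 ∨ v = q1 + cp) ∧ (w = q2 ∨ w = q2 + cp)) := by
  decide +kernel

theorem fixed_t1 : ∀ v : V3, t1 v + v = 0 → v = 0 ∨ v = cp ∨ v = q1 ∨ v = q1 + cp := by decide +kernel

theorem flat_key : ∀ i i' j j' : ZMod 2, t1 (vec 0 i j + vec 0 i' j') + (vec 0 i j + vec 0 i' j') = 0 →
    t2 (vec 0 i j + vec 0 i' j') + (vec 0 i j + vec 0 i' j') = 0 → i = i' ∧ j = j' := by decide +kernel

/-- Lifts of the two transvections with squares and commutator in `Ω`. -/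
structure Lifts {W : Subgroup G} (F : Frame W) (Om : Subgroup G) (g₁ g₂ : G) : Prop where
  a₁ : F.Acts g₁ t1
  a₂ : F.Acts g₂ t2
  s₁ : g₁ * g₁ ∈ Om
  s₂ : g₂ * g₂ ∈ Om
  s₁₂ : g₁ * g₂ * g₁⁻¹ * g₂⁻¹ ∈ Om

/-- The elements of `Ω` fixed by both lifts. -/
def kc (Om : Subgroup G) (g₁ g₂ : G) : Subgroup G := Om ⊓ Subgroup.centralizer {g₁, g₂}

theorem mem_kc {Om : Subgroup G} {g₁ g₂ x : G} :
    x ∈ kc Om g₁ g₂ ↔ x ∈ Om ∧ cm g₁ x = 1 ∧ cm g₂ x = 1 := by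
  simp [kc, Subgroup.mem_centralizer_iff, cm, mul_inv_eq_one, mul_inv_eq_iff_eq_mul]

theorem cm_conj (k g x : G) : cm (k * g * k⁻¹) (k * x * k⁻¹) = k * cm g x * k⁻¹ := by
  unfold cm; group

theorem cm_one (g : G) : cm g 1 = 1 := by unfold cm; group

theorem cm_self_sq (g : G) : cm g (g * g) = 1 := by unfold cm; group

theorem Frame.acts_inv {W : Subgroup G} (F : Frame W) {k : G} {σ : V3 ≃+ V3} (hk : F.Acts k σ)
    (hinv : ∀ v, σ (σ v) = v) : F.Acts k⁻¹ σ := by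
  intro v
  conv_lhs => rw [← hinv v, ← hk]
  group

namespace CoreData

variable {M Om W : Subgroup G} {F : Frame W} (D : CoreData M Om W F) {g₁ g₂ : G} (L : Lifts F Om g₁ g₂)

include D

theorem e_om (v : V3) : F.e v ∈ Om := D.w_om (F.mem v)

theorem same_acts {g g' : G} {σ : V3 ≃+ V3} (hg : F.Acts g σ) (hg' : F.Acts g' σ) {x : G} (hx : x ∈ M) :
    cm g' x = cm g x :=
  D.same' (D.cent _ (F.same_action hg hg')) hx

theorem cm_om' (g : G) {x : G} (hx : x ∈ Om) : ∃ v, cm g x = F.e v := by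
  obtain ⟨v, hv⟩ := F.surj _ (D.cm_om g hx)
  exact ⟨v, hv.symm⟩

theorem root_split {x y : G} (hx : x ∈ M) (hy : y ∈ M) (h : x * x = y * y) : ∃ o ∈ Om, y = x * o :=
  ⟨x⁻¹ * y, D.root_congr hx hy h, (mul_inv_cancel_left x y).symm⟩

include L

theorem g₁M : g₁ * g₁ ∈ M := D.om_le L.s₁

theorem g₂M : g₂ * g₂ ∈ M := D.om_le L.s₂

theorem k_mem_iff {v : V3} : F.e v ∈ kc Om g₁ g₂ ↔ t1 v + v = 0 ∧ t2 v + v = 0 := by
  rw [mem_kc, D.cm_W L.a₁, D.cm_W L.a₂, F.eq_one, F.eq_one]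
  exact and_iff_right (D.e_om v)

theorem cp_mem : F.e cp ∈ kc Om g₁ g₂ := (D.k_mem_iff L).2 ⟨by decide, by decide⟩

theorem pair {v : V3} (hv : v = 0 ∨ v = cp) : F.e v ∈ kc Om g₁ g₂ := by
  rcases hv with rfl | rfl
  · rw [F.zero]; exact Subgroup.one_mem _
  · exact D.cp_mem L

theorem fixed_coset₁ {x : G} (hx : x ∈ Om) (h : cm g₁ x = 1) :
    x ∈ kc Om g₁ g₂ ∨ x * F.e q1 ∈ kc Om g₁ g₂ := by
  obtain ⟨v, hv⟩ := D.cm_om' g₂ hx
  have e1 : t1 v + v = 0 := F.eq_one.1 (by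
    rw [← D.cm_W L.a₁, ← hv, D.cm_comm (D.om_le L.s₁₂) (D.om_le hx), h, cm_one])
  have e2 : t2 v + v = 0 := F.eq_one.1 (by
    rw [← D.cm_W L.a₂, ← hv, D.cm_cm (D.g₂M L) (D.om_le hx), hv, F.sq, inv_one])
  rcases fixed_both v (add_eq_zero_iff_eq_neg.1 e1 |>.trans (by simp [neg_eq_of_add_eq_zero_left (Frame.add_self v)]))
      (add_eq_zero_iff_eq_neg.1 e2 |>.trans (by simp [neg_eq_of_add_eq_zero_left (Frame.add_self v)])) with rfl | rfl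
  · exact Or.inl (mem_kc.2 ⟨hx, h, hv.trans F.zero⟩)
  · refine Or.inr (mem_kc.2 ⟨Om.mul_mem hx (D.e_om _), ?_, ?_⟩)
    · rw [D.cm_mul _ (D.om_le hx) (D.om_le (D.e_om _)), h, D.cm_W L.a₁, one_mul, F.eq_one]; decide
    · rw [D.cm_mul _ (D.om_le hx) (D.om_le (D.e_om _)), hv, D.cm_W L.a₂, ← F.add, F.eq_one]; decide

theorem fixed_coset₂ {x : G} (hx : x ∈ Om) (h : cm g₂ x = 1) :
    x ∈ kc Om g₁ g₂ ∨ x * F.e q2 ∈ kc Om g₁ g₂ := by
  obtain ⟨v, hv⟩ := D.cm_om' g₁ hx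
  have e1 : t2 v + v = 0 := F.eq_one.1 (by
    rw [← D.cm_W L.a₂, ← hv, ← D.cm_comm (D.om_le L.s₁₂) (D.om_le hx), h, cm_one])
  have e2 : t1 v + v = 0 := F.eq_one.1 (by
    rw [← D.cm_W L.a₁, ← hv, D.cm_cm (D.g₁M L) (D.om_le hx), hv, F.sq, inv_one])
  rcases fixed_both v (add_eq_zero_iff_eq_neg.1 e2 |>.trans (by simp [neg_eq_of_add_eq_zero_left (Frame.add_self v)]))
      (add_eq_zero_iff_eq_neg.1 e1 |>.trans (by simp [neg_eq_of_add_eq_zero_left (Frame.add_self v)])) with rfl | rfl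
  · exact Or.inl (mem_kc.2 ⟨hx, hv.trans F.zero, h⟩)
  · refine Or.inr (mem_kc.2 ⟨Om.mul_mem hx (D.e_om _), ?_, ?_⟩)
    · rw [D.cm_mul _ (D.om_le hx) (D.om_le (D.e_om _)), hv, D.cm_W L.a₁, ← F.add, F.eq_one]; decide
    · rw [D.cm_mul _ (D.om_le hx) (D.om_le (D.e_om _)), h, D.cm_W L.a₂, one_mul, F.eq_one]; decide

theorem cm_square₁ : cm g₂ (g₁ * g₁) = cm g₁ (g₁ * g₂ * g₁⁻¹ * g₂⁻¹) := by
  have hc := D.om_le L.s₁₂
  have hci := D.inv_om L.s₁₂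
  set c := g₁ * g₂ * g₁⁻¹ * g₂⁻¹ with hcdef
  calc cm g₂ (g₁ * g₁) = c⁻¹ * (g₁ * c⁻¹ * g₁⁻¹) := by rw [hcdef, cm]; group
    _ = (g₁ * c * g₁⁻¹) * c⁻¹ := by rw [hci, D.comm c hc _ (D.conjM g₁ hc)]
    _ = cm g₁ c := rfl

theorem cm_square₂ : cm g₁ (g₂ * g₂) = cm g₂ (g₁ * g₂ * g₁⁻¹ * g₂⁻¹) := by
  have hc := D.om_le L.s₁₂
  have hci := D.inv_om L.s₁₂
  set c := g₁ * g₂ * g₁⁻¹ * g₂⁻¹ with hcdef
  calc cm g₁ (g₂ * g₂) = c * (g₂ * c * g₂⁻¹) := by rw [hcdef, cm]; group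
    _ = (g₂ * c * g₂⁻¹) * c := D.comm c hc _ (D.conjM g₂ hc)
    _ = cm g₂ c := by rw [cm, hci]

theorem comm_kc (h₁ : g₁ * g₁ ∈ kc Om g₁ g₂) (h₂ : g₂ * g₂ ∈ kc Om g₁ g₂) :
    g₁ * g₂ * g₁⁻¹ * g₂⁻¹ ∈ kc Om g₁ g₂ :=
  mem_kc.2 ⟨L.s₁₂, (D.cm_square₁ L).symm.trans (mem_kc.1 h₁).2.2,
    (D.cm_square₂ L).symm.trans (mem_kc.1 h₂).2.1⟩

theorem square_parity (hb : g₂ * g₂ ∈ kc Om g₁ g₂ ↔ g₁ * g₁ ∈ kc Om g₁ g₂)
    (hz : g₁ * g₂ * (g₁ * g₂) ∈ kc Om g₁ g₂ ↔ g₁ * g₁ ∈ kc Om g₁ g₂) :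
    g₁ * g₁ ∈ kc Om g₁ g₂ ∧ g₂ * g₂ ∈ kc Om g₁ g₂ := by
  by_cases h : g₁ * g₁ ∈ kc Om g₁ g₂
  · exact ⟨h, hb.2 h⟩
  exfalso
  have h1 := (D.fixed_coset₁ L L.s₁ (cm_self_sq g₁)).resolve_left h
  have h2 := (D.fixed_coset₂ L L.s₂ (cm_self_sq g₂)).resolve_left (fun e => h (hb.1 e))
  have hu1 : cm g₂ (g₁ * g₁) = F.e cp := by
    have e := (mem_kc.1 h1).2.2
    rw [D.cm_mul _ (D.om_le L.s₁) (D.om_le (D.e_om _)), D.cm_W L.a₂, q_facts.2.2.1,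
      mul_eq_one_iff_eq_inv, F.inv] at e
    exact e
  have hu2 : cm g₁ (g₂ * g₂) = F.e cp := by
    have e := (mem_kc.1 h2).2.1
    rw [D.cm_mul _ (D.om_le L.s₂) (D.om_le (D.e_om _)), D.cm_W L.a₁, q_facts.2.1,
      mul_eq_one_iff_eq_inv, F.inv] at e
    exact e
  have hc1 := (D.cm_square₁ L).symm.trans hu1
  have hc2 := (D.cm_square₂ L).symm.trans hu2
  have hcm := L.s₁₂
  set c := g₁ * g₂ * g₁⁻¹ * g₂⁻¹ with hcdef
  have h3 : c * F.e q3 ∈ kc Om g₁ g₂ := by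
    refine mem_kc.2 ⟨Om.mul_mem hcm (D.e_om _), ?_, ?_⟩
    · rw [D.cm_mul _ (D.om_le hcm) (D.om_le (D.e_om _)), hc1, D.cm_W L.a₁, ← F.add, F.eq_one]; decide
    · rw [D.cm_mul _ (D.om_le hcm) (D.om_le (D.e_om _)), hc2, D.cm_W L.a₂, ← F.add, F.eq_one]; decide
  refine h (hz.1 ?_)
  have e : g₁ * g₂ * (g₁ * g₂) = c * (cm g₂ (g₁ * g₁) * (g₁ * g₁)) * (g₂ * g₂) := by rw [hcdef, cm]; group
  rw [e, hu1]
  have e' : c * (F.e cp * (g₁ * g₁)) * (g₂ * g₂) =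
      (c * F.e q3) * F.e cp * (g₁ * g₁ * F.e q1) * (g₂ * g₂ * F.e q2) := by
    have hcp := D.om_le (D.e_om cp)
    have hz : F.e q3 * F.e q1 * F.e q2 = 1 := by rw [← F.add, ← F.add, F.eq_one]; decide
    have c1 : ∀ a ∈ M, ∀ b ∈ M, ∀ d : G, a * (b * d) = b * (a * d) := fun a ha b hb d => by
      rw [← mul_assoc, D.comm a ha b hb, mul_assoc]
    symm
    calc (c * F.e q3) * F.e cp * (g₁ * g₁ * F.e q1) * (g₂ * g₂ * F.e q2)
        = c * (F.e q3 * ((F.e cp * (g₁ * g₁)) * (F.e q1 * ((g₂ * g₂) * F.e q2)))) := by group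
      _ = c * ((F.e cp * (g₁ * g₁)) * (F.e q3 * (F.e q1 * ((g₂ * g₂) * F.e q2)))) := by
        rw [c1 _ (D.om_le (D.e_om _)) _ (M.mul_mem hcp (D.om_le L.s₁))]
      _ = c * ((F.e cp * (g₁ * g₁)) * ((F.e q3 * F.e q1) * ((g₂ * g₂) * F.e q2))) := by group
      _ = c * ((F.e cp * (g₁ * g₁)) * ((g₂ * g₂) * ((F.e q3 * F.e q1) * F.e q2))) := by
        rw [c1 _ (M.mul_mem (D.om_le (D.e_om _)) (D.om_le (D.e_om _))) _ (D.om_le L.s₂)]
      _ = c * (F.e cp * (g₁ * g₁)) * (g₂ * g₂) := by rw [hz]; group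
  rw [e']
  exact Subgroup.mul_mem _ (Subgroup.mul_mem _ (Subgroup.mul_mem _ h3 (D.cp_mem L)) h1) h2

theorem lifts_zero_of_split [Finite G] (hA : ∀ o ∈ Om, ∃ v, o * F.e v ∈ kc Om g₁ g₂) :
    g₁ * g₁ ∈ kc Om g₁ g₂ ∧ g₂ * g₂ ∈ kc Om g₁ g₂ := by
  obtain ⟨X, hX, -⟩ := D.quotient_frame
  have a₃ : F.Acts (g₁ * g₂) t3 := F.acts_mul L.a₁ L.a₂ fun v => (invol_all v).2.2.2.2.1
  have hsmall : ∀ (g : G) (σ : V3 ≃+ V3), F.Acts g σ → (∀ v, σ v + v = 0 ∨ σ v + v = cp) →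
      (∀ k ∈ kc Om g₁ g₂, cm g k = 1) → ∀ o ∈ Om, cm g o ∈ kc Om g₁ g₂ := by
    intro g σ hg hσ hgK o ho
    obtain ⟨v, hv⟩ := hA o ho
    have e : o = o * F.e v * F.e v := by rw [mul_assoc, F.sq, mul_one]
    rw [e, D.cm_mul g (D.om_le (mem_kc.1 hv).1) (D.om_le (D.e_om v)), hgK _ hv, one_mul, D.cm_W hg]
    exact D.pair L (hσ v)
  have hK₃ : ∀ k ∈ kc Om g₁ g₂, cm (g₁ * g₂) k = 1 := fun k hk => by
    rw [D.cm_prod _ _ (D.om_le (mem_kc.1 hk).1), (mem_kc.1 hk).2.2, cm_one, (mem_kc.1 hk).2.1,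
      one_mul, one_mul]
  have hsm₁ := hsmall g₁ t1 L.a₁ (fun v => (t_cases v).1) fun k hk => (mem_kc.1 hk).2.1
  have hsm₂ := hsmall g₂ t2 L.a₂ (fun v => (t_cases v).2.1) fun k hk => (mem_kc.1 hk).2.2
  have hsm₃ := hsmall (g₁ * g₂) t3 a₃ (fun v => (t_cases v).2.2) hK₃
  obtain ⟨k, hk⟩ := F.rep h2
  obtain ⟨l, hl⟩ := F.rep h3
  have i2 : ∀ v, h2 (h2 v) = v := fun v => (invol_all v).2.2.2.2.2.2.1
  have i3 : ∀ v, h3 (h3 v) = v := fun v => (invol_all v).2.2.2.2.2.2.2.1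
  have hKk : ∀ k, F.Acts k h2 → ∀ x ∈ kc Om g₁ g₂, k * x * k⁻¹ ∈ kc Om g₁ g₂ := by
    intro k hk x hx
    obtain ⟨hxo, hx1, hx2⟩ := mem_kc.1 hx
    refine mem_kc.2 ⟨D.omnormal.conj_mem x hxo k, ?_, ?_⟩
    · rw [← D.same_acts L.a₁ (F.acts_conj hk L.a₂ i2 fun v => (conj_maps v).1) (D.conjM k (D.om_le hxo)),
        cm_conj, hx2]; group
    · rw [← D.same_acts L.a₂ (F.acts_conj hk L.a₁ i2 conj_h2) (D.conjM k (D.om_le hxo)), cm_conj, hx1]; group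
  have hKl : ∀ k, F.Acts k h3 → ∀ x ∈ kc Om g₁ g₂, k * x * k⁻¹ ∈ kc Om g₁ g₂ := by
    intro k hk x hx
    obtain ⟨hxo, hx1, hx2⟩ := mem_kc.1 hx
    have h2' : cm g₂ (k * x * k⁻¹) = 1 := by
      rw [← D.same_acts L.a₂ (F.acts_conj hk L.a₂ i3 fun v => (conj_maps v).2.2) (D.conjM k (D.om_le hxo)),
        cm_conj, hx2]; group
    refine mem_kc.2 ⟨D.omnormal.conj_mem x hxo k, ?_, h2'⟩
    have e : cm (g₁ * g₂) (k * x * k⁻¹) = 1 := by
      rw [← D.same_acts a₃ (F.acts_conj hk L.a₁ i3 conj_h3) (D.conjM k (D.om_le hxo)), cm_conj, hx1]; group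
    rwa [D.cm_prod _ _ (D.conjM k (D.om_le hxo)), h2', cm_one, mul_one, one_mul] at e
  set x := X q1
  set y := X q2
  have hxM : x ∈ M := (hX q1).1
  have hyM : y ∈ M := (hX q2).1
  have hxy : x * y * (x * y) = F.e q3 := by
    calc x * y * (x * y) = x * (y * x) * y := by group
      _ = x * (x * y) * y := by rw [D.comm y hyM x hxM]
      _ = (x * x) * (y * y) := by group
      _ = F.e q3 := by rw [(hX q1).2, (hX q2).2, ← F.add, q_facts.2.2.2.2.2.2.1]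
  have hm : cm g₁ y * cm g₁ y = F.e cp := by
    rw [D.cm_sq _ hyM, (hX q2).2, D.cm_W L.a₁, q_facts.2.1]
  -- `[g₁, x]` is not fixed by both
  have hκ : cm g₁ x * F.e q1 ∈ kc Om g₁ g₂ := by
    have ho : cm g₁ x ∈ Om := (D.mem_om _).2 ⟨D.cm_mem _ hxM, by
      rw [D.cm_sq _ hxM, (hX q1).2, D.cm_W L.a₁, F.eq_one]; decide⟩
    refine (D.fixed_coset₁ L ho (by rw [D.cm_cm (D.g₁M L) hxM, D.om_sq ho, inv_one])).resolve_left fun hbad => ?_
    have hy : cm g₂ y ∈ kc Om g₁ g₂ := by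
      obtain ⟨o, hoo, he⟩ := D.root_split (D.conjM k hxM) hyM (by
        rw [show k * x * k⁻¹ * (k * x * k⁻¹) = k * (x * x) * k⁻¹ by group, (hX q1).2, hk,
          q_facts.2.2.2.2.1, (hX q2).2])
      rw [he, D.cm_mul _ (D.conjM k hxM) (D.om_le hoo),
        ← D.same_acts L.a₂ (F.acts_conj hk L.a₁ i2 conj_h2) (D.conjM k hxM), cm_conj]
      exact Subgroup.mul_mem _ (hKk k hk _ hbad) (hsm₂ o hoo)
    have hxy3 : cm (g₁ * g₂) (x * y) ∈ kc Om g₁ g₂ := by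
      obtain ⟨o, hoo, he⟩ := D.root_split (D.conjM l hxM) (M.mul_mem hxM hyM) (by
        rw [show l * x * l⁻¹ * (l * x * l⁻¹) = l * (x * x) * l⁻¹ by group, (hX q1).2, hl,
          q_facts.2.2.2.2.2.1, hxy])
      rw [he, D.cm_mul _ (D.conjM l hxM) (D.om_le hoo),
        ← D.same_acts a₃ (F.acts_conj hl L.a₁ i3 conj_h3) (D.conjM l hxM), cm_conj]
      exact Subgroup.mul_mem _ (hKl l hl _ hbad) (hsm₃ o hoo)
    have hm' := D.cm_mem g₂ hxM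
    have hcm : cm g₁ (cm g₂ x) = 1 := by
      rw [D.cm_comm (D.om_le L.s₁₂) hxM]; exact (mem_kc.1 hbad).2.2
    rw [D.cm_mul _ hxM hyM, D.cm_prod _ _ hxM, hcm, one_mul, D.cm_prod _ _ hyM, (mem_kc.1 hy).2.1,
      one_mul, show cm g₁ x * cm g₂ x * (cm g₁ y * cm g₂ y) = cm g₁ x * (cm g₂ x * cm g₁ y) * cm g₂ y by group,
      Subgroup.mul_mem_cancel_right _ hy, Subgroup.mul_mem_cancel_left _ hbad] at hxy3
    have e := (mem_kc.1 hxy3).2.1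
    rw [D.cm_mul _ hm' (D.cm_mem g₁ hyM), hcm, one_mul, D.cm_cm (D.g₁M L) hyM, hm, F.inv, F.eq_one] at e
    exact q_facts.2.2.2.2.2.2.2.2.2.2 e
  -- the class of a square does not depend on the lift
  have hindep : ∀ g', F.Acts g' t1 → g' * g' ∈ Om → (g' * g' ∈ kc Om g₁ g₂ ↔ g₁ * g₁ ∈ kc Om g₁ g₂) := by
    intro g' hg' hg'o
    have hmM : g₁⁻¹ * g' ∈ M := D.cent _ (F.same_action L.a₁ hg')
    set m := g₁⁻¹ * g' with hmdef
    have hg : g' = g₁ * m := by rw [hmdef]; group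
    have hd : g' * g' = cm g₁ m * (m * m) * (g₁ * g₁) := by
      calc g' * g' = (g₁ * m * g₁⁻¹ * m⁻¹) * (m * ((g₁ * g₁) * m)) := by rw [hg]; group
        _ = (g₁ * m * g₁⁻¹ * m⁻¹) * (m * (m * (g₁ * g₁))) := by rw [D.comm _ (D.g₁M L) m hmM]
        _ = cm g₁ m * (m * m) * (g₁ * g₁) := by rw [cm]; group
    rw [hd]
    refine Subgroup.mul_mem_cancel_left _ ?_
    obtain ⟨v, hv⟩ := F.surj _ (D.sq m hmM)
    have hf : t1 v + v = 0 := by
      have hin : cm g₁ m ∈ Om := by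
        rw [hd, Subgroup.mul_mem_cancel_right _ L.s₁, ← hv, Subgroup.mul_mem_cancel_right _ (D.e_om v)] at hg'o
        exact hg'o
      exact F.eq_one.1 (by rw [← D.cm_W L.a₁, hv, ← D.cm_sq _ hmM, D.om_sq hin])
    have step : ∀ a r, a ∈ M → r ∈ M → a * a = r * r → cm g₁ r * (r * r) ∈ kc Om g₁ g₂ →
        cm g₁ a * (a * a) ∈ kc Om g₁ g₂ := by
      intro a r ha hr he h
      obtain ⟨o, ho, rfl⟩ := D.root_split hr ha he.symm
      rw [he, D.cm_mul _ hr (D.om_le ho), D.comm _ (D.cm_mem _ hr) _ (D.cm_mem _ (D.om_le ho)), mul_assoc]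
      exact Subgroup.mul_mem _ (hsm₁ o ho) h
    have hdm : cm g₁ (cm g₁ y) * (cm g₁ y * cm g₁ y) = 1 := by
      rw [D.cm_cm (D.g₁M L) hyM, inv_mul_cancel]
    have hdx : cm g₁ x * (x * x) ∈ kc Om g₁ g₂ := by rw [(hX q1).2]; exact hκ
    rcases fixed_t1 v hf with rfl | rfl | rfl | rfl
    · refine step m 1 hmM M.one_mem (by rw [← hv, F.zero, one_mul]) ?_
      rw [cm_one, one_mul, one_mul]; exact Subgroup.one_mem _
    · exact step m _ hmM (D.cm_mem g₁ hyM) (by rw [← hv, hm]) (hdm ▸ Subgroup.one_mem _)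
    · exact step m x hmM hxM (by rw [← hv, (hX q1).2]) hdx
    · have hr := D.cm_mem g₁ hyM
      have hsq : x * cm g₁ y * (x * cm g₁ y) = (x * x) * (cm g₁ y * cm g₁ y) := by
        calc x * cm g₁ y * (x * cm g₁ y) = x * (cm g₁ y * x) * cm g₁ y := by group
          _ = x * (x * cm g₁ y) * cm g₁ y := by rw [D.comm _ hr x hxM]
          _ = _ := by group
      refine step m _ hmM (M.mul_mem hxM hr) (by rw [hsq, ← hv, hm, (hX q1).2, ← F.add]) ?_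
      rw [hsq, D.cm_mul _ hxM hr]
      have e : cm g₁ x * cm g₁ (cm g₁ y) * (x * x * (cm g₁ y * cm g₁ y)) =
          cm g₁ x * (x * x) * (cm g₁ (cm g₁ y) * (cm g₁ y * cm g₁ y)) := by
        calc cm g₁ x * cm g₁ (cm g₁ y) * (x * x * (cm g₁ y * cm g₁ y))
            = cm g₁ x * (cm g₁ (cm g₁ y) * (x * x)) * (cm g₁ y * cm g₁ y) := by group
          _ = cm g₁ x * (x * x * cm g₁ (cm g₁ y)) * (cm g₁ y * cm g₁ y) := by
            rw [D.comm _ (D.cm_mem _ hr) _ (M.mul_mem hxM hxM)]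
          _ = _ := by group
      rw [e, hdm, mul_one]
      exact hdx
  have hiff : ∀ (k u : G) (σ : V3 ≃+ V3), (∀ v, σ (σ v) = v) → F.Acts k σ →
      (∀ k, F.Acts k σ → ∀ x ∈ kc Om g₁ g₂, k * x * k⁻¹ ∈ kc Om g₁ g₂) →
      (k * u * k⁻¹ * (k * u * k⁻¹) ∈ kc Om g₁ g₂ ↔ u * u ∈ kc Om g₁ g₂) := by
    intro k u σ hσ hk hK
    rw [show k * u * k⁻¹ * (k * u * k⁻¹) = k * (u * u) * k⁻¹ by group]
    refine ⟨fun h => ?_, hK k hk _⟩
    have := hK k⁻¹ (F.acts_inv hk hσ) _ h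
    rwa [show k⁻¹ * (k * (u * u) * k⁻¹) * k⁻¹⁻¹ = u * u by group] at this
  have hs3 : g₁ * g₂ * (g₁ * g₂) ∈ Om := by
    have := Om.mul_mem (Om.mul_mem L.s₁₂ (D.omnormal.conj_mem _ L.s₁ g₂)) L.s₂
    rwa [show g₁ * g₂ * g₁⁻¹ * g₂⁻¹ * (g₂ * (g₁ * g₁) * g₂⁻¹) * (g₂ * g₂) = g₁ * g₂ * (g₁ * g₂) by group] at this
  refine D.square_parity L ?_ ?_
  · exact (hiff k g₂ h2 i2 hk hKk).symm.trans (hindep _ (F.acts_conj hk L.a₂ i2 fun v => (conj_maps v).1) (by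
      rw [show k * g₂ * k⁻¹ * (k * g₂ * k⁻¹) = k * (g₂ * g₂) * k⁻¹ by group]
      exact D.omnormal.conj_mem _ L.s₂ k))
  · exact (hiff l _ h3 i3 hl hKl).symm.trans (hindep _ (F.acts_conj hl a₃ i3 fun v => (conj_maps v).2.1) (by
      rw [show l * (g₁ * g₂) * l⁻¹ * (l * (g₁ * g₂) * l⁻¹) = l * (g₁ * g₂ * (g₁ * g₂)) * l⁻¹ by group]
      exact D.omnormal.conj_mem _ hs3 l))

theorem exists_zero_lifts [Finite G] : ∃ l₁ l₂, Lifts F Om l₁ l₂ ∧ l₁ * l₁ ∈ kc Om l₁ l₂ ∧ l₂ * l₂ ∈ kc Om l₁ l₂ := by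
  by_cases hA : ∀ o ∈ Om, ∃ v, o * F.e v ∈ kc Om g₁ g₂
  · exact ⟨g₁, g₂, L, D.lifts_zero_of_split L hA⟩
  push Not at hA
  obtain ⟨a, ha, hna⟩ := hA
  have haM := D.om_le ha
  obtain ⟨v, hv⟩ := D.cm_om' g₁ ha
  obtain ⟨w, hw⟩ := D.cm_om' g₂ ha
  have e1 : t1 v + v = 0 := F.eq_one.1 (by
    rw [← D.cm_W L.a₁, ← hv, D.cm_cm (D.g₁M L) haM, hv, F.sq, inv_one])
  have e2 : t2 w + w = 0 := F.eq_one.1 (by
    rw [← D.cm_W L.a₂, ← hw, D.cm_cm (D.g₂M L) haM, hw, F.sq, inv_one])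
  have e3 : t2 v + v = t1 w + w := F.inj (by
    rw [← D.cm_W L.a₂, ← D.cm_W L.a₁, ← hv, ← hw, D.cm_comm (D.om_le L.s₁₂) haM])
  have hz : ∀ r s : V3, r + s = 0 → r = s := by decide +kernel
  obtain ⟨hvq, hwq⟩ := (outside_key v w (hz _ _ e1) (hz _ _ e2) e3).resolve_left (by
    rintro ⟨r, h1, h2⟩
    refine hna r (mem_kc.2 ⟨Om.mul_mem ha (D.e_om r), ?_, ?_⟩)
    · rw [D.cm_mul _ haM (D.om_le (D.e_om r)), hv, D.cm_W L.a₁, h1, F.sq]
    · rw [D.cm_mul _ haM (D.om_le (D.e_om r)), hw, D.cm_W L.a₂, h2, F.sq])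
  have hsq : ∀ g : G, g * g ∈ M → g * a * (g * a) = cm g a * (g * g) := fun g hg => by
    calc g * a * (g * a) = g * a * g⁻¹ * ((g * g) * a) := by group
      _ = g * a * g⁻¹ * (a⁻¹ * (g * g)) := by rw [D.comm _ hg a haM, D.inv_om ha]
      _ = cm g a * (g * g) := by rw [cm]; group
  have hrefl : F.Acts a (AddEquiv.refl V3) := fun r => by
    show a * F.e r * a⁻¹ = F.e r
    rw [D.comm a haM _ (D.om_le (D.e_om r)), mul_inv_cancel_right]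
  have L₁ : Lifts F Om (g₁ * a) g₂ :=
    ⟨F.acts_mul L.a₁ hrefl fun _ => rfl, L.a₂, by
      rw [hsq _ (D.g₁M L)]; exact Om.mul_mem (D.w_om (D.cm_om _ ha)) L.s₁, L.s₂, by
      rw [show g₁ * a * g₂ * (g₁ * a)⁻¹ * g₂⁻¹ =
        g₁ * (cm g₂ a)⁻¹ * g₁⁻¹ * (g₁ * g₂ * g₁⁻¹ * g₂⁻¹) by rw [cm]; group]
      exact Om.mul_mem (D.omnormal.conj_mem _ (Om.inv_mem (D.w_om (D.cm_om _ ha))) g₁) L.s₁₂⟩
  have second : ∀ l, Lifts F Om l g₂ → cm l a = F.e v → Lifts F Om l (g₂ * a) := fun l Ll hl =>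
    ⟨Ll.a₁, F.acts_mul L.a₂ hrefl fun _ => rfl, Ll.s₁, by
      rw [hsq _ (D.g₂M L)]; exact Om.mul_mem (D.w_om (D.cm_om _ ha)) L.s₂, by
      rw [show l * (g₂ * a) * l⁻¹ * (g₂ * a)⁻¹ =
        l * g₂ * l⁻¹ * g₂⁻¹ * (g₂ * cm l a * g₂⁻¹) by rw [cm]; group]
      exact Om.mul_mem Ll.s₁₂ (D.omnormal.conj_mem _ (D.w_om (D.cm_om _ ha)) g₂)⟩
  have hkc : ∀ l₁ l₂ : G, (∀ z ∈ M, cm l₁ z = cm g₁ z) → (∀ z ∈ M, cm l₂ z = cm g₂ z) →
      kc Om l₁ l₂ = kc Om g₁ g₂ := by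
    intro l₁ l₂ h₁ h₂
    ext z
    rw [mem_kc, mem_kc]
    exact and_congr_right fun hz => by rw [h₁ z (D.om_le hz), h₂ z (D.om_le hz)]
  have hflip : ∀ (u q r : _), (r = q ∨ r = q + cp) → u * F.e q ∈ kc Om g₁ g₂ → u ∈ M →
      F.e r * u ∈ kc Om g₁ g₂ := by
    intro u q r hr h hu
    have e : F.e r * u = F.e (r + q) * (u * F.e q) := by
      rw [F.add, D.comm u hu _ (D.om_le (D.e_om q)),
        show F.e r * F.e q * (F.e q * u) = F.e r * (F.e q * F.e q) * u by group, F.sq, mul_one]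
    rw [e]
    refine Subgroup.mul_mem _ (D.pair L ?_) h
    rcases hr with rfl | rfl
    · exact Or.inl (Frame.add_self _)
    · exact Or.inr (by rw [add_right_comm, Frame.add_self, zero_add])
  obtain ⟨l₁, Ll₁, hcm₁, hs₁⟩ : ∃ l, Lifts F Om l g₂ ∧ (∀ z ∈ M, cm l z = cm g₁ z) ∧ l * l ∈ kc Om g₁ g₂ := by
    by_cases h : g₁ * g₁ ∈ kc Om g₁ g₂
    · exact ⟨g₁, L, fun _ _ => rfl, h⟩
    · refine ⟨g₁ * a, L₁, fun z hz => D.same _ haM hz, ?_⟩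
      rw [hsq _ (D.g₁M L), hv]
      exact hflip _ _ _ hvq ((D.fixed_coset₁ L L.s₁ (cm_self_sq g₁)).resolve_left h) (D.g₁M L)
  by_cases h : g₂ * g₂ ∈ kc Om g₁ g₂
  · refine ⟨l₁, g₂, Ll₁, ?_⟩
    rw [hkc _ _ hcm₁ fun _ _ => rfl]
    exact ⟨hs₁, h⟩
  · refine ⟨l₁, g₂ * a, second l₁ Ll₁ ((hcm₁ a haM).trans hv), ?_⟩
    rw [hkc _ _ hcm₁ fun z hz => D.same _ haM hz]
    refine ⟨hs₁, ?_⟩
    rw [hsq _ (D.g₂M L), hw]
    exact hflip _ _ _ hwq ((D.fixed_coset₂ L L.s₂ (cm_self_sq g₂)).resolve_left h) (D.g₂M L)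

end CoreData

/-- The module of `Z/4`-natural type does not occur in sectional rank four. -/
theorem core_false [Finite G] {M Om W : Subgroup G} {F : Frame W} (D : CoreData M Om W F)
    (hr : Cfsg.SectionalPRankLE 2 4 G) : False := by
  classical
  obtain ⟨f₁, f₂, a1, a2, s1, s2, s12⟩ := core_lifts D
  obtain ⟨g₁, g₂, L, hu₁, hu₂⟩ := D.exists_zero_lifts (L := ⟨a1, a2, s1, s2, s12⟩)
  obtain ⟨X, hX, -⟩ := D.quotient_frame
  have hc := D.comm_kc L hu₁ hu₂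
  set K := kc Om g₁ g₂ with hKdef
  have hKM : ∀ x ∈ K, x ∈ M := fun x hx => D.om_le (mem_kc.1 hx).1
  let T : Subgroup G :=
    { carrier := {z | z ∈ M ∧ cm g₁ z ∈ K ∧ cm g₂ z ∈ K ∧ z * z ∈ K}
      one_mem' := ⟨M.one_mem, by rw [cm_one]; exact K.one_mem, by rw [cm_one]; exact K.one_mem,
        by rw [one_mul]; exact K.one_mem⟩
      mul_mem' := by
        rintro x y ⟨hx, hx1, hx2, hx3⟩ ⟨hy, hy1, hy2, hy3⟩
        refine ⟨M.mul_mem hx hy, ?_, ?_, ?_⟩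
        · rw [D.cm_mul _ hx hy]; exact K.mul_mem hx1 hy1
        · rw [D.cm_mul _ hx hy]; exact K.mul_mem hx2 hy2
        · rw [show x * y * (x * y) = x * (y * x) * y by group, D.comm y hy x hx,
            show x * (x * y) * y = (x * x) * (y * y) by group]
          exact K.mul_mem hx3 hy3
      inv_mem' := by
        rintro x ⟨hx, hx1, hx2, hx3⟩
        have e : ∀ g, cm g x⁻¹ = (cm g x)⁻¹ := fun g => eq_inv_of_mul_eq_one_left (by
          rw [← D.cm_mul g (M.inv_mem hx) hx, inv_mul_cancel, cm_one])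
        refine ⟨M.inv_mem hx, ?_, ?_, ?_⟩
        · rw [e]; exact K.inv_mem hx1
        · rw [e]; exact K.inv_mem hx2
        · rw [← mul_inv_rev]; exact K.inv_mem hx3 }
  have hKT : ∀ x ∈ K, x ∈ T := fun x hx => ⟨hKM x hx, by rw [(mem_kc.1 hx).2.1]; exact K.one_mem,
    by rw [(mem_kc.1 hx).2.2]; exact K.one_mem, by rw [D.om_sq (mem_kc.1 hx).1]; exact K.one_mem⟩
  have hWT : ∀ v, F.e v ∈ T := fun v => ⟨D.om_le (D.e_om v),
    by rw [D.cm_W L.a₁]; exact D.pair L (t_cases v).1,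
    by rw [D.cm_W L.a₂]; exact D.pair L (t_cases v).2.1, by rw [F.sq]; exact K.one_mem⟩
  set y := X q2
  set m := cm g₁ y with hmdef
  have hyM : y ∈ M := (hX q2).1
  have hmM : m ∈ M := D.cm_mem _ hyM
  have hm : m * m = F.e cp := by rw [hmdef, D.cm_sq _ hyM, (hX q2).2, D.cm_W L.a₁, q_facts.2.1]
  have hmT : m ∈ T := by
    refine ⟨hmM, ?_, ?_, hm ▸ D.cp_mem L⟩
    · rw [hmdef, D.cm_cm (D.g₁M L) hyM, ← hmdef, hm, F.inv]; exact D.cp_mem L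
    · rw [hmdef, ← D.cm_comm (D.om_le L.s₁₂) hyM]
      have ho : cm g₂ y ∈ Om := (D.mem_om _).2 ⟨D.cm_mem _ hyM, by
        rw [D.cm_sq _ hyM, (hX q2).2, D.cm_W L.a₂, F.eq_one]; decide⟩
      rcases D.fixed_coset₂ L ho (by rw [D.cm_cm (D.g₂M L) hyM, D.om_sq ho, inv_one]) with h | h
      · rw [(mem_kc.1 h).2.1]; exact K.one_mem
      · have e := (mem_kc.1 h).2.1
        rw [D.cm_mul _ (D.om_le ho) (D.om_le (D.e_om _)), mul_eq_one_iff_eq_inv] at e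
        rw [e, D.cm_W L.a₁, F.inv]
        exact D.pair L (t_cases _).1
  -- the section
  set P := Subgroup.closure ((T : Set G) ∪ {g₁, g₂}) with hP
  have hKc : ∀ p ∈ P, ∀ k ∈ K, p * k * p⁻¹ = k := by
    intro p hp k hk
    have : P ≤ Subgroup.centralizer {k} := by
      refine (Subgroup.closure_le _).2 ?_
      rintro z (hz | rfl | rfl)
      · exact Subgroup.mem_centralizer_singleton_iff.2 (D.comm z hz.1 k (hKM k hk))
      · exact Subgroup.mem_centralizer_singleton_iff.2 (D.fix_iff.1 (mem_kc.1 hk).2.1)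
      · exact Subgroup.mem_centralizer_singleton_iff.2 (D.fix_iff.1 (mem_kc.1 hk).2.2)
    exact mul_inv_eq_iff_eq_mul.2 (Subgroup.mem_centralizer_singleton_iff.1 (this hp))
  have hTP : ∀ z ∈ T, z ∈ P := fun z hz => Subgroup.subset_closure (Or.inl hz)
  have hg₁P : g₁ ∈ P := Subgroup.subset_closure (Or.inr (Or.inl rfl))
  have hg₂P : g₂ ∈ P := Subgroup.subset_closure (Or.inr (Or.inr rfl))
  have hKP : K ≤ P := fun x hx => hTP x (hKT x hx)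
  let L' := K.subgroupOf P
  haveI : L'.Normal := ⟨fun k hk p => by
    rw [Subgroup.mem_subgroupOf] at hk ⊢
    show (p : G) * k * (p : G)⁻¹ ∈ K
    rw [hKc p p.2 k hk]; exact hk⟩
  have hgen : ∀ a ∈ ((T : Set G) ∪ {g₁, g₂}), a * a ∈ K ∧ ∀ b ∈ ((T : Set G) ∪ {g₁, g₂}), cm a b ∈ K := by
    have hT : ∀ z ∈ T, ∀ g, cm g z ∈ K → cm z g ∈ K := fun z _ g h => by
      rw [show cm z g = (cm g z)⁻¹ by unfold cm; group]; exact K.inv_mem h
    have hTT : ∀ a ∈ T, ∀ b ∈ T, cm a b ∈ K := fun a ha b hb => by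
      rw [cm, D.comm a ha.1 b hb.1, mul_inv_cancel_right, mul_inv_cancel]; exact K.one_mem
    have hself : ∀ g : G, cm g g ∈ K := fun g => by
      rw [show cm g g = 1 by unfold cm; group]; exact K.one_mem
    rintro a (ha | rfl | rfl)
    · refine ⟨ha.2.2.2, ?_⟩
      rintro b (hb | rfl | rfl)
      · exact hTT a ha b hb
      · exact hT a ha _ ha.2.1
      · exact hT a ha _ ha.2.2.1
    · refine ⟨hu₁, ?_⟩
      rintro b (hb | rfl | rfl)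
      · exact hb.2.1
      · exact hself _
      · exact hc
    · refine ⟨hu₂, ?_⟩
      rintro b (hb | rfl | rfl)
      · exact hb.2.2.1
      · rw [show cm a b = (cm b a)⁻¹ by unfold cm; group]; exact K.inv_mem hc
      · exact hself _
  have hcomm : ∀ p ∈ P, ∀ r ∈ P, cm p r ∈ K := by
    have one : ∀ r ∈ ((T : Set G) ∪ {g₁, g₂}), ∀ p ∈ P, cm p r ∈ K := by
      intro r hr p hp
      induction hp using Subgroup.closure_induction with
      | mem z hz => exact (hgen z hz).2 r hr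
      | one => rw [show cm 1 r = 1 by unfold cm; group]; exact K.one_mem
      | mul a b ha hb iha ihb =>
        rw [show cm (a * b) r = a * cm b r * a⁻¹ * cm a r by unfold cm; group, hKc a ha _ ihb]
        exact K.mul_mem ihb iha
      | inv a ha iha =>
        rw [show cm a⁻¹ r = a⁻¹ * (cm a r)⁻¹ * a⁻¹⁻¹ by unfold cm; group,
          hKc _ (P.inv_mem ha) _ (K.inv_mem iha)]
        exact K.inv_mem iha
    intro p hp r hr
    induction hr using Subgroup.closure_induction with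
    | mem z hz => exact one z hz p hp
    | one => rw [cm_one]; exact K.one_mem
    | mul a b ha hb iha ihb =>
      rw [show cm p (a * b) = cm p a * (a * cm p b * a⁻¹) by unfold cm; group, hKc a ha _ ihb]
      exact K.mul_mem iha ihb
    | inv a ha iha =>
      rw [show cm p a⁻¹ = a⁻¹ * (cm p a)⁻¹ * a⁻¹⁻¹ by unfold cm; group, hKc _ (P.inv_mem ha) _ (K.inv_mem iha)]
      exact K.inv_mem iha
  have hsq : ∀ p ∈ P, p * p ∈ K := by
    intro p hp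
    induction hp using Subgroup.closure_induction with
    | mem z hz => exact (hgen z hz).1
    | one => rw [one_mul]; exact K.one_mem
    | mul a b ha hb iha ihb =>
      rw [show a * b * (a * b) = a * cm b a * a⁻¹ * (a * a) * (b * b) by unfold cm; group,
        hKc a ha _ (hcomm b hb a ha)]
      exact K.mul_mem (K.mul_mem (hcomm b hb a ha) iha) ihb
    | inv a ha iha => rw [← mul_inv_rev]; exact K.inv_mem iha
  have hle := section_le hr P K hKP (fun p hp k hk => by rw [hKc p hp k hk]; exact hk) hsq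
  -- thirty two cosets of `K`
  let me : ZMod 2 → G := fun i => if i = 0 then 1 else m
  let ge : ZMod 2 → ZMod 2 → G := fun a b => (if a = 0 then 1 else g₁) * (if b = 0 then 1 else g₂)
  let tt : ZMod 2 × ZMod 2 × ZMod 2 → G := fun t => F.e (vec 0 t.1 t.2.1) * me t.2.2
  have htt : ∀ t, tt t ∈ T := fun t => T.mul_mem (hWT _) (by
    show (if t.2.2 = 0 then 1 else m) ∈ T
    split
    · exact T.one_mem
    · exact hmT)
  have hge : ∀ a b, ge a b ∈ P := fun a b => by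
    refine P.mul_mem ?_ ?_ <;> split <;> first | exact P.one_mem | assumption
  let φ : (ZMod 2 × ZMod 2) × (ZMod 2 × ZMod 2 × ZMod 2) × ↥K → ↥P := fun q =>
    ⟨ge q.1.1 q.1.2 * (tt q.2.1 * q.2.2), P.mul_mem (hge _ _) (P.mul_mem (hTP _ (htt _)) (hKP q.2.2.2))⟩
  have hinj : Function.Injective φ := by
    rintro ⟨⟨a, b⟩, t, ⟨k, hk⟩⟩ ⟨⟨a', b'⟩, t', ⟨k', hk'⟩⟩ he
    have he' : ge a b * (tt t * k) = ge a' b' * (tt t' * k') := congrArg Subtype.val he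
    have hact : ∀ a b v, ge a b * F.e v * (ge a b)⁻¹ =
        F.e ((if a = 0 then id else t1) ((if b = 0 then id else t2) v)) := by
      intro a b v
      show (if a = 0 then 1 else g₁) * (if b = 0 then 1 else g₂) * F.e v *
        ((if a = 0 then 1 else g₁) * (if b = 0 then 1 else g₂))⁻¹ = _
      split <;> split <;>
        first
          | (simp; done)
          | (simp only [one_mul, mul_one, id]; first | exact L.a₁ v | exact L.a₂ v)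
          | (simp only [← L.a₁ (t2 v), ← L.a₂ v]; group)
    have hM : ∀ (t : ZMod 2 × ZMod 2 × ZMod 2) (k : G), k ∈ K → tt t * k ∈ M := fun t k hk =>
      M.mul_mem (htt t).1 (hKM k hk)
    have key : ∀ a b a' b' : ZMod 2,
        (∀ v, (if a = 0 then id else (t1 : V3 → V3)) ((if b = 0 then id else (t2 : V3 → V3)) v) =
          (if a' = 0 then id else (t1 : V3 → V3)) ((if b' = 0 then id else (t2 : V3 → V3)) v)) →
        a = a' ∧ b = b' := by decide +kernel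
    obtain ⟨rfl, rfl⟩ := key a b a' b' fun v => F.inj (by
      rw [← hact, ← hact]
      have h1 : ∀ n ∈ M, ∀ g : G, g * n * F.e v * (g * n)⁻¹ = g * F.e v * g⁻¹ := fun n hn g => by
        rw [show g * n * F.e v * (g * n)⁻¹ = g * (n * F.e v * n⁻¹) * g⁻¹ by group,
          D.comm n hn _ (D.om_le (D.e_om v)), mul_inv_cancel_right]
      rw [← h1 _ (hM t k hk) (ge a b), he', h1 _ (hM t' k' hk')])
    have he2 : tt t * k = tt t' * k' := mul_left_cancel he'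
    have hsqt : ∀ (t : ZMod 2 × ZMod 2 × ZMod 2) (k : G), k ∈ K →
        tt t * k * (tt t * k) = if t.2.2 = 0 then 1 else F.e cp := by
      intro t k hk
      have hk2 := D.om_sq (mem_kc.1 hk).1
      have hn := (htt t).1
      rw [show tt t * k * (tt t * k) = tt t * (k * tt t) * k by group, D.comm k (hKM k hk) _ hn,
        show tt t * (tt t * k) * k = tt t * tt t * (k * k) by group, hk2, mul_one]
      show F.e _ * (if t.2.2 = 0 then 1 else m) * (F.e _ * (if t.2.2 = 0 then 1 else m)) = _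
      split
      · rw [mul_one, F.sq]
      · rw [show F.e (vec 0 t.1 t.2.1) * m * (F.e (vec 0 t.1 t.2.1) * m) =
          F.e (vec 0 t.1 t.2.1) * (m * F.e (vec 0 t.1 t.2.1)) * m by group,
          D.comm m hmM _ (D.om_le (D.e_om _)),
          show F.e (vec 0 t.1 t.2.1) * (F.e (vec 0 t.1 t.2.1) * m) * m =
            F.e (vec 0 t.1 t.2.1) * F.e (vec 0 t.1 t.2.1) * (m * m) by group, F.sq, one_mul, hm]
    obtain ⟨i, j, n⟩ := t
    obtain ⟨i', j', n'⟩ := t'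
    have hn : n = n' := by
      have h : (if n = 0 then (1 : G) else F.e cp) = if n' = 0 then 1 else F.e cp :=
        (hsqt (i, j, n) k hk).symm.trans (he2 ▸ hsqt (i', j', n') k' hk')
      have hcp1 : F.e cp ≠ 1 := fun e => q_facts.2.2.2.2.2.2.2.2.2.2 (F.eq_one.1 e)
      have hb : ∀ z : ZMod 2, z = 0 ∨ z = 1 := by decide
      rcases hb n with rfl | rfl <;> rcases hb n' with rfl | rfl <;>
        first | rfl | exact absurd (by simpa using h) hcp1 | exact absurd (by simpa using h.symm) hcp1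
    subst hn
    have he3 : F.e (vec 0 i j) * k = F.e (vec 0 i' j') * k' := by
      have h := he2
      simp only [tt] at h
      have hmn : me n ∈ M := by
        show (if n = 0 then 1 else m) ∈ M
        split
        · exact M.one_mem
        · exact hmM
      rw [D.comm _ (D.om_le (D.e_om _)) _ hmn, D.comm _ (D.om_le (D.e_om _)) _ hmn, mul_assoc, mul_assoc] at h
      exact mul_left_cancel h
    have hmem : F.e (vec 0 i j + vec 0 i' j') ∈ K := by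
      rw [add_comm, F.add, show F.e (vec 0 i j) = F.e (vec 0 i' j') * k' * k⁻¹ by rw [← he3]; group,
        show F.e (vec 0 i' j') * (F.e (vec 0 i' j') * k' * k⁻¹) =
          F.e (vec 0 i' j') * F.e (vec 0 i' j') * (k' * k⁻¹) by group, F.sq, one_mul]
      exact K.mul_mem hk' (K.inv_mem hk)
    obtain ⟨h1, h2⟩ := (D.k_mem_iff L).1 hmem
    obtain ⟨rfl, rfl⟩ := flat_key i i' j j' h1 h2
    obtain rfl := mul_left_cancel he3
    rfl
  have hcard := Nat.card_le_card_of_injective φ hinj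
  simp only [Nat.card_prod, Nat.card_zmod] at hcard
  have := Nat.card_pos (α := ↥K)
  omega

end Cfsg.Agent.Lib.Inv59.RankFour.Seven
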