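import Mathlib
import Cfsg.Agent.Lib.Inv59.RankFour.Seven.Frame
import Cfsg.Agent.Lib.Inv59.RankFour.Seven.Par

/-!
# An element of order seven on small elementary groups
-/

set_option autoImplicit false
set_option linter.unusedSectionVars false
set_option linter.style.haveILetI false
set_option synthInstance.maxSize 4000
set_option synthInstance.maxHeartbeats 400000

namespace Cfsg.Agent.Lib.Inv59.RankFour.Seven

universe u v

variable {G : Type u} [Group G] [Finite G]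

/-- `y` fixes only the identity of `V`. -/
def Free (V : Subgroup G) (y : G) : Prop := ∀ v ∈ V, y * v * y⁻¹ = v → v = 1

/-- The fixed points of `y` on `V` are `1` and `v₀`. -/
structure OneFixed (V : Subgroup G) (y v₀ : G) : Prop where
  mem : v₀ ∈ V
  ne : v₀ ≠ 1
  fix : y * v₀ * y⁻¹ = v₀
  only : ∀ v ∈ V, y * v * y⁻¹ = v → v = 1 ∨ v = v₀

variable {y : G} (hy : orderOf y = 7)

include hy

/-- An element of order seven on an elementary group of order at most `16`. -/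
theorem moved7 (V : Subgroup G) (h2 : ∀ v ∈ V, v * v = 1) (h16 : Nat.card V ≤ 16)
    (hn : ∀ v ∈ V, y * v * y⁻¹ ∈ V) :
    (∀ v ∈ V, y * v * y⁻¹ = v) ∨ (Nat.card V = 8 ∧ Free V y) ∨
      (Nat.card V = 16 ∧ ∃ v₀, OneFixed V y v₀) := by
  haveI : Fact (Nat.Prime 7) := ⟨by norm_num⟩
  obtain ⟨a, b, ha, hba, hVa, hCb, hmod, hall⟩ := moved V h2 h16 hy hn
  by_cases hab : b = a
  · exact Or.inl (hall hab)
  right
  have key : ∀ a b : Fin 5, (b : ℕ) ≤ a → b ≠ a → 2 ^ (a : ℕ) % 7 = 2 ^ (b : ℕ) % 7 →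
      ((a : ℕ) = 3 ∧ (b : ℕ) = 0) ∨ ((a : ℕ) = 4 ∧ (b : ℕ) = 1) := by decide
  have hk : (a = 3 ∧ b = 0) ∨ (a = 4 ∧ b = 1) :=
    key ⟨a, by omega⟩ ⟨b, by omega⟩ hba (fun e => hab (congrArg Fin.val e)) hmod
  rcases hk with ⟨rfl, rfl⟩ | ⟨rfl, rfl⟩
  · refine Or.inl ⟨hVa, fun v hv hfix => ?_⟩
    have h1 : V ⊓ Subgroup.centralizer {y} = ⊥ := Subgroup.card_eq_one.1 (hCb.trans (pow_zero 2))
    exact Subgroup.mem_bot.1 (h1 ▸ (⟨hv, Subgroup.mem_centralizer_singleton_iff.2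
      (mul_inv_eq_iff_eq_mul.1 hfix).symm⟩ : v ∈ V ⊓ Subgroup.centralizer {y}))
  · refine Or.inr ⟨hVa, ?_⟩
    set C := V ⊓ Subgroup.centralizer {y}
    obtain ⟨v₀, hv₀, hne⟩ := (Subgroup.bot_or_exists_ne_one C).resolve_left fun h => by
      rw [h, Subgroup.card_bot] at hCb; norm_num at hCb
    refine ⟨v₀, hv₀.1, hne, mul_inv_eq_iff_eq_mul.2 (Subgroup.mem_centralizer_singleton_iff.1 hv₀.2).symm,
      fun v hv hfix => ?_⟩
    by_contra hcon
    push Not at hcon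
    have h3 : ({1, v₀, v} : Set G).ncard = 3 := by
      rw [Set.ncard_insert_of_notMem (by simp [Ne.symm hne, Ne.symm hcon.1]), Set.ncard_pair (Ne.symm hcon.2)]
    have hle := Set.ncard_le_ncard (show ({1, v₀, v} : Set G) ⊆ (C : Set G) by
      rintro w (rfl | rfl | rfl)
      · exact C.one_mem
      · exact hv₀
      · exact ⟨hv, Subgroup.mem_centralizer_singleton_iff.2 (mul_inv_eq_iff_eq_mul.1 hfix).symm⟩)
      (Set.toFinite _)
    rw [h3, ← Nat.card_coe_set_eq] at hle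
    rw [show Nat.card ↥(C : Set G) = 2 ^ 1 from hCb] at hle
    omega

/-- A set without fixed points. -/
theorem seven_dvd (S : Set G) (hS : ∀ s ∈ S, y * s * y⁻¹ ∈ S) (hfree : ∀ s ∈ S, y * s * y⁻¹ ≠ s) :
    S.ncard % 7 = 0 := by
  haveI : Fact (Nat.Prime 7) := ⟨by norm_num⟩
  rw [fixed_modEq hy S hS]
  have he : {s ∈ S | y * s * y⁻¹ = s} = ∅ := Set.eq_empty_iff_forall_notMem.2 fun s hs => hfree s hs.1 hs.2
  rw [he, Set.ncard_empty]

/-- A nonempty invariant subset of the seven nontrivial elements is everything. -/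
theorem seven_all {V : Subgroup G} (h8 : Nat.card V = 8) (hfree : Free V y) {S : Set G}
    (hSV : ∀ s ∈ S, s ∈ V ∧ s ≠ 1) (hS : ∀ s ∈ S, y * s * y⁻¹ ∈ S) {s : G} (hs : s ∈ S) :
    ∀ v ∈ V, v ≠ 1 → v ∈ S := by
  have h7 : ((V : Set G) \ {1}).ncard = 7 := by
    rw [Set.ncard_sdiff (Set.singleton_subset_iff.2 V.one_mem), Set.ncard_singleton, ← Nat.card_coe_set_eq,
      show Nat.card ↥(V : Set G) = 8 from h8]
  have hd := seven_dvd hy S hS fun t ht e => (hSV t ht).2 (hfree t (hSV t ht).1 e)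
  have hpos := (Set.ncard_pos (Set.toFinite S)).2 ⟨s, hs⟩
  have hsub : S ⊆ (V : Set G) \ {1} := fun t ht => ⟨(hSV t ht).1, (hSV t ht).2⟩
  have hle := Set.ncard_le_ncard hsub (Set.toFinite _)
  have heq := Set.eq_of_subset_of_ncard_le hsub (by omega) (Set.toFinite _)
  intro v hv hv1
  rw [heq]
  exact ⟨hv, hv1⟩

/-- An invariant subgroup of a free module of order eight. -/
theorem seven_subgroup {V : Subgroup G} (h8 : Nat.card V = 8) (hfree : Free V y) (K : Subgroup G)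
    (hKV : K ≤ V) (hK : ∀ k ∈ K, y * k * y⁻¹ ∈ K) : K = ⊥ ∨ K = V := by
  rcases Subgroup.bot_or_exists_ne_one K with h | ⟨k, hk, hk1⟩
  · exact Or.inl h
  · refine Or.inr (le_antisymm hKV fun v hv => ?_)
    by_cases hv1 : v = 1
    · exact hv1 ▸ K.one_mem
    · refine (seven_all hy h8 hfree (S := (K : Set G) \ {1}) (fun s hs => ⟨hKV hs.1, hs.2⟩)
        (fun s hs => ⟨hK s hs.1, fun e => hs.2 ?_⟩) ⟨hk, hk1⟩ v hv hv1).1
      exact conj_eq_one_iff.1 e

/-- The commutators with `y` form a complement of the fixed point. -/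
theorem range7 {V : Subgroup G} (h2 : ∀ v ∈ V, v * v = 1) (h16 : Nat.card V = 16)
    (hn : ∀ v ∈ V, y * v * y⁻¹ ∈ V) {v₀ : G} (h₀ : OneFixed V y v₀) :
    ∃ U : Subgroup G, U ≤ V ∧ Nat.card U = 8 ∧ (∀ u ∈ U, y * u * y⁻¹ ∈ U) ∧ Free U y ∧ v₀ ∉ U ∧
      (∀ u ∈ U, ∃ v ∈ V, y * v * y⁻¹ * v⁻¹ = u) ∧ ∀ v ∈ V, v ∈ U ∨ v₀ * v ∈ U := by
  let dm : ↥V →* ↥V :=
    { toFun := fun v => ⟨y * v * y⁻¹ * (v : G)⁻¹, V.mul_mem (hn v v.2) (V.inv_mem v.2)⟩
      map_one' := Subtype.ext (by simp)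
      map_mul' := fun x z => Subtype.ext (by
        show y * ((x : G) * z) * y⁻¹ * ((x : G) * z)⁻¹ =
          y * x * y⁻¹ * (x : G)⁻¹ * (y * z * y⁻¹ * (z : G)⁻¹)
        have hcy : y * z * y⁻¹ * (z : G)⁻¹ * (x : G)⁻¹ = (x : G)⁻¹ * (y * z * y⁻¹ * (z : G)⁻¹) :=
          comm_of_sq h2 (V.mul_mem (hn z z.2) (V.inv_mem z.2)) (V.inv_mem x.2)
        calc y * ((x : G) * z) * y⁻¹ * ((x : G) * z)⁻¹
            = y * x * y⁻¹ * (y * z * y⁻¹ * (z : G)⁻¹ * (x : G)⁻¹) := by group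
          _ = y * x * y⁻¹ * ((x : G)⁻¹ * (y * z * y⁻¹ * (z : G)⁻¹)) := by rw [hcy]
          _ = _ := by group) }
  have hker : Nat.card dm.ker ≤ 2 := by
    have hle : ∀ v : ↥dm.ker, ((v : ↥V) : G) ∈ ({1, v₀} : Set G) := fun v =>
      h₀.only _ v.1.2 (mul_inv_eq_one.1 (congrArg Subtype.val v.2))
    have h := Nat.card_le_card_of_injective (fun v : ↥dm.ker => (⟨_, hle v⟩ : ↥({1, v₀} : Set G)))
      fun a b e => Subtype.ext (Subtype.ext (congrArg Subtype.val e :))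
    rw [Nat.card_coe_set_eq, Set.ncard_pair h₀.ne.symm] at h
    exact h
  have hcount := Subgroup.card_mul_index dm.ker
  rw [Subgroup.index_ker, h16] at hcount
  set U := dm.range.map V.subtype with hU
  have hUcard : Nat.card U = Nat.card dm.range :=
    (Nat.card_congr (dm.range.equivMapOfInjective V.subtype V.subtype_injective).toEquiv).symm
  have hUV : U ≤ V := Subgroup.map_subtype_le _
  have hv₀U : v₀ ∉ U := by
    rintro ⟨_, ⟨v, rfl⟩, he⟩
    have hd : y * v * y⁻¹ * (v : G)⁻¹ = v₀ := he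
    have hk : ∀ k : ℕ, y ^ k * v * (y ^ k)⁻¹ = v₀ ^ k * v := by
      intro k
      induction k with
      | zero => simp
      | succ k ih =>
        have hc : y * v₀ ^ k * y⁻¹ = v₀ ^ k := by rw [← conj_pow, h₀.fix]
        calc y ^ (k + 1) * v * (y ^ (k + 1))⁻¹ = y * (y ^ k * v * (y ^ k)⁻¹) * y⁻¹ := by rw [pow_succ']; group
          _ = y * (v₀ ^ k * v) * y⁻¹ := by rw [ih]
          _ = y * v₀ ^ k * y⁻¹ * (y * v * y⁻¹ * (v : G)⁻¹) * v := by group
          _ = v₀ ^ (k + 1) * v := by rw [hc, hd, pow_succ]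
    have h7 := hk 7
    rw [← hy, pow_orderOf_eq_one, one_mul, inv_one, mul_one, hy, eq_comm, mul_eq_right] at h7
    refine h₀.ne ?_
    calc v₀ = v₀ ^ 7 := by
          rw [show 7 = 2 * 3 + 1 from rfl, pow_succ, pow_mul, pow_two, h2 _ h₀.mem, one_pow, one_mul]
      _ = 1 := h7
  have hU8 : Nat.card U = 8 := by
    rw [hUcard]
    have hlt : Nat.card dm.range ≠ 16 := fun e => hv₀U (by
      have htop : dm.range = ⊤ := Subgroup.card_eq_iff_eq_top _ |>.1 (e.trans h16.symm)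
      exact ⟨⟨v₀, h₀.mem⟩, htop ▸ Subgroup.mem_top _, rfl⟩)
    have h1 := Subgroup.card_le_card_group dm.range
    rw [h16] at h1
    interval_cases h : Nat.card dm.ker <;> omega
  have hinv : ∀ u ∈ U, y * u * y⁻¹ ∈ U := by
    rintro _ ⟨_, ⟨v, rfl⟩, rfl⟩
    refine ⟨dm ⟨y * v * y⁻¹, hn v v.2⟩, ⟨_, rfl⟩, ?_⟩
    show y * (y * v * y⁻¹) * y⁻¹ * (y * v * y⁻¹)⁻¹ = y * (y * v * y⁻¹ * (v : G)⁻¹) * y⁻¹
    group
  refine ⟨U, hUV, hU8, hinv, fun u hu hfix => ?_, hv₀U, ?_, fun v hv => ?_⟩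
  · exact (h₀.only u (hUV hu) hfix).resolve_right fun e => hv₀U (e ▸ hu)
  · rintro _ ⟨_, ⟨v, rfl⟩, rfl⟩
    exact ⟨v, v.2, rfl⟩
  · by_contra hcon
    push Not at hcon
    let f : ↥U × Fin 3 → ↥V := fun p => ⟨(![1, v₀, v] p.2) * p.1, V.mul_mem (by
      obtain ⟨_, i⟩ := p
      fin_cases i
      · exact V.one_mem
      · exact h₀.mem
      · exact hv) (hUV p.1.2)⟩
    have hsep : ∀ i j : Fin 3, (![1, v₀, v] i)⁻¹ * ![1, v₀, v] j ∈ U → i = j := by
      have e₀ : v₀⁻¹ = v₀ := inv_eq_of_mul_eq_one_right (h2 _ h₀.mem)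
      intro i j h
      fin_cases i <;> fin_cases j <;> first
        | rfl
        | (exfalso; simp at h; first
            | exact hv₀U h
            | exact hcon.1 h
            | (rw [e₀] at h; exact hcon.2 h)
            | exact hv₀U (U.inv_mem_iff.1 h)
            | exact hcon.1 (U.inv_mem_iff.1 h)
            | (have := U.inv_mem h; rw [mul_inv_rev, inv_inv, e₀] at this; exact hcon.2 this))
    have hf : Function.Injective f := by
      rintro ⟨u, i⟩ ⟨u', j⟩ e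
      have e' : ![1, v₀, v] i * u = ![1, v₀, v] j * u' := congrArg Subtype.val e
      obtain rfl := hsep i j (by
        have : (![1, v₀, v] i)⁻¹ * ![1, v₀, v] j = u * (u' : G)⁻¹ := by
          rw [eq_mul_inv_iff_mul_eq, mul_assoc, ← e', inv_mul_cancel_left]
        rw [this]; exact U.mul_mem u.2 (U.inv_mem u'.2))
      exact Prod.ext (Subtype.ext (mul_left_cancel e')) rfl
    have := Nat.card_le_card_of_injective f hf
    rw [Nat.card_prod, hU8, h16, Nat.card_eq_fintype_card, Fintype.card_fin] at this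
    omega

/-- An invariant seven element set away from the fixed point makes the complement normal. -/
theorem seven_set {V : Subgroup G} [V.Normal] (h2 : ∀ v ∈ V, v * v = 1) {v₀ : G} (h₀ : OneFixed V y v₀)
    {U : Subgroup G} (hUV : U ≤ V) (h8 : Nat.card U = 8) (hU : ∀ u ∈ U, y * u * y⁻¹ ∈ U) (hfree : Free U y)
    (hcos : ∀ v ∈ V, v ∈ U ∨ v₀ * v ∈ U) (T : Set G) (hTV : ∀ t ∈ T, t ∈ V ∧ t ≠ 1 ∧ t ≠ v₀)
    (hT : ∀ g, ∀ t ∈ T, g * t * g⁻¹ ∈ T) (hne : T.Nonempty) (hle : T.ncard ≤ 7) : U.Normal := by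
  have hTfix : ∀ t ∈ T, y * t * y⁻¹ ≠ t := fun t ht e =>
    (h₀.only t (hTV t ht).1 e).elim (hTV t ht).2.1 (hTV t ht).2.2
  have hd := seven_dvd hy T (hT y) hTfix
  have hdU := seven_dvd hy (T ∩ (U : Set G)) (fun t ht => ⟨hT y t ht.1, hU t ht.2⟩) fun t ht => hTfix t ht.1
  have hpos := (Set.ncard_pos (Set.toFinite T)).2 hne
  have hle' := Set.ncard_le_ncard (Set.inter_subset_left : T ∩ (U : Set G) ⊆ T) (Set.toFinite _)
  -- `U` is the set of products of two elements of a suitable form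
  have hU7 : ((U : Set G) \ {1}).ncard = 7 := by
    rw [Set.ncard_sdiff (Set.singleton_subset_iff.2 U.one_mem), Set.ncard_singleton, ← Nat.card_coe_set_eq,
      show Nat.card ↥(U : Set G) = 8 from h8]
  have hprod : ∀ a ∈ V, ∀ b ∈ V, a ∉ U → b ∉ U → a * b ∈ U := by
    intro a ha b hb haU hbU
    have h1 := U.mul_mem ((hcos a ha).resolve_left haU) ((hcos b hb).resolve_left hbU)
    rwa [show v₀ * a * (v₀ * b) = v₀ * (a * v₀) * b by group, comm_of_sq h2 ha h₀.mem,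
      show v₀ * (v₀ * a) * b = v₀ * v₀ * (a * b) by group, h2 _ h₀.mem, one_mul] at h1
  refine ⟨fun u hu g => ?_⟩
  by_cases hu1 : u = 1
  · rw [hu1]; simp
  rcases (show (T ∩ (U : Set G)).ncard = 0 ∨ (T ∩ (U : Set G)).ncard = 7 by omega) with h0 | h7
  · have hTU : ∀ t ∈ T, t ∉ U := fun t ht htU => by
      have := (Set.ncard_eq_zero (Set.toFinite _)).1 h0
      exact (this ▸ (⟨ht, htU⟩ : t ∈ T ∩ (U : Set G)) : t ∈ (∅ : Set G))
    have hsub : T ⊆ (fun u => v₀ * u) '' ((U : Set G) \ {1}) := fun t ht =>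
      ⟨v₀ * t, ⟨(hcos t (hTV t ht).1).resolve_left (hTU t ht), fun e => (hTV t ht).2.2 (by
        have e' : v₀ * t = 1 := e
        rw [mul_eq_one_iff_inv_eq, inv_eq_of_mul_eq_one_right (h2 _ h₀.mem)] at e'
        exact e'.symm)⟩, by
        show v₀ * (v₀ * t) = t
        rw [← mul_assoc, h2 _ h₀.mem, one_mul]⟩
    have heq := Set.eq_of_subset_of_ncard_le hsub (by
      rw [Set.ncard_image_of_injective _ (mul_right_injective v₀), hU7]; omega) (Set.toFinite _)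
    obtain ⟨a, haU, ha1, hau⟩ : ∃ a ∈ U, a ≠ 1 ∧ a ≠ u := by
      by_contra h
      push Not at h
      have h' : ((U : Set G) \ {1}) ⊆ {u} := fun a ha => h a ha.1 ha.2
      have := Set.ncard_le_ncard h' (Set.toFinite _)
      rw [hU7, Set.ncard_singleton] at this
      omega
    have hmem : ∀ b ∈ U, b ≠ 1 → v₀ * b ∈ T := fun b hb hb1 => heq ▸ ⟨b, ⟨hb, hb1⟩, rfl⟩
    have hau' : a * u ≠ 1 := fun e => hau (by
      rw [mul_eq_one_iff_inv_eq, inv_eq_of_mul_eq_one_right (h2 a (hUV haU))] at e; exact e)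
    have e : u = v₀ * a * (v₀ * (a * u)) := by
      rw [show v₀ * a * (v₀ * (a * u)) = v₀ * (a * v₀) * (a * u) by group,
        comm_of_sq h2 (hUV haU) h₀.mem, show v₀ * (v₀ * a) * (a * u) = v₀ * v₀ * (a * a) * u by group,
        h2 _ h₀.mem, h2 _ (hUV haU), one_mul, one_mul]
    rw [e, show g * (v₀ * a * (v₀ * (a * u))) * g⁻¹ = g * (v₀ * a) * g⁻¹ * (g * (v₀ * (a * u)) * g⁻¹) by group]
    have t1 := hT g _ (hmem a haU ha1)
    have t2 := hT g _ (hmem _ (U.mul_mem haU hu) hau')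
    exact hprod _ (hTV _ t1).1 _ (hTV _ t2).1 (hTU _ t1) (hTU _ t2)
  · have hTeq : T ∩ (U : Set G) = T := Set.eq_of_subset_of_ncard_le Set.inter_subset_left (by omega) (Set.toFinite _)
    have hsub : T ⊆ (U : Set G) \ {1} := fun t ht => ⟨(hTeq.symm ▸ ht : t ∈ T ∩ (U : Set G)).2, (hTV t ht).2.1⟩
    have heq := Set.eq_of_subset_of_ncard_le hsub (by omega) (Set.toFinite _)
    have hu' : u ∈ T := heq ▸ ⟨hu, hu1⟩
    exact (hTeq.symm ▸ hT g u hu' : g * u * g⁻¹ ∈ T ∩ (U : Set G)).2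

variable {Q : Subgroup G} {φ : G →* L3}

/-- A normal elementary group of order sixteen has a fixed point or an invariant hyperplane. -/
theorem orbit8 (hφ : Function.Surjective φ) (hker : φ.ker = Q) (V : Subgroup G) [V.Normal]
    (h2 : ∀ v ∈ V, v * v = 1) (h16 : Nat.card V = 16) (hQV : ∀ x ∈ Q, ∀ v ∈ V, x * v = v * x) {v₀ : G}
    (h₀ : OneFixed V y v₀) :
    (∀ g, g * v₀ * g⁻¹ = v₀) ∨ ∃ U : Subgroup G, U.Normal ∧ U ≤ V ∧ Nat.card U = 8 ∧ Free U y := by
  classical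
  haveI : Fact (Nat.Prime 7) := ⟨by norm_num⟩
  have hVn : ∀ (g : G), ∀ v ∈ V, g * v * g⁻¹ ∈ V := fun g v hv => (inferInstance : V.Normal).conj_mem v hv g
  by_cases hfix : ∀ g, g * v₀ * g⁻¹ = v₀
  · exact Or.inl hfix
  push Not at hfix
  obtain ⟨g₀, hg₀⟩ := hfix
  right
  set S : Set G := Set.range (fun g => g * v₀ * g⁻¹) with hS
  have hSmem : ∀ s, s ∈ S ↔ ∃ g, g * v₀ * g⁻¹ = s := fun s => Iff.rfl
  have hSV : S ⊆ (V : Set G) \ {1} := fun s hs => by
    obtain ⟨g, rfl⟩ := (hSmem s).1 hs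
    exact ⟨hVn g _ h₀.mem, fun e => h₀.ne (conj_eq_one_iff.1 e)⟩
  have hSy : ∀ g, ∀ s ∈ S, g * s * g⁻¹ ∈ S := fun g s hs => by
    obtain ⟨k, rfl⟩ := (hSmem s).1 hs
    exact (hSmem _).2 ⟨g * k, by group⟩
  have hmod : S.ncard % 7 = 1 := by
    rw [fixed_modEq hy S (hSy y)]
    have he : {s ∈ S | y * s * y⁻¹ = s} = {v₀} := by
      ext s
      refine ⟨fun hs => (h₀.only s (hSV hs.1).1 hs.2).resolve_left (hSV hs.1).2, ?_⟩
      rintro rfl
      exact ⟨(hSmem _).2 ⟨1, by simp⟩, h₀.fix⟩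
    rw [he, Set.ncard_singleton]
  have h15 : ((V : Set G) \ {1}).ncard = 15 := by
    rw [Set.ncard_sdiff (Set.singleton_subset_iff.2 V.one_mem), Set.ncard_singleton, ← Nat.card_coe_set_eq,
      show Nat.card ↥(V : Set G) = 16 from h16]
  have hle := Set.ncard_le_ncard hSV (Set.toFinite _)
  have hdvd : S.ncard ∣ 168 := by
    set K := Subgroup.centralizer ({v₀} : Set G) with hK
    let orb : G ⧸ K → G := fun q => Quotient.liftOn' q (fun g => g * v₀ * g⁻¹) (fun a b hab => by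
      have hm : a⁻¹ * b * v₀ = v₀ * (a⁻¹ * b) :=
        Subgroup.mem_centralizer_singleton_iff.1 (QuotientGroup.leftRel_apply.1 hab : a⁻¹ * b ∈ K)
      calc a * v₀ * a⁻¹ = a * (v₀ * (a⁻¹ * b)) * b⁻¹ := by group
        _ = a * (a⁻¹ * b * v₀) * b⁻¹ := by rw [hm]
        _ = b * v₀ * b⁻¹ := by group)
    have horb : Function.Injective orb := by
      intro p q
      induction p using QuotientGroup.induction_on with
      | H a =>
        induction q using QuotientGroup.induction_on with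
        | H b =>
          intro h
          have h' : a * v₀ * a⁻¹ = b * v₀ * b⁻¹ := h
          rw [QuotientGroup.eq, hK, Subgroup.mem_centralizer_singleton_iff]
          calc a⁻¹ * b * v₀ = a⁻¹ * (b * v₀ * b⁻¹) * b := by group
            _ = a⁻¹ * (a * v₀ * a⁻¹) * b := by rw [h']
            _ = v₀ * (a⁻¹ * b) := by group
    have hrange : Set.range orb = S := by
      ext s
      constructor
      · rintro ⟨q, rfl⟩
        induction q using QuotientGroup.induction_on with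
        | H a => exact ⟨a, rfl⟩
      · rintro ⟨a, rfl⟩
        exact ⟨QuotientGroup.mk a, rfl⟩
    have h1 : K.index = S.ncard := by
      rw [← hrange, ← Nat.card_coe_set_eq, Nat.card_range_of_injective horb, Subgroup.index_eq_card]
    have hQi : Q.index = 168 := by
      rw [← hker, Subgroup.index_ker, MonoidHom.range_eq_top.2 hφ, Subgroup.card_top, S2553.card_gl3]
    rw [← h1, ← hQi]
    exact Subgroup.index_dvd_of_le fun x hx =>
      Subgroup.mem_centralizer_singleton_iff.2 (hQV x hx v₀ h₀.mem)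
  have h8 : S.ncard = 8 := by
    have hne : S.ncard ≠ 1 := fun e => by
      obtain ⟨a, ha⟩ := Set.ncard_eq_one.1 e
      have m1 : g₀ * v₀ * g₀⁻¹ ∈ S := (hSmem _).2 ⟨g₀, rfl⟩
      have m2 : v₀ ∈ S := (hSmem _).2 ⟨1, by simp⟩
      rw [ha, Set.mem_singleton_iff] at m1 m2
      exact hg₀ (m1.trans m2.symm)
    have h15' : S.ncard ≠ 15 := fun e => by rw [e] at hdvd; norm_num at hdvd
    omega
  obtain ⟨U, hUV, hU8, hUy, hUfree, hv₀U, -, hcos⟩ := range7 hy h2 h16 (hVn y) h₀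
  refine ⟨U, ?_, hUV, hU8, hUfree⟩
  refine seven_set hy h2 h₀ hUV hU8 hUy hUfree hcos (((V : Set G) \ {1}) \ S) ?_ ?_ ?_ ?_
  · rintro t ⟨⟨htV, ht1⟩, htS⟩
    exact ⟨htV, ht1, fun e => htS (e ▸ (hSmem _).2 ⟨1, by simp⟩)⟩
  · rintro g t ⟨⟨htV, ht1⟩, htS⟩
    refine ⟨⟨hVn g t htV, fun e => ht1 (conj_eq_one_iff.1 e)⟩, fun h => htS ?_⟩
    have := hSy g⁻¹ _ h
    rwa [show g⁻¹ * (g * t * g⁻¹) * g⁻¹⁻¹ = t by group] at this
  · refine (Set.ncard_pos (Set.toFinite _)).1 ?_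
    rw [Set.ncard_sdiff hSV, h15, h8]
    norm_num
  · rw [Set.ncard_sdiff hSV, h15, h8]

omit hy in
/-- A normal elementary group moved by `y` has centralizer `Q`. -/
theorem cent_eq (hφ : Function.Surjective φ) (hker : φ.ker = Q) (W : Subgroup G) [W.Normal]
    (hQ : ∀ x ∈ Q, ∀ w ∈ W, x * w = w * x) {w : G} (hw : w ∈ W) (hyw : y * w * y⁻¹ ≠ w) :
    ∀ g, (∀ v ∈ W, g * v = v * g) ↔ g ∈ Q := by
  intro g
  refine ⟨fun hg => ?_, hQ g⟩
  have hQK : Q ≤ Subgroup.centralizer (W : Set G) := fun x hx =>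
    Subgroup.mem_centralizer_iff.2 fun v hv => (hQ x hx v hv).symm
  rcases normal_above hφ hker _ hQK with h | h
  · exact h ▸ Subgroup.mem_centralizer_iff.2 fun v hv => (hg v hv).symm
  · refine absurd ?_ hyw
    have : y ∈ Subgroup.centralizer (W : Set G) := h ▸ Subgroup.mem_top y
    rw [← Subgroup.mem_centralizer_iff.1 this w hw, mul_inv_cancel_right]

omit hy in
/-- The squares of the stabilizer of a vector fix only it and `0`. -/
theorem square_stabilizer {W : Subgroup G} (F : Frame W) {a c : V3} (ha : a ≠ 0) (hc : c ≠ 0) (hca : c ≠ a) :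
    ∃ k : G, k * F.e a * k⁻¹ = F.e a ∧ k * k * F.e c * (k * k)⁻¹ ≠ F.e c := by
  obtain ⟨f, d, f', d', hfd, hfd', hfa, hfa', hne⟩ := moved_by_square a c ha hc hca
  obtain ⟨g, hg⟩ := F.rep (tv f d hfd)
  obtain ⟨g', hg'⟩ := F.rep (tv f' d' hfd')
  have hfix : ∀ (f d : V3) (h : dot f d = 0), dot f a = 0 → tv f d h a = a := fun f d h e => by
    rw [tv_apply, e, zero_smul, add_zero]
  refine ⟨g * g', ?_, fun e => hne ?_⟩
  · rw [show g * g' * F.e a * (g * g')⁻¹ = g * (g' * F.e a * g'⁻¹) * g⁻¹ by group, hg', hfix _ _ _ hfa',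
      hg, hfix _ _ _ hfa]
  · refine F.inj (Eq.trans ?_ e)
    rw [show g * g' * (g * g') * F.e c * (g * g' * (g * g'))⁻¹ =
      g * (g' * (g * (g' * F.e c * g'⁻¹) * g⁻¹) * g'⁻¹) * g⁻¹ by group, hg', hg, hg', hg]
    rfl

end Cfsg.Agent.Lib.Inv59.RankFour.Seven
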