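import Mathlib
import Cfsg.Agent.Lib.Inv59.RankFour.Seven.Orbits
import Cfsg.Agent.Lib.Inv59.RankFour.Seven.Core

/-!
# Squaring into a natural module
-/

set_option autoImplicit false
set_option linter.unusedSectionVars false
set_option linter.style.haveILetI false
set_option synthInstance.maxSize 4000
set_option synthInstance.maxHeartbeats 400000

namespace Cfsg.Agent.Lib.Inv59.RankFour.Seven

universe u v

variable {G : Type u} [Group G] [Finite G]

/-- An element of order seven survives in a quotient by a 2-group. -/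
theorem order_map {y : G} (hy : orderOf y = 7) (N : Subgroup G) [N.Normal] (hN : IsPGroup 2 N) :
    orderOf (QuotientGroup.mk' N y) = 7 := by
  have hd : orderOf (QuotientGroup.mk' N y) ∣ 7 := hy ▸ orderOf_map_dvd _ y
  rcases (Nat.dvd_prime (by norm_num)).1 hd with h | h
  · exfalso
    have hyN : y ∈ N := (QuotientGroup.eq_one_iff y).1 (orderOf_eq_one_iff.1 h)
    obtain ⟨m, hm⟩ := (haveI := Fact.mk Nat.prime_two; IsPGroup.iff_orderOf.1 hN ⟨y, hyN⟩)
    rw [Subgroup.orderOf_mk, hy] at hm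
    have := (Nat.prime_dvd_prime_iff_eq (by norm_num : Nat.Prime 7) Nat.prime_two).1
      ((show Nat.Prime 7 by norm_num).dvd_of_dvd_pow hm.dvd)
    omega
  · exact h

theorem isPGroup_of_sq {Z : Subgroup G} (h : ∀ z ∈ Z, z * z = 1) : IsPGroup 2 Z := fun v => ⟨1, Subtype.ext (by
  rw [pow_one, Subgroup.coe_pow, pow_two]; exact h v v.2)⟩

/-- Squaring from a free module of order eight onto a natural module is linear. -/
theorem quad {y : G} (hy : orderOf y = 7) (hr : Cfsg.SectionalPRankLE 2 4 G) (M Z W : Subgroup G)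
    [M.Normal] [Z.Normal] [W.Normal] (F : Frame W) (hWZ : W ≤ Z) (hZM : Z ≤ M)
    (hZ2 : ∀ z ∈ Z, z * z = 1) (hZc : ∀ z ∈ Z, ∀ x ∈ M, x * z = z * x) (hsq : ∀ x ∈ M, x * x ∈ W)
    (hcard : Nat.card M = 8 * Nat.card Z) (hfreeW : Free W y)
    (hfree : ∀ x ∈ M, y * x * y⁻¹ * x⁻¹ ∈ Z → x ∈ Z) :
    (∀ a ∈ M, ∀ b ∈ M, a * b = b * a) ∧ (∀ w ∈ W, ∃ x ∈ M, x * x = w) ∧
      (∀ x ∈ M, x * x = 1 → x ∈ Z) := by
  classical
  let π := QuotientGroup.mk' Z
  have hπs : Function.Surjective π := QuotientGroup.mk'_surjective Z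
  set V := M.map π with hV
  have hy' : orderOf (π y) = 7 := order_map hy Z (isPGroup_of_sq hZ2)
  have hone : ∀ x, π x = 1 ↔ x ∈ Z := fun x => QuotientGroup.eq_one_iff x
  have hV8 : Nat.card V = 8 := by
    have h : Nat.card ↥V * Nat.card Z = Nat.card M := card_map_mk Z M hZM
    rw [hcard] at h
    exact Nat.eq_of_mul_eq_mul_right Nat.card_pos h
  have hVfree : Free V (π y) := by
    rintro _ ⟨x, hx, rfl⟩ he
    refine (hone x).2 (hfree x hx ((hone _).1 ?_))
    rw [map_mul, map_mul, map_mul, map_inv, map_inv, he, mul_inv_cancel]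
  -- squaring only depends on the coset
  have hwd : ∀ a ∈ M, ∀ b : G, π a = π b → b * b = a * a := by
    intro a ha b h
    have hz : a⁻¹ * b ∈ Z := (hone _).1 (by rw [map_mul, map_inv, h, inv_mul_cancel])
    rw [show b = a * (a⁻¹ * b) by group]
    calc a * (a⁻¹ * b) * (a * (a⁻¹ * b)) = a * ((a⁻¹ * b) * a) * (a⁻¹ * b) := by group
      _ = a * (a * (a⁻¹ * b)) * (a⁻¹ * b) := by rw [← hZc _ hz a ha]
      _ = a * a * ((a⁻¹ * b) * (a⁻¹ * b)) := by group
      _ = a * a := by rw [hZ2 _ hz, mul_one]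
  -- no new involutions
  have hne : ∀ x ∈ M, x * x = 1 → x ∈ Z := by
    intro x hx hx2
    by_contra hxZ
    have hall : ∀ a ∈ M, a * a = 1 := by
      intro a ha
      by_cases haZ : a ∈ Z
      · exact hZ2 a haZ
      · obtain ⟨b, hb, hb2, hbπ⟩ := seven_all hy' hV8 hVfree (S := {v | ∃ b ∈ M, b * b = 1 ∧ π b = v ∧ b ∉ Z})
          (fun s hs => by
            obtain ⟨b, hb, -, rfl, hbZ⟩ := hs
            exact ⟨⟨b, hb, rfl⟩, fun e => hbZ ((hone b).1 e)⟩)
          (fun s hs => by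
            obtain ⟨b, hb, hb2, rfl, hbZ⟩ := hs
            refine ⟨y * b * y⁻¹, (inferInstance : M.Normal).conj_mem b hb y, ?_, by simp, fun h => hbZ ?_⟩
            · rw [show y * b * y⁻¹ * (y * b * y⁻¹) = y * (b * b) * y⁻¹ by group, hb2]; simp
            · have := (inferInstance : Z.Normal).conj_mem _ h y⁻¹
              rwa [show y⁻¹ * (y * b * y⁻¹) * y⁻¹⁻¹ = b by group] at this)
          (show π x ∈ _ from ⟨x, hx, hx2, rfl, hxZ⟩) (π a) ⟨a, ha, rfl⟩ (fun e => haZ ((hone a).1 e))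
        exact (hwd b hb a hbπ.1).trans hb2
    have h64 := section_le hr M ⊥ bot_le (fun h _ k hk => by rw [Subgroup.mem_bot] at hk; simp [hk])
      (fun h hh => Subgroup.mem_bot.2 (hall h hh))
    rw [Subgroup.card_bot, hcard] at h64
    have hW8 := Subgroup.card_le_of_le hWZ
    rw [F.card] at hW8
    omega
  -- squaring is surjective
  have hsurj : ∀ w ∈ W, ∃ x ∈ M, x * x = w := by
    intro w hw
    by_cases hw1 : w = 1
    · exact ⟨1, M.one_mem, by rw [hw1, one_mul]⟩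
    obtain ⟨x, hx, hxZ⟩ : ∃ x ∈ M, x ∉ Z := by
      by_contra h
      push Not at h
      have := Subgroup.card_le_of_le (show M ≤ Z from h)
      have := Nat.card_pos (α := ↥Z)
      omega
    obtain ⟨a, ha, -, hax⟩ := seven_all hy F.card hfreeW (S := {v | ∃ a ∈ M, a ∉ Z ∧ a * a = v})
      (fun s hs => by
        obtain ⟨a, ha, haZ, rfl⟩ := hs
        exact ⟨hsq a ha, fun e => haZ (hne a ha e)⟩)
      (fun s hs => by
        obtain ⟨a, ha, haZ, rfl⟩ := hs
        refine ⟨y * a * y⁻¹, (inferInstance : M.Normal).conj_mem a ha y, fun h => haZ ?_, by group⟩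
        have := (inferInstance : Z.Normal).conj_mem _ h y⁻¹
        rwa [show y⁻¹ * (y * a * y⁻¹) * y⁻¹⁻¹ = a by group] at this)
      (show x * x ∈ _ from ⟨x, hx, hxZ, rfl⟩) w hw hw1
    exact ⟨a, ha, hax⟩
  -- and injective
  choose r hrM hrsq using hsurj
  let R : G → G ⧸ Z := fun w => if h : w ∈ W then π (r w h) else 1
  have hsub : R '' ((W : Set G) \ {1}) ⊆ (V : Set (G ⧸ Z)) \ {1} := by
    rintro _ ⟨w, ⟨hw, hw1⟩, rfl⟩
    have hR : R w = π (r w hw) := dif_pos (show w ∈ W from hw)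
    rw [hR]
    refine ⟨⟨_, hrM w hw, rfl⟩, fun e => hw1 ?_⟩
    rw [Set.mem_singleton_iff, ← hrsq w hw]
    exact hZ2 _ ((hone _).1 e)
  have hinjR : Set.InjOn R ((W : Set G) \ {1}) := by
    intro a ha b hb e
    rw [show R a = π (r a ha.1) from dif_pos (show a ∈ W from ha.1),
      show R b = π (r b hb.1) from dif_pos (show b ∈ W from hb.1)] at e
    rw [← hrsq a ha.1, ← hrsq b hb.1]
    exact (hwd _ (hrM a ha.1) _ e).symm
  have h7 : ∀ {H : Type u} [Group H] [Finite H] (K : Subgroup H), Nat.card K = 8 → ((K : Set H) \ {1}).ncard = 7 := by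
    intro H _ _ K hK
    rw [Set.ncard_sdiff (Set.singleton_subset_iff.2 K.one_mem), Set.ncard_singleton, ← Nat.card_coe_set_eq,
      show Nat.card ↥(K : Set H) = 8 from hK]
  have heq := Set.eq_of_subset_of_ncard_le hsub (by
    rw [hinjR.ncard_image, h7 V hV8, h7 W F.card]) (Set.toFinite _)
  have hinj : ∀ a ∈ M, ∀ b ∈ M, a ∉ Z → b ∉ Z → a * a = b * b → π a = π b := by
    have hrep : ∀ a (ha : a ∈ M), a ∉ Z → π (r (a * a) (hsq a ha)) = π a := by
      intro a ha haZ
      have hm : π a ∈ R '' ((W : Set G) \ {1}) := heq ▸ ⟨⟨a, ha, rfl⟩, fun e => haZ ((hone a).1 e)⟩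
      obtain ⟨w, hw, hwe⟩ := hm
      rw [show R w = π (r w hw.1) from dif_pos (show w ∈ W from hw.1)] at hwe
      have hww : a * a = w := (hwd _ (hrM w hw.1) a hwe).trans (hrsq w hw.1)
      subst hww
      exact hwe
    intro a ha b hb haZ hbZ e
    rw [← hrep a ha haZ, ← hrep b hb hbZ]
    simp only [e]
  refine ⟨fun a ha b hb => ?_, fun w hw => ⟨r w hw, hrM w hw, hrsq w hw⟩, hne⟩
  by_cases haZ : a ∈ Z
  · exact (hZc a haZ b hb).symm
  by_cases hbZ : b ∈ Z
  · exact hZc b hbZ a ha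
  by_cases hab : π a = π b
  · have hz : a⁻¹ * b ∈ Z := (hone _).1 (by rw [map_mul, map_inv, hab, inv_mul_cancel])
    rw [show b = a * (a⁻¹ * b) by group]
    calc a * (a * (a⁻¹ * b)) = a * ((a⁻¹ * b) * a) := by rw [hZc _ hz a ha]
      _ = a * (a⁻¹ * b) * a := by group
  have hc : a * b ∈ M := M.mul_mem ha hb
  have hcZ : a * b ∉ Z := by
    intro h
    refine hab ?_
    have e := (hone _).2 h
    rw [map_mul] at e
    have hb2 : π b * π b = 1 := by rw [← map_mul]; exact (hone _).2 (hWZ (hsq b hb))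
    rw [mul_eq_one_iff_eq_inv] at e
    rw [e, inv_eq_of_mul_eq_one_right hb2]
  obtain ⟨α, hα⟩ := F.surj _ (hsq a ha)
  obtain ⟨β, hβ⟩ := F.surj _ (hsq b hb)
  obtain ⟨γ, hγ⟩ := F.surj _ (hsq _ hc)
  have hα0 : α ≠ 0 := fun e => haZ (hne a ha (by rw [← hα, e, F.zero]))
  have hβ0 : β ≠ 0 := fun e => hbZ (hne b hb (by rw [← hβ, e, F.zero]))
  have hγ0 : γ ≠ 0 := fun e => hcZ (hne _ hc (by rw [← hγ, e, F.zero]))
  have hαβ : α ≠ β := fun e => hab (hinj a ha b hb haZ hbZ (by rw [← hα, ← hβ, e]))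
  have hγα : γ ≠ α := fun e => hbZ ((hone b).1 (by
    have := hinj _ hc a ha hcZ haZ (by rw [← hγ, ← hα, e])
    rwa [map_mul, mul_eq_left] at this))
  have hγβ : γ ≠ β := fun e => haZ ((hone a).1 (by
    have := hinj _ hc b hb hcZ hbZ (by rw [← hγ, ← hβ, e])
    rwa [map_mul, mul_eq_right] at this))
  have hlin : γ = α + β := by
    by_contra hne'
    obtain ⟨f1, f2, f3⟩ := moved_by_tv α β γ hα0 hβ0 hαβ hγ0 hγα hγβ hne'
    obtain ⟨g, hg⟩ := F.rep (tv (cross α β) α f1)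
    have hfix : ∀ x ∈ M, x ∉ Z → ∀ ξ, F.e ξ = x * x → dot (cross α β) ξ = 0 → π (g * x * g⁻¹) = π x := by
      intro x hx hxZ ξ hξ hd
      refine hinj _ ((inferInstance : M.Normal).conj_mem x hx g) x hx (fun h => hxZ ?_) hxZ ?_
      · have := (inferInstance : Z.Normal).conj_mem _ h g⁻¹
        rwa [show g⁻¹ * (g * x * g⁻¹) * g⁻¹⁻¹ = x by group] at this
      · rw [show g * x * g⁻¹ * (g * x * g⁻¹) = g * (x * x) * g⁻¹ by group, ← hξ, hg, tv_apply, hd, zero_smul,
          add_zero]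
    have hgc : π (g * (a * b) * g⁻¹) = π (a * b) := by
      rw [show g * (a * b) * g⁻¹ = g * a * g⁻¹ * (g * b * g⁻¹) by group, map_mul,
        hfix a ha haZ α hα f1, hfix b hb hbZ β hβ f2, ← map_mul]
    have he := hwd _ hc _ hgc.symm
    rw [show g * (a * b) * g⁻¹ * (g * (a * b) * g⁻¹) = g * (a * b * (a * b)) * g⁻¹ by group, ← hγ, hg, tv_apply,
      f3, one_smul] at he
    exact hα0 (add_eq_left.1 (F.inj he))
  have e : a * b * (a * b) = a * a * (b * b) := by rw [← hγ, ← hα, ← hβ, hlin, F.add]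
  exact (mul_left_cancel (mul_right_cancel (show a * (a * b) * b = a * (b * a) * b by
    calc a * (a * b) * b = a * a * (b * b) := by group
      _ = a * b * (a * b) := e.symm
      _ = a * (b * a) * b := by group)))

/-- The exclusion, inside a subgroup inducing all automorphisms of the natural module. -/
theorem core_in (hr : Cfsg.SectionalPRankLE 2 4 G) (M Z W : Subgroup G) [M.Normal] [Z.Normal] [W.Normal]
    (F : Frame W) (X : Subgroup G) (hMX : M ≤ X) (hcov : ∀ g : G, ∃ x ∈ X, ∀ w ∈ W, x * w * x⁻¹ = g * w * g⁻¹)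
    (hab : ∀ a ∈ M, ∀ b ∈ M, a * b = b * a) (hsq : ∀ x ∈ M, x * x ∈ W) (hroot : ∀ w ∈ W, ∃ x ∈ M, x * x = w)
    (hZ : ∀ x, x ∈ Z ↔ x ∈ M ∧ x * x = 1) (hWZ : W ≤ Z) (hsmall : Nat.card Z ≤ 2 * Nat.card W)
    (hcent : ∀ g ∈ X, (∀ w ∈ W, g * w = w * g) → g ∈ M) : False := by
  have hWX : W ≤ X := fun w hw => hMX ((hZ w).1 (hWZ hw)).1
  let F' : Frame (W.subgroupOf X) :=
    { e := fun v => ⟨F.e v, hWX (F.mem v)⟩
      mem := fun v => F.mem v
      surj := fun x hx => by
        obtain ⟨v, hv⟩ := F.surj _ hx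
        exact ⟨v, Subtype.ext hv⟩
      inj := fun a b h => F.inj (congrArg Subtype.val h)
      add := fun a b => Subtype.ext (F.add a b)
      rep := fun σ => by
        obtain ⟨g, hg⟩ := F.rep σ
        obtain ⟨x, hx, hxg⟩ := hcov g
        exact ⟨⟨x, hx⟩, fun v => Subtype.ext ((hxg _ (F.mem v)).trans (hg v))⟩ }
  have hidx : (W.subgroupOf Z).index ≤ 2 := by
    have h := Subgroup.card_mul_index (W.subgroupOf Z)
    rw [Nat.card_congr (Subgroup.subgroupOfEquivOfLe hWZ).toEquiv] at h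
    rw [← h, mul_comm 2] at hsmall
    exact Nat.le_of_mul_le_mul_left hsmall Nat.card_pos
  refine core_false (F := F') (M := M.subgroupOf X) (Om := Z.subgroupOf X) ?_ (SectionalRank.subgroup hr X)
  refine ⟨inferInstance, inferInstance, inferInstance, fun a ha b hb => Subtype.ext (hab _ ha _ hb), fun x => ?_,
    fun x hx => hWZ hx, fun x hx => hsq _ hx, fun w hw => ?_, fun g hg => ?_, fun a ha b hb haW hbW => ?_⟩
  · rw [Subgroup.mem_subgroupOf, Subgroup.mem_subgroupOf, hZ, Subtype.ext_iff]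
    rfl
  · obtain ⟨x, hx, hxe⟩ := hroot _ hw
    exact ⟨⟨x, hMX hx⟩, hx, Subtype.ext hxe⟩
  · exact hcent g g.2 fun w hw => congrArg Subtype.val (hg ⟨w, hWX hw⟩ hw)
  · show (a : G) * b ∈ W
    have hone : (W.subgroupOf Z).index = 1 ∨ (W.subgroupOf Z).index = 2 := by
      have := Subgroup.index_ne_zero_of_finite (H := W.subgroupOf Z)
      omega
    rcases hone with h | h
    · have hm : (⟨(a : G), ha⟩ : ↥Z) ∈ W.subgroupOf Z := by
        rw [Subgroup.index_eq_one.1 h]; exact Subgroup.mem_top _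
      exact absurd hm haW
    · exact (Subgroup.mul_mem_iff_of_index_two h (a := ⟨a, ha⟩) (b := ⟨b, hb⟩)).2
        ⟨fun h' => absurd h' haW, fun h' => absurd h' hbW⟩

end Cfsg.Agent.Lib.Inv59.RankFour.Seven
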