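import Mathlib
import Cfsg.Agent.Lib.Inv59.RankFour.Seven.Orbits
import Cfsg.Agent.Lib.Inv59.RankFour.Seven.Quad

/-!
# A central layer of order two under the natural module
-/

set_option autoImplicit false
set_option linter.unusedSectionVars false
set_option linter.style.haveILetI false
set_option synthInstance.maxSize 4000
set_option synthInstance.maxHeartbeats 400000

namespace Cfsg.Agent.Lib.Inv59.RankFour.Seven

universe u v

variable {G : Type u} [Group G] [Finite G]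

theorem two_elems {W : Subgroup G} (hW : Nat.card W = 2) :
    ∃ w ∈ W, w ≠ 1 ∧ w * w = 1 ∧ ∀ a ∈ W, a = 1 ∨ a = w := by
  obtain ⟨w, hw, hw1⟩ := (Subgroup.bot_or_exists_ne_one W).resolve_left fun h => by
    rw [h, Subgroup.card_bot] at hW; omega
  have hall : ∀ a ∈ W, a = 1 ∨ a = w := by
    intro a ha
    by_contra hcon
    push Not at hcon
    have h3 : ({1, w, a} : Set G).ncard = 3 := by
      rw [Set.ncard_insert_of_notMem (by simp [Ne.symm hw1, Ne.symm hcon.1]), Set.ncard_pair (Ne.symm hcon.2)]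
    have hle := Set.ncard_le_ncard (show ({1, w, a} : Set G) ⊆ (W : Set G) by
      rintro v (rfl | rfl | rfl)
      · exact W.one_mem
      · exact hw
      · exact ha) (Set.toFinite _)
    rw [h3, ← Nat.card_coe_set_eq] at hle
    rw [show Nat.card ↥(W : Set G) = 2 from hW] at hle
    omega
  refine ⟨w, hw, hw1, ?_, hall⟩
  exact (hall _ (W.mul_mem hw hw)).resolve_right fun e => hw1 (mul_eq_left.1 e)

/-- A normal subgroup of order two is central. -/
theorem two_central {W : Subgroup G} [W.Normal] (hW : Nat.card W = 2) : ∀ a ∈ W, ∀ g : G, g * a = a * g := by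
  obtain ⟨w, hw, hw1, -, hall⟩ := two_elems hW
  intro a ha g
  rcases hall a ha with rfl | rfl
  · simp
  · rcases hall _ ((inferInstance : W.Normal).conj_mem _ hw g) with e | e
    · exact absurd (conj_eq_one_iff.1 e) hw1
    · exact mul_inv_eq_iff_eq_mul.1 e

variable {y : G} (hy : orderOf y = 7)

include hy

/-- In a free extension of a central involution by a group of order eight all lifts are involutions. -/
theorem all_good (M W : Subgroup G) [W.Normal] (hW : Nat.card W = 2) (hWM : W ≤ M)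
    (hM : Nat.card M = 16) (hMy : ∀ a ∈ M, y * a * y⁻¹ ∈ M) (hsq : ∀ a ∈ M, a * a ∈ W)
    (hfree : ∀ a ∈ M, y * a * y⁻¹ * a⁻¹ ∈ W → a ∈ W) : ∀ a ∈ M, a * a = 1 := by
  obtain ⟨w, hw, hw1, hww, hW12⟩ := two_elems hW
  have hc := two_central hW
  let π := QuotientGroup.mk' W
  have hπs : Function.Surjective π := QuotientGroup.mk'_surjective W
  have hone : ∀ x, π x = 1 ↔ x ∈ W := fun x => QuotientGroup.eq_one_iff x
  set V := M.map π with hV
  have hV8 : Nat.card V = 8 := by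
    have h : Nat.card ↥V * Nat.card W = Nat.card M := card_map_mk W M hWM
    rw [hM, hW] at h
    omega
  have hy' : orderOf (π y) = 7 := order_map hy W (isPGroup_of_sq fun a ha => by
    rcases hW12 a ha with rfl | rfl
    · exact one_mul 1
    · exact hww)
  have hVfree : Free V (π y) := by
    rintro _ ⟨x, hx, rfl⟩ he
    refine (hone x).2 (hfree x hx ((hone _).1 ?_))
    rw [map_mul, map_mul, map_mul, map_inv, map_inv, he, mul_inv_cancel]
  intro a₀ ha₀
  by_contra hbad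
  have ha₀W : a₀ ∉ W := fun h => hbad (by rcases hW12 _ h with rfl | rfl; exacts [one_mul 1, hww])
  -- all lifts outside `W` square to `w`
  have hall : ∀ a ∈ M, a ∉ W → a * a = w := by
    intro a ha haW
    obtain ⟨b, hb, hb2, hbπ, -⟩ := seven_all hy' hV8 hVfree (S := {v | ∃ b ∈ M, b * b = w ∧ π b = v ∧ b ∉ W})
      (fun s hs => by
        obtain ⟨b, hb, -, rfl, hbW⟩ := hs
        exact ⟨⟨b, hb, rfl⟩, fun e => hbW ((hone b).1 e)⟩)
      (fun s hs => by
        obtain ⟨b, hb, hb2, rfl, hbW⟩ := hs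
        refine ⟨y * b * y⁻¹, hMy b hb, ?_, by simp, fun h => hbW ?_⟩
        · rw [show y * b * y⁻¹ * (y * b * y⁻¹) = y * (b * b) * y⁻¹ by group, hb2, hc w hw y, mul_inv_cancel_right]
        · have := (inferInstance : W.Normal).conj_mem _ h y⁻¹
          rwa [show y⁻¹ * (y * b * y⁻¹) * y⁻¹⁻¹ = b by group] at this)
      (show π a₀ ∈ _ from ⟨a₀, ha₀, (hW12 _ (hsq a₀ ha₀)).resolve_left hbad, rfl, ha₀W⟩)
      (π a) ⟨a, ha, rfl⟩ (fun e => haW ((hone a).1 e))
    have hz : b⁻¹ * a ∈ W := (hone _).1 (by rw [map_mul, map_inv, hbπ, inv_mul_cancel])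
    rw [show a = b * (b⁻¹ * a) by group]
    calc b * (b⁻¹ * a) * (b * (b⁻¹ * a)) = b * ((b⁻¹ * a) * b) * (b⁻¹ * a) := by group
      _ = b * (b * (b⁻¹ * a)) * (b⁻¹ * a) := by rw [← hc _ hz b]
      _ = b * b * ((b⁻¹ * a) * (b⁻¹ * a)) := by group
      _ = w := by
        rcases hW12 _ hz with e | e <;> rw [e, hb2]
        · rw [one_mul, mul_one]
        · rw [hww, mul_one]
  -- so any two different classes have commutator `w`
  have hcomm : ∀ a ∈ M, ∀ b ∈ M, a ∉ W → b ∉ W → a * b ∉ W → b * a = w * (a * b) := by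
    intro a ha b hb haW hbW habW
    have h1 := hall _ (M.mul_mem ha hb) habW
    have e1 : a⁻¹ = w * a := (inv_eq_of_mul_eq_one_left (by rw [mul_assoc, hall a ha haW, hww]))
    have e2 : b⁻¹ = w * b := (inv_eq_of_mul_eq_one_left (by rw [mul_assoc, hall b hb hbW, hww]))
    have h2 : b * a = a⁻¹ * w * b⁻¹ := by
      rw [← h1]; group
    rw [h2, e1, e2, show w * a * w * (w * b) = w * a * (w * w) * b by group, hww, mul_one, mul_assoc]
  obtain ⟨b, hb, hbn⟩ : ∃ b ∈ V, b ∉ ({1, π a₀} : Set (G ⧸ W)) := by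
    by_contra h
    push Not at h
    have := Set.ncard_le_ncard (show (V : Set (G ⧸ W)) ⊆ {1, π a₀} from h) (Set.toFinite _)
    rw [← Nat.card_coe_set_eq, show Nat.card ↥(V : Set (G ⧸ W)) = 8 from hV8] at this
    have := this.trans (Set.ncard_insert_le _ _)
    rw [Set.ncard_singleton] at this
    omega
  obtain ⟨b, hbM, rfl⟩ := hb
  obtain ⟨c, hc', hcn⟩ : ∃ c ∈ V, c ∉ ({1, π a₀, π b, π a₀ * π b} : Set (G ⧸ W)) := by
    by_contra h
    push Not at h
    have := Set.ncard_le_ncard (show (V : Set (G ⧸ W)) ⊆ {1, π a₀, π b, π a₀ * π b} from h) (Set.toFinite _)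
    rw [← Nat.card_coe_set_eq, show Nat.card ↥(V : Set (G ⧸ W)) = 8 from hV8] at this
    have h4 : ({1, π a₀, π b, π a₀ * π b} : Set (G ⧸ W)).ncard ≤ 4 :=
      (Set.ncard_insert_le _ _).trans (Nat.add_le_add_right ((Set.ncard_insert_le _ _).trans
        (Nat.add_le_add_right ((Set.ncard_insert_le _ _).trans (le_of_eq (by rw [Set.ncard_singleton]))) 1)) 1)
    omega
  obtain ⟨c, hcM, rfl⟩ := hc'
  simp only [Set.mem_insert_iff, Set.mem_singleton_iff, not_or] at hbn hcn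
  have hsq' : ∀ x ∈ M, (π x)⁻¹ = π x := fun x hx => inv_eq_of_mul_eq_one_right (by
    rw [← map_mul]; exact (hone _).2 (hsq x hx))
  have n1 : ∀ u ∈ M, ∀ v : G, π v ≠ π u → u * v ∉ W := fun u hu v hne h => hne (by
    have e := (hone _).2 h
    rw [map_mul, mul_eq_one_iff_inv_eq, hsq' u hu] at e
    exact e.symm)
  have hbW : b ∉ W := fun h => hbn.1 ((hone _).2 h)
  have hcW : c ∉ W := fun h => hcn.1 ((hone _).2 h)
  have hbc : b * c ∉ W := n1 b hbM c hcn.2.2.1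
  have e1 := hcomm a₀ ha₀ b hbM ha₀W hbW (n1 a₀ ha₀ b hbn.2)
  have e2 := hcomm a₀ ha₀ c hcM ha₀W hcW (n1 a₀ ha₀ c hcn.2.1)
  have hV2 : ∀ v ∈ V, v * v = 1 := by
    rintro _ ⟨x, hx, rfl⟩
    rw [← map_mul]; exact (hone _).2 (hsq x hx)
  have e3 := hcomm a₀ ha₀ _ (M.mul_mem hbM hcM) ha₀W hbc (n1 a₀ ha₀ _ fun e => hcn.2.2.2 (by
    rw [map_mul] at e
    rw [comm_of_sq hV2 (⟨a₀, ha₀, rfl⟩ : π a₀ ∈ V) (⟨b, hbM, rfl⟩ : π b ∈ V), ← e, ← mul_assoc,
      hV2 _ (⟨b, hbM, rfl⟩ : π b ∈ V), one_mul]))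
  refine hw1 ((mul_eq_right (a := w) (b := a₀ * (b * c))).1 ?_)
  calc w * (a₀ * (b * c)) = b * c * a₀ := e3.symm
    _ = b * (c * a₀) := mul_assoc _ _ _
    _ = b * (w * (a₀ * c)) := by rw [e2]
    _ = (b * w) * (a₀ * c) := by group
    _ = w * (b * a₀) * c := by rw [hc w hw b]; group
    _ = w * (w * (a₀ * b)) * c := by rw [e1]
    _ = (w * w) * (a₀ * (b * c)) := by group
    _ = a₀ * (b * c) := by rw [hww, one_mul]

/-- The structure of the extension when `y` has one fixed point modulo the centre. -/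
theorem trivial_top (Q W : Subgroup G) [Q.Normal] [W.Normal] (hW : Nat.card W = 2) (hWQ : W ≤ Q)
    (hQ : Nat.card Q = 32) (hsq : ∀ x ∈ Q, x * x ∈ W) {x₀ : G} (hx₀ : x₀ ∈ Q) (hx₀W : x₀ ∉ W)
    (hfix : y * x₀ * y⁻¹ * x₀⁻¹ ∈ W) (honly : ∀ x ∈ Q, y * x * y⁻¹ * x⁻¹ ∈ W → x ∈ W ∨ x₀⁻¹ * x ∈ W)
    (hne : ∃ x ∈ Q, x * x ≠ 1) :
    (∀ a ∈ Q, ∀ b ∈ Q, a * b = b * a) ∧ x₀ * x₀ ≠ 1 ∧ ∃ M : Subgroup G, M.Normal ∧ W ≤ M ∧
      Nat.card M = 16 ∧ (∀ x, x ∈ M ↔ x ∈ Q ∧ x * x = 1) ∧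
      (∀ x ∈ M, y * x * y⁻¹ * x⁻¹ ∈ W → x ∈ W) := by
  obtain ⟨w, hw, hw1, hww, hW12⟩ := two_elems hW
  have hc := two_central hW
  let π := QuotientGroup.mk' W
  have hπs : Function.Surjective π := QuotientGroup.mk'_surjective W
  have hone : ∀ x, π x = 1 ↔ x ∈ W := fun x => QuotientGroup.eq_one_iff x
  set V := Q.map π with hV
  haveI : V.Normal := Subgroup.Normal.map inferInstance π hπs
  have hV2 : ∀ v ∈ V, v * v = 1 := by
    rintro _ ⟨x, hx, rfl⟩
    rw [← map_mul]; exact (hone _).2 (hsq x hx)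
  have hV16 : Nat.card V = 16 := by
    have h : Nat.card ↥V * Nat.card W = Nat.card Q := card_map_mk W Q hWQ
    rw [hQ, hW] at h
    omega
  have hy' : orderOf (π y) = 7 := order_map hy W (isPGroup_of_sq fun a ha => by
    rcases hW12 a ha with rfl | rfl
    · exact one_mul 1
    · exact hww)
  have hcm : ∀ x, π (y * x * y⁻¹ * x⁻¹) = π y * π x * (π y)⁻¹ * (π x)⁻¹ := fun x => by simp
  have h₀ : OneFixed V (π y) (π x₀) := by
    refine ⟨⟨x₀, hx₀, rfl⟩, fun e => hx₀W ((hone _).1 e), ?_, ?_⟩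
    · have := (hone _).2 hfix
      rwa [hcm, mul_inv_eq_one] at this
    · rintro _ ⟨x, hx, rfl⟩ he
      rcases honly x hx ((hone _).1 (by rw [hcm, he, mul_inv_cancel])) with h | h
      · exact Or.inl ((hone _).2 h)
      · right
        have e := (hone _).2 h
        rw [map_mul, map_inv, inv_mul_eq_one] at e
        exact e.symm
  obtain ⟨U, hUV, hU8, hUy, hUfree, hx₀U, -, hcos⟩ :=
    range7 hy' hV2 hV16 (fun v hv => (inferInstance : V.Normal).conj_mem v hv _) h₀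
  set M := U.comap π with hMdef
  have hWM : W ≤ M := fun x hx => by rw [hMdef, Subgroup.mem_comap, (hone x).2 hx]; exact U.one_mem
  have hMQ : M ≤ Q := fun x hx => by
    obtain ⟨z, hz, hze⟩ := hUV (hx : π x ∈ U)
    have : z⁻¹ * x ∈ W := (hone _).1 (by rw [map_mul, map_inv, hze, inv_mul_cancel])
    rw [show x = z * (z⁻¹ * x) by group]
    exact Q.mul_mem hz (hWQ this)
  have hM16 : Nat.card M = 16 := by
    have h : Nat.card ↥(M.map π) * Nat.card W = Nat.card M := card_map_mk W M hWM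
    rw [hMdef, Subgroup.map_comap_eq_self_of_surjective hπs, hU8, hW] at h
    exact h.symm
  have hMy : ∀ a ∈ M, y * a * y⁻¹ ∈ M := fun a ha => by
    show π (y * a * y⁻¹) ∈ U
    rw [map_mul, map_mul, map_inv]
    exact hUy _ ha
  have hMfree : ∀ a ∈ M, y * a * y⁻¹ * a⁻¹ ∈ W → a ∈ W := fun a ha h => (hone a).1 (hUfree _ ha (by
    have := (hone _).2 h
    rwa [hcm, mul_inv_eq_one] at this))
  have hgood := all_good hy M W hW hWM hM16 hMy (fun a ha => hsq a (hMQ ha)) hMfree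
  have hMab : ∀ a ∈ M, ∀ b ∈ M, a * b = b * a := fun a ha b hb => comm_of_sq hgood ha hb
  -- `x₀` centralizes `M`
  have hcW : ∀ a ∈ M, x₀ * a * x₀⁻¹ * a⁻¹ ∈ W := fun a ha => (hone _).1 (by
    simp only [map_mul, map_inv]
    rw [comm_of_sq hV2 (⟨x₀, hx₀, rfl⟩ : π x₀ ∈ V) (⟨a, hMQ ha, rfl⟩ : π a ∈ V)]
    group)
  have hK : ∀ a ∈ M, x₀ * a = a * x₀ := by
    set K := (M ⊓ Subgroup.centralizer {x₀}).map π
    have hKy : ∀ k ∈ K, π y * k * (π y)⁻¹ ∈ K := by
      rintro _ ⟨a, ⟨ha, hac⟩, rfl⟩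
      refine ⟨y * a * y⁻¹, ⟨hMy a ha, ?_⟩, by simp⟩
      refine Subgroup.mem_centralizer_singleton_iff.2 ?_
      have hac' := Subgroup.mem_centralizer_singleton_iff.1 hac
      have hz : ∀ g, g * (y * x₀ * y⁻¹ * x₀⁻¹) = (y * x₀ * y⁻¹ * x₀⁻¹) * g := fun g => hc _ hfix g
      have h1 : y * a * y⁻¹ * (y * x₀ * y⁻¹) = y * x₀ * y⁻¹ * (y * a * y⁻¹) := by
        calc y * a * y⁻¹ * (y * x₀ * y⁻¹) = y * (a * x₀) * y⁻¹ := by group
          _ = y * (x₀ * a) * y⁻¹ := by rw [hac']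
          _ = _ := by group
      refine mul_left_cancel (a := y * x₀ * y⁻¹ * x₀⁻¹) ?_
      calc y * x₀ * y⁻¹ * x₀⁻¹ * (y * a * y⁻¹ * x₀)
          = (y * x₀ * y⁻¹ * x₀⁻¹) * (y * a * y⁻¹) * x₀ := by group
        _ = (y * a * y⁻¹) * (y * x₀ * y⁻¹ * x₀⁻¹) * x₀ := by rw [hz]
        _ = y * a * y⁻¹ * (y * x₀ * y⁻¹) := by group
        _ = y * x₀ * y⁻¹ * (y * a * y⁻¹) := h1
        _ = y * x₀ * y⁻¹ * x₀⁻¹ * (x₀ * (y * a * y⁻¹)) := by group
    rcases seven_subgroup hy' hU8 hUfree K (by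
        rintro _ ⟨a, ha, rfl⟩
        exact ha.1) hKy with h | h
    · exfalso
      have hin : ∀ a ∈ M, x₀ * a = a * x₀ → a ∈ W := fun a ha he => (hone a).1 (Subgroup.mem_bot.1 (h ▸
        ⟨a, ⟨ha, Subgroup.mem_centralizer_singleton_iff.2 he.symm⟩, rfl⟩))
      obtain ⟨a, ha, haW⟩ : ∃ a ∈ M, a ∉ W := by
        by_contra hh
        push Not at hh
        have := Subgroup.card_le_of_le (show M ≤ W from hh)
        omega
      have hM4 : ∃ b ∈ M, b ∉ W ∧ a * b ∉ W := by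
        by_contra hh
        push Not at hh
        have hsub : (M : Set G) ⊆ (W : Set G) ∪ (fun v => a⁻¹ * v) '' (W : Set G) := fun b hb => by
          by_cases hbW : b ∈ W
          · exact Or.inl hbW
          · exact Or.inr ⟨a * b, hh b hb hbW, inv_mul_cancel_left a b⟩
        have := (Set.ncard_le_ncard hsub (Set.toFinite _)).trans (Set.ncard_union_le _ _)
        rw [Set.ncard_image_of_injective _ (mul_right_injective a⁻¹), ← Nat.card_coe_set_eq,
          ← Nat.card_coe_set_eq, show Nat.card ↥(M : Set G) = 16 from hM16,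
          show Nat.card ↥(W : Set G) = 2 from hW] at this
        omega
      obtain ⟨b, hb, hbW, habW⟩ := hM4
      have hbad : ∀ a ∈ M, a ∉ W → x₀ * a * x₀⁻¹ * a⁻¹ = w := fun a ha haW =>
        (hW12 _ (hcW a ha)).resolve_left fun e => haW (hin a ha (mul_inv_eq_iff_eq_mul.1 (mul_inv_eq_one.1 e)))
      refine habW (hin _ (M.mul_mem ha hb) (mul_inv_eq_iff_eq_mul.1 ?_))
      calc x₀ * (a * b) * x₀⁻¹
          = x₀ * a * x₀⁻¹ * a⁻¹ * (a * (x₀ * b * x₀⁻¹ * b⁻¹)) * b := by group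
        _ = w * (a * w) * b := by rw [hbad a ha haW, hbad b hb hbW]
        _ = (w * w) * (a * b) := by rw [hc w hw a]; group
        _ = a * b := by rw [hww, one_mul]
    · intro a ha
      obtain ⟨a', ⟨ha', hac⟩, he⟩ := (h.symm ▸ ha : π a ∈ K)
      have hz : a'⁻¹ * a ∈ W := (hone _).1 (by rw [map_mul, map_inv, he, inv_mul_cancel])
      rw [show a = a' * (a'⁻¹ * a) by group]
      exact ((show Commute x₀ a' from (Subgroup.mem_centralizer_singleton_iff.1 hac).symm).mul_right (hc _ hz x₀)).eq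
  have hcases : ∀ x ∈ Q, x ∈ M ∨ x₀⁻¹ * x ∈ M := by
    intro x hx
    rcases hcos (π x) ⟨x, hx, rfl⟩ with h | h
    · exact Or.inl h
    · right
      show π (x₀⁻¹ * x) ∈ U
      rw [map_mul, map_inv, inv_eq_of_mul_eq_one_right (hV2 _ h₀.mem)]
      exact h
  have hab : ∀ a ∈ Q, ∀ b ∈ Q, a * b = b * a := by
    have h1 : ∀ a ∈ Q, ∀ m ∈ M, a * m = m * a := by
      intro a ha m hm
      rcases hcases a ha with h | h
      · exact hMab a h m hm
      · rw [show a = x₀ * (x₀⁻¹ * a) by group]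
        exact ((show Commute x₀ m from hK m hm).mul_left (hMab _ h m hm)).eq
    intro a ha b hb
    rcases hcases b hb with h | h
    · exact h1 a ha b h
    · rw [show b = x₀ * (x₀⁻¹ * b) by group]
      refine ((show Commute a x₀ from ?_).mul_right (h1 a ha _ h)).eq
      rcases hcases a ha with h' | h'
      · exact (hK a h').symm
      · rw [show a = x₀ * (x₀⁻¹ * a) by group]
        exact ((Commute.refl x₀).mul_left (show Commute (x₀⁻¹ * a) x₀ from (hK _ h').symm))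
  have hsplit : ∀ x ∈ Q, x₀⁻¹ * x ∈ M → x * x = x₀ * x₀ := by
    intro x hx h
    rw [show x = x₀ * (x₀⁻¹ * x) by group]
    calc x₀ * (x₀⁻¹ * x) * (x₀ * (x₀⁻¹ * x)) = x₀ * ((x₀⁻¹ * x) * x₀) * (x₀⁻¹ * x) := by group
      _ = x₀ * (x₀ * (x₀⁻¹ * x)) * (x₀⁻¹ * x) := by rw [← hK _ h]
      _ = x₀ * x₀ * ((x₀⁻¹ * x) * (x₀⁻¹ * x)) := by group
      _ = x₀ * x₀ := by rw [hgood _ h, mul_one]
  have hx₀2 : x₀ * x₀ ≠ 1 := fun e => by
    obtain ⟨x, hx, hne⟩ := hne
    rcases hcases x hx with h | h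
    · exact hne (hgood x h)
    · exact hne ((hsplit x hx h).trans e)
  have hchar : ∀ x, x ∈ M ↔ x ∈ Q ∧ x * x = 1 := fun x => ⟨fun h => ⟨hMQ h, hgood x h⟩, fun ⟨hx, h2⟩ =>
    (hcases x hx).resolve_right fun h => hx₀2 ((hsplit x hx h).symm.trans h2)⟩
  refine ⟨hab, hx₀2, M, ⟨fun a ha g => (hchar _).2 ⟨(inferInstance : Q.Normal).conj_mem a (hMQ ha) g, ?_⟩⟩,
    hWM, hM16, hchar, hMfree⟩
  rw [show g * a * g⁻¹ * (g * a * g⁻¹) = g * (a * a) * g⁻¹ by group, hgood a ha]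
  simp

/-- `Z/4 × E₈`. -/
theorem top_iso (Q W : Subgroup G) [Q.Normal] [W.Normal] (hW : Nat.card W = 2) (hWQ : W ≤ Q)
    (hQ : Nat.card Q = 32) (hsq : ∀ x ∈ Q, x * x ∈ W) {x₀ : G} (hx₀ : x₀ ∈ Q) (hx₀W : x₀ ∉ W)
    (hfix : y * x₀ * y⁻¹ * x₀⁻¹ ∈ W) (honly : ∀ x ∈ Q, y * x * y⁻¹ * x⁻¹ ∈ W → x ∈ W ∨ x₀⁻¹ * x ∈ W)
    (hne : ∃ x ∈ Q, x * x ≠ 1) :
    Nonempty (↥Q ≃* Multiplicative (ZMod 4) × (Fin 3 → Multiplicative (ZMod 2))) := by
  classical
  obtain ⟨hab, hx₀2, M, hMn, hWM, hM16, hchar, hMfree⟩ :=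
    trivial_top hy Q W hW hWQ hQ hsq hx₀ hx₀W hfix honly hne
  obtain ⟨w, hw, hw1, hww, hW12⟩ := two_elems hW
  have hM2 : ∀ a ∈ M, a * a = 1 := fun a ha => ((hchar a).1 ha).2
  have hwy : y * w * y⁻¹ = w := by rw [two_central hW w hw y, mul_inv_cancel_right]
  have h₁ : OneFixed M y w := ⟨hWM hw, hw1, hwy, fun v hv he => hW12 v (hMfree v hv (by
    rw [he, mul_inv_cancel]; exact W.one_mem))⟩
  obtain ⟨U, hUM, hU8, -, -, hwU, -, -⟩ := range7 hy hM2 hM16 (fun v hv => hMn.conj_mem v hv y) h₁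
  have hUc : ∀ a b : ↥U, a * b = b * a := fun a b => Subtype.ext (comm_of_sq hM2 (hUM a.2) (hUM b.2))
  letI : CommGroup ↥U := { (inferInstance : Group ↥U) with mul_comm := hUc }
  letI : Module (ZMod 2) (Additive ↥U) :=
    AddCommGroup.zmodModule (n := 2) fun x => Additive.toMul.injective (by
      rw [toMul_nsmul, pow_two]; exact Subtype.ext (hM2 _ (hUM (Additive.toMul x).2)))
  have hd : Module.finrank (ZMod 2) (Additive ↥U) = 3 := by
    have h := Module.natCard_eq_pow_finrank (K := ZMod 2) (V := Additive ↥U)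
    rw [Nat.card_zmod, show Nat.card (Additive ↥U) = Nat.card U from rfl, hU8,
      show (8 : ℕ) = 2 ^ 3 by norm_num] at h
    exact (Nat.pow_right_injective (le_refl 2) h).symm
  let L : Additive ↥U ≃+ (Fin 3 → ZMod 2) :=
    (Module.finBasisOfFinrankEq (ZMod 2) (Additive ↥U) hd).equivFun.toAddEquiv
  let e : (Fin 3 → Multiplicative (ZMod 2)) → ↥U := fun f => Additive.toMul (L.symm fun i => (f i).toAdd)
  have he : ∀ f g, e (f * g) = e f * e g := fun f g => by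
    show Additive.toMul (L.symm ((fun i => (f i).toAdd) + fun i => (g i).toAdd)) = _
    rw [map_add]
    rfl
  have heinj : Function.Injective e := fun f g h => funext fun i => Multiplicative.toAdd.injective
    (congrFun (L.symm.injective (Additive.toMul.injective h)) i)
  have hw' : x₀ * x₀ = w := (hW12 _ (hsq x₀ hx₀)).resolve_left hx₀2
  have h4 : x₀ ^ 4 = 1 := by rw [show 4 = 2 * 2 from rfl, pow_mul, pow_two, pow_two, hw', hww]
  let f : Multiplicative (ZMod 4) × (Fin 3 → Multiplicative (ZMod 2)) → ↥Q := fun p =>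
    ⟨x₀ ^ p.1.toAdd.val * (e p.2 : G), Q.mul_mem (Q.pow_mem hx₀ _) ((hchar _).1 (hUM (e p.2).2)).1⟩
  have hf : ∀ p q, f (p * q) = f p * f q := by
    rintro ⟨i, a⟩ ⟨j, b⟩
    refine Subtype.ext ?_
    show x₀ ^ (i.toAdd + j.toAdd).val * (e (a * b) : G) = x₀ ^ i.toAdd.val * (e a : G) * (x₀ ^ j.toAdd.val * (e b : G))
    have hcomm := hab (e a : G) ((hchar _).1 (hUM (e a).2)).1 _ (Q.pow_mem hx₀ j.toAdd.val)
    rw [he, ZMod.val_add, ← pow_eq_pow_mod _ h4, pow_add, Subgroup.coe_mul,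
      show x₀ ^ i.toAdd.val * (e a : G) * (x₀ ^ j.toAdd.val * (e b : G)) =
        x₀ ^ i.toAdd.val * ((e a : G) * x₀ ^ j.toAdd.val) * (e b : G) by group, hcomm]
    group
  have hsepi : ∀ i : ZMod 4, x₀ ^ i.val ∈ U → i = 0 := by
    intro i hi
    have hc : i = 0 ∨ i = 1 ∨ i = 2 ∨ i = 3 := (by decide : ∀ i : ZMod 4, i = 0 ∨ i = 1 ∨ i = 2 ∨ i = 3) i
    rcases hc with rfl | rfl | rfl | rfl
    · rfl
    · exfalso
      rw [show (1 : ZMod 4).val = 1 from rfl, pow_one] at hi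
      exact hx₀2 (hM2 _ (hUM hi))
    · exfalso
      rw [show (2 : ZMod 4).val = 2 from rfl, pow_two, hw'] at hi
      exact hwU hi
    · exfalso
      rw [show (3 : ZMod 4).val = 3 from rfl] at hi
      have h2 := hM2 _ (hUM hi)
      rw [← pow_add, show 3 + 3 = 4 + 2 from rfl, pow_add, h4, one_mul, pow_two] at h2
      exact hx₀2 h2
  let F : Multiplicative (ZMod 4) × (Fin 3 → Multiplicative (ZMod 2)) →* ↥Q := MonoidHom.mk' f hf
  have hinj : Function.Injective F := by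
    refine (injective_iff_map_eq_one F).2 ?_
    rintro ⟨i, a⟩ h
    have h' : x₀ ^ i.toAdd.val * (e a : G) = 1 := congrArg Subtype.val h
    have hi : i.toAdd = 0 := hsepi _ (by rw [mul_eq_one_iff_eq_inv.1 h']; exact U.inv_mem (e a).2)
    rw [hi, ZMod.val_zero, pow_zero, one_mul] at h'
    have ha : e a = e 1 := by
      have h1 : e 1 = 1 := mul_eq_left.1 (by rw [← he, one_mul] : e 1 * e 1 = e 1)
      rw [h1]; exact Subtype.ext h'
    obtain rfl := heinj ha
    exact Prod.ext (Multiplicative.toAdd.injective hi) rfl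
  refine ⟨(MulEquiv.ofBijective F ((Nat.bijective_iff_injective_and_card _).2 ⟨hinj, ?_⟩)).symm⟩
  rw [hQ, Nat.card_eq_fintype_card]
  simp [Fintype.card_prod, Fintype.card_pi]

end Cfsg.Agent.Lib.Inv59.RankFour.Seven
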