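import Mathlib
import Cfsg.Agent.Lib.Inv59.RankFour.Seven.Quad
import Cfsg.Agent.Lib.Inv59.RankFour.Seven.LayerTwo

/-!
# Quotient data for the natural module
-/

set_option autoImplicit false
set_option linter.unusedSectionVars false
set_option linter.style.haveILetI false
set_option synthInstance.maxSize 4000
set_option synthInstance.maxHeartbeats 400000

namespace Cfsg.Agent.Lib.Inv59.RankFour.Seven

universe u v

variable {G : Type u} [Group G] [Finite G] {Q : Subgroup G} {φ : G →* L3}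

/-- The quotient by a normal subgroup inside `Q`. -/
theorem quot7 (hφ : Function.Surjective φ) (hker : φ.ker = Q) (N : Subgroup G) [N.Normal] (hNQ : N ≤ Q) :
    ∃ ψ : G ⧸ N →* L3, Function.Surjective ψ ∧ ψ.ker = Q.map (QuotientGroup.mk' N) ∧
      ∀ g, ψ (QuotientGroup.mk' N g) = φ g := by
  refine ⟨QuotientGroup.lift N φ fun x hx => by rw [hker]; exact hNQ hx,
    fun a => (hφ a).elim fun x hx => ⟨QuotientGroup.mk' N x, hx⟩, ?_, fun g => rfl⟩
  rw [QuotientGroup.ker_lift, hker]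

theorem mem_of_map {N A : Subgroup G} [N.Normal] (hNA : N ≤ A) {x : G}
    (h : QuotientGroup.mk' N x ∈ A.map (QuotientGroup.mk' N)) : x ∈ A := by
  obtain ⟨a, ha, he⟩ := h
  have hz : a⁻¹ * x ∈ N := by
    rw [← QuotientGroup.eq_one_iff]
    show QuotientGroup.mk' N (a⁻¹ * x) = 1
    rw [map_mul, map_inv, he, inv_mul_cancel]
  rw [show x = a * (a⁻¹ * x) by group]
  exact A.mul_mem ha (hNA hz)

/-- A natural section gives a frame. -/
theorem frame_top [Q.Normal] {y : G} (hφ : Function.Surjective φ) (hker : φ.ker = Q) (N M : Subgroup G)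
    [N.Normal] [M.Normal] (hNM : N ≤ M) (hMQ : M ≤ Q) (hcard : Nat.card M = 8 * Nat.card N)
    (hsq : ∀ x ∈ M, x * x ∈ N) (hcen : ∀ x ∈ Q, ∀ m ∈ M, x * m * x⁻¹ * m⁻¹ ∈ N)
    (hfree : ∀ x ∈ M, y * x * y⁻¹ * x⁻¹ ∈ N → x ∈ N) :
    Nonempty (Frame (M.map (QuotientGroup.mk' N))) ∧
      ∀ g, (∀ w ∈ M.map (QuotientGroup.mk' N), QuotientGroup.mk' N g * w = w * QuotientGroup.mk' N g) → g ∈ Q := by
  obtain ⟨ψ, hψ, hkψ, hψe⟩ := quot7 hφ hker N (hNM.trans hMQ)
  let π := QuotientGroup.mk' N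
  have hπs : Function.Surjective π := QuotientGroup.mk'_surjective N
  haveI : (M.map π).Normal := Subgroup.Normal.map inferInstance π hπs
  haveI : (Q.map π).Normal := Subgroup.Normal.map inferInstance π hπs
  have hone : ∀ x, π x = 1 ↔ x ∈ N := fun x => QuotientGroup.eq_one_iff x
  obtain ⟨m, hm, hmN⟩ : ∃ m ∈ M, m ∉ N := by
    by_contra h
    push Not at h
    have := Subgroup.card_le_of_le (show M ≤ N from h)
    have := Nat.card_pos (α := ↥N)
    omega
  have hce : ∀ g : G ⧸ N, (∀ v ∈ M.map π, g * v = v * g) ↔ g ∈ Q.map π := by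
    refine cent_eq (y := π y) hψ hkψ (M.map π) ?_ (w := π m) ⟨m, hm, rfl⟩ ?_
    · rintro _ ⟨x, hx, rfl⟩ _ ⟨a, ha, rfl⟩
      have := (hone _).2 (hcen x hx a ha)
      rw [map_mul, map_mul, map_mul, map_inv, map_inv, mul_inv_eq_one] at this
      exact mul_inv_eq_iff_eq_mul.1 this
    · intro e
      exact hmN (hfree m hm ((hone _).1 (by rw [map_mul, map_mul, map_mul, map_inv, map_inv, e, mul_inv_cancel])))
  refine ⟨exists_frame hψ hkψ (M.map π) ?_ ?_ hce, fun g hg => mem_of_map (hNM.trans hMQ) ((hce _).1 hg)⟩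
  · rintro _ ⟨x, hx, rfl⟩
    rw [← map_mul]; exact (hone _).2 (hsq x hx)
  · have h : Nat.card ↥(M.map π) * Nat.card N = Nat.card M := card_map_mk N M hNM
    rw [hcard] at h
    exact Nat.eq_of_mul_eq_mul_right Nat.card_pos h

/-- A subgroup covering `L₃(2)` over a subgroup of index two of the kernel. -/
theorem seven_mem (hφ : Function.Surjective φ) (hker : φ.ker = Q) {y : G} (hy : orderOf y = 7)
    (M X : Subgroup G) (hMX : M ≤ X) (hs : Function.Surjective (φ.comp X.subtype))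
    (hX : ∀ x ∈ X, φ x = 1 → x ∈ M) (hMQ : M ≤ Q) (h2 : Nat.card Q = 2 * Nat.card M) :
    y ∈ X ∧ (φ.comp X.subtype).ker = M.subgroupOf X := by
  have hk : (φ.comp X.subtype).ker = M.subgroupOf X := by
    ext x
    rw [MonoidHom.mem_ker, Subgroup.mem_subgroupOf]
    refine ⟨hX x x.2, fun h => ?_⟩
    have := hMQ h
    rw [← hker] at this
    exact MonoidHom.mem_ker.1 this
  refine ⟨?_, hk⟩
  have hidx : X.index = 2 := by
    have hc := Subgroup.card_mul_index X
    have h1 := Subgroup.card_mul_index (φ.comp X.subtype).ker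
    rw [Subgroup.index_ker, MonoidHom.range_eq_top.2 hs, Subgroup.card_top, S2553.card_gl3, hk,
      Nat.card_congr (Subgroup.subgroupOfEquivOfLe hMX).toEquiv] at h1
    have h3 := Subgroup.card_mul_index φ.ker
    rw [Subgroup.index_ker, MonoidHom.range_eq_top.2 hφ, Subgroup.card_top, S2553.card_gl3, hker, h2] at h3
    rw [← h1, ← h3] at hc
    refine Nat.eq_of_mul_eq_mul_left (show 0 < Nat.card M * 168 from Nat.mul_pos Nat.card_pos (by norm_num)) ?_
    rw [hc]; ring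
  have h8 : y = (y * y) ^ 4 := by
    rw [← pow_two, ← pow_mul, show 2 * 4 = 7 + 1 from rfl, pow_succ, ← hy, pow_orderOf_eq_one, one_mul]
  rw [h8]
  exact X.pow_mem ((Subgroup.mul_mem_iff_of_index_two hidx (a := y) (b := y)).2 Iff.rfl) 4

/-- A covering subgroup induces all actions on a module centralized by `Q`. -/
theorem cover (hker : φ.ker = Q) (W X : Subgroup G) [W.Normal] (hQW : ∀ x ∈ Q, ∀ w ∈ W, x * w = w * x)
    (hs : Function.Surjective (φ.comp X.subtype)) :
    ∀ g : G, ∃ x ∈ X, ∀ w ∈ W, x * w * x⁻¹ = g * w * g⁻¹ := by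
  intro g
  obtain ⟨⟨x, hx⟩, hxe⟩ := hs (φ g)
  refine ⟨x, hx, fun w hw => ?_⟩
  have hm : g⁻¹ * x ∈ Q := by
    rw [← hker, MonoidHom.mem_ker, map_mul, map_inv]
    exact inv_mul_eq_one.2 hxe.symm
  calc x * w * x⁻¹ = g * ((g⁻¹ * x) * w * (g⁻¹ * x)⁻¹) * g⁻¹ := by group
    _ = g * w * g⁻¹ := by rw [hQW _ hm w hw, mul_inv_cancel_right]

/-- Squares and commutators of the generators control all squares. -/
theorem gen_section (S : Set G) (Z : Subgroup G) (hnorm : ∀ s ∈ S, ∀ z ∈ Z, s * z * s⁻¹ ∈ Z)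
    (hsq : ∀ s ∈ S, s * s ∈ Z) (hcm : ∀ s ∈ S, ∀ t ∈ S, cm s t ∈ Z) :
    (∀ p ∈ Subgroup.closure S, ∀ z ∈ Z, p * z * p⁻¹ ∈ Z) ∧ ∀ p ∈ Subgroup.closure S, p * p ∈ Z := by
  have hnorm' : ∀ s ∈ S, ∀ z ∈ Z, s⁻¹ * z * s ∈ Z := by
    intro s hs z hz
    rw [show s⁻¹ * z * s = s * ((s * s)⁻¹ * z * (s * s)) * s⁻¹ by group]
    exact hnorm s hs _ (Z.mul_mem (Z.mul_mem (Z.inv_mem (hsq s hs)) hz) (hsq s hs))
  have hn : ∀ p ∈ Subgroup.closure S, (∀ z ∈ Z, p * z * p⁻¹ ∈ Z) ∧ ∀ z ∈ Z, p⁻¹ * z * p ∈ Z := by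
    intro p hp
    induction hp using Subgroup.closure_induction with
    | mem s hs => exact ⟨hnorm s hs, hnorm' s hs⟩
    | one => simp
    | mul a b ha hb iha ihb =>
      refine ⟨fun z hz => ?_, fun z hz => ?_⟩
      · rw [show a * b * z * (a * b)⁻¹ = a * (b * z * b⁻¹) * a⁻¹ by group]
        exact iha.1 _ (ihb.1 z hz)
      · rw [show (a * b)⁻¹ * z * (a * b) = b⁻¹ * (a⁻¹ * z * a) * b by group]
        exact ihb.2 _ (iha.2 z hz)
    | inv a ha iha =>
      rw [inv_inv]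
      exact ⟨iha.2, iha.1⟩
  refine ⟨fun p hp => (hn p hp).1, ?_⟩
  have one : ∀ r ∈ S, ∀ p ∈ Subgroup.closure S, cm p r ∈ Z := by
    intro r hr p hp
    induction hp using Subgroup.closure_induction with
    | mem z hz => exact hcm z hz r hr
    | one => rw [show cm 1 r = 1 by unfold cm; group]; exact Z.one_mem
    | mul a b ha hb iha ihb =>
      rw [show cm (a * b) r = a * cm b r * a⁻¹ * cm a r by unfold cm; group]
      exact Z.mul_mem ((hn a ha).1 _ ihb) iha
    | inv a ha iha =>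
      rw [show cm a⁻¹ r = a⁻¹ * (cm a r)⁻¹ * a by unfold cm; group]
      exact (hn a ha).2 _ (Z.inv_mem iha)
  have all : ∀ p ∈ Subgroup.closure S, ∀ r ∈ Subgroup.closure S, cm p r ∈ Z := by
    intro p hp r hr
    induction hr using Subgroup.closure_induction with
    | mem z hz => exact one z hz p hp
    | one => rw [cm_one]; exact Z.one_mem
    | mul a b ha hb iha ihb =>
      rw [show cm p (a * b) = cm p a * (a * cm p b * a⁻¹) by unfold cm; group]
      exact Z.mul_mem iha ((hn a ha).1 _ ihb)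
    | inv a ha iha =>
      rw [show cm p a⁻¹ = a⁻¹ * (cm p a)⁻¹ * a by unfold cm; group]
      exact (hn a ha).2 _ (Z.inv_mem iha)
  intro p hp
  induction hp using Subgroup.closure_induction with
  | mem z hz => exact hsq z hz
  | one => rw [one_mul]; exact Z.one_mem
  | mul a b ha hb iha ihb =>
    rw [show a * b * (a * b) = a * cm b a * a⁻¹ * (a * a) * (b * b) by unfold cm; group]
    exact Z.mul_mem (Z.mul_mem ((hn a ha).1 _ (all b hb a ha)) iha) ihb
  | inv a ha iha => rw [← mul_inv_rev]; exact Z.inv_mem iha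

/-- The possible orders of a minimal normal subgroup central in `Q`. -/
theorem layer7 {y : G} [Q.Normal] (hy : orderOf y = 7) (hyQ : y ∉ Q) (hφ : Function.Surjective φ)
    (hker : φ.ker = Q) (hr : Cfsg.SectionalPRankLE 2 4 G) (W : Subgroup G) [W.Normal] (hne : W ≠ ⊥)
    (h2 : ∀ w ∈ W, w * w = 1) (hcen : ∀ w ∈ W, ∀ x ∈ Q, x * w = w * x)
    (hmin : ∀ M : Subgroup G, M.Normal → M ≤ W → M = ⊥ ∨ M = W) :
    Nat.card W = 2 ∨ (Nat.card W = 8 ∧ Free W y ∧ (∀ g, (∀ w ∈ W, g * w = w * g) ↔ g ∈ Q) ∧ Nonempty (Frame W)) := by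
  have h16 : Nat.card W ≤ 16 := by
    have h := section_le hr W ⊥ bot_le (fun h _ k hk => by rw [Subgroup.mem_bot] at hk; simp [hk])
      (fun h hh => Subgroup.mem_bot.2 (h2 h hh))
    rwa [Subgroup.card_bot, mul_one] at h
  have hWn : ∀ (g : G), ∀ v ∈ W, g * v * g⁻¹ ∈ W := fun g v hv => (inferInstance : W.Normal).conj_mem v hv g
  have hsingle : ∀ v ∈ W, v ≠ 1 → (∀ g, g * v * g⁻¹ = v) → Nat.card W = 2 := by
    intro v hv hv1 hfix
    haveI : (Subgroup.zpowers v).Normal := ⟨fun a ha g => by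
      obtain ⟨i, rfl⟩ := ha
      show g * v ^ i * g⁻¹ ∈ _
      rw [← conj_zpow, hfix]
      exact Subgroup.zpow_mem _ (Subgroup.mem_zpowers v) i⟩
    rcases hmin (Subgroup.zpowers v) inferInstance (Subgroup.zpowers_le.2 hv) with h | h
    · exact absurd (Subgroup.mem_bot.1 (h ▸ Subgroup.mem_zpowers v)) hv1
    · rw [← h, Nat.card_zpowers]
      exact orderOf_eq_prime (by rw [pow_two]; exact h2 v hv) hv1
  rcases moved7 hy W h2 h16 (hWn y) with hall | ⟨h8, hfree⟩ | ⟨h16', v₀, h₀⟩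
  · obtain ⟨v, hv, hv1⟩ := (Subgroup.bot_or_exists_ne_one W).resolve_left hne
    refine Or.inl (hsingle v hv hv1 fun g => ?_)
    have hQK : Q ≤ Subgroup.centralizer (W : Set G) := fun x hx =>
      Subgroup.mem_centralizer_iff.2 fun w hw => (hcen w hw x hx).symm
    rcases normal_above hφ hker _ hQK with h | h
    · refine absurd ?_ hyQ
      rw [← h]
      exact Subgroup.mem_centralizer_iff.2 fun w hw => (mul_inv_eq_iff_eq_mul.1 (hall w hw)).symm
    · have : g ∈ Subgroup.centralizer (W : Set G) := h ▸ Subgroup.mem_top g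
      rw [← Subgroup.mem_centralizer_iff.1 this v hv, mul_inv_cancel_right]
  · obtain ⟨w, hw, hw1⟩ := (Subgroup.bot_or_exists_ne_one W).resolve_left hne
    have hce := cent_eq hφ hker W (fun x hx v hv => hcen v hv x hx) hw fun e => hw1 (hfree w hw e)
    exact Or.inr ⟨h8, hfree, hce, exists_frame hφ hker W h2 h8 hce⟩
  · exfalso
    rcases orbit8 hy hφ hker W h2 h16' (fun x hx v hv => hcen v hv x hx) h₀ with hfix | ⟨U, hUn, hUW, hU8, -⟩
    · have := hsingle v₀ h₀.mem h₀.ne hfix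
      omega
    · rcases hmin U hUn hUW with rfl | rfl
      · rw [Subgroup.card_bot] at hU8; omega
      · omega

end Cfsg.Agent.Lib.Inv59.RankFour.Seven
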