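import Mathlib
import Cfsg.Agent.Lib.Inv59.RankFour.Seven.Par

/-!
# A trivial top layer over the natural module
-/

set_option autoImplicit false
set_option linter.unusedSectionVars false
set_option linter.style.haveILetI false
set_option synthInstance.maxSize 4000
set_option synthInstance.maxHeartbeats 400000

namespace Cfsg.Agent.Lib.Inv59.RankFour.Seven

universe u v

/-- A small orbit of `GL₃(2)`. -/
theorem small_index (K : Subgroup L3) (h2 : 2 ∣ Nat.card K) (h8 : K.index ≤ 8) : K.index = 1 ∨ K.index = 7 := by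
  haveI : IsSimpleGroup L3 := S2553.simple_gl3
  have hc := Subgroup.card_mul_index K
  rw [S2553.card_gl3] at hc
  obtain ⟨k, hk⟩ := h2
  rcases (inferInstance : K.normalCore.Normal).eq_bot_or_eq_top with h | h
  · let ρ : L3 →* Equiv.Perm (L3 ⧸ K) := MulAction.toPermHom _ _
    have hρ : Function.Injective ρ := by
      rw [← MonoidHom.ker_eq_bot_iff, ← h, Subgroup.normalCore_eq_ker]
    have hd := Subgroup.card_dvd_of_injective ρ hρ
    rw [S2553.card_gl3, Nat.card_perm, ← Subgroup.index_eq_card] at hd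
    have h84 : k * K.index = 84 := by rw [hk, mul_assoc] at hc; omega
    rcases (by omega : K.index = 0 ∨ K.index = 1 ∨ K.index = 2 ∨ K.index = 3 ∨ K.index = 4 ∨ K.index = 5 ∨
      K.index = 6 ∨ K.index = 7 ∨ K.index = 8) with e | e | e | e | e | e | e | e | e <;> rw [e] at hd h84 <;>
      first
        | exact Or.inl e
        | exact Or.inr e
        | (exfalso; omega)
        | (exfalso; norm_num [Nat.factorial] at hd)
  · left
    rw [Subgroup.index_eq_one]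
    exact top_le_iff.1 (h ▸ Subgroup.normalCore_le K)

variable {G : Type u} [Group G] [Finite G] {Q : Subgroup G} {φ : G →* L3}

/-- A homomorphism to a group of order two killing `Q` is trivial. -/
theorem hom_two_trivial (hφ : Function.Surjective φ) (hker : φ.ker = Q) {A : Type v} [Group A] [Finite A]
    (hA : Nat.card A ≤ 2) (f : G →* A) (hf : Q ≤ f.ker) : f.ker = ⊤ := by
  rcases normal_above hφ hker f.ker hf with h | h
  · exfalso
    have h1 := Subgroup.card_mul_index f.ker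
    have h2 := Subgroup.card_mul_index φ.ker
    rw [Subgroup.index_ker] at h1
    rw [Subgroup.index_ker, MonoidHom.range_eq_top.2 hφ, Subgroup.card_top, S2553.card_gl3, hker, ← h] at h2
    have hle : Nat.card f.range ≤ 2 := (Subgroup.card_le_card_group _).trans hA
    have := Nat.mul_le_mul_left (Nat.card f.ker) hle
    have := Nat.card_pos (α := f.ker)
    omega
  · exact h

/-- In the presence of a trivial top layer of the form `Z/4` every lift of a transvection squares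
into the elements of order two. -/
theorem square_mem [Q.Normal] (hφ : Function.Surjective φ) (hker : φ.ker = Q) (N M : Subgroup G) [N.Normal] [M.Normal]
    (hNM : N ≤ M) (hMQ : M ≤ Q) (hN : Nat.card N = 2) (hQM : Nat.card Q = 2 * Nat.card M)
    (hM16 : Nat.card M = 16) (hM : ∀ x, x ∈ M ↔ x ∈ Q ∧ x * x = 1)
    (hab : ∀ a ∈ Q, ∀ b ∈ Q, a * b = b * a) (hsq : ∀ x ∈ Q, x * x ∈ N)
    (F : Frame (M.map (QuotientGroup.mk' N)))
    (hC : ∀ g, (∀ w ∈ M.map (QuotientGroup.mk' N), QuotientGroup.mk' N g * w = w * QuotientGroup.mk' N g) → g ∈ Q) :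
    ∀ g, F.Acts (QuotientGroup.mk' N g) t1 → g * g ∈ M := by
  classical
  intro g hg
  by_contra hbad
  let π := QuotientGroup.mk' N
  have hπs : Function.Surjective π := QuotientGroup.mk'_surjective N
  have hNQ : N ≤ Q := hNM.trans hMQ
  obtain ⟨n, hn, hn1⟩ : ∃ n ∈ N, n ≠ 1 := (Subgroup.bot_or_exists_ne_one N).resolve_left fun h => by
    rw [h, Subgroup.card_bot] at hN; omega
  have hN12 : ∀ a ∈ N, a = 1 ∨ a = n := by
    intro a ha
    by_contra hcon
    push Not at hcon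
    have h3 : ({1, n, a} : Set G).ncard = 3 := by
      rw [Set.ncard_insert_of_notMem (by simp [Ne.symm hn1, Ne.symm hcon.1]), Set.ncard_pair (Ne.symm hcon.2)]
    have hle := Set.ncard_le_ncard (show ({1, n, a} : Set G) ⊆ (N : Set G) by
      rintro w (rfl | rfl | rfl)
      · exact N.one_mem
      · exact hn
      · exact ha) (Set.toFinite _)
    rw [h3, ← Nat.card_coe_set_eq] at hle
    rw [show Nat.card ↥(N : Set G) = 2 from hN] at hle
    omega
  have hNc : ∀ (x : G), ∀ a ∈ N, x * a * x⁻¹ = a := by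
    intro x a ha
    rcases hN12 a ha with rfl | rfl
    · simp
    · exact (hN12 _ ((inferInstance : N.Normal).conj_mem _ ha x)).resolve_left fun e => hn1 (conj_eq_one_iff.1 e)
  have hnn : ∀ a ∈ N, a * a = 1 := fun a ha => ((hM a).1 (hNM ha)).2
  have hQmem : ∀ x, φ x = 1 → x ∈ Q := fun x hx => hker ▸ MonoidHom.mem_ker.2 hx
  have hbadQ : ∀ x ∈ Q, x ∉ M → x * x = n := fun x hx hxM =>
    (hN12 _ (hsq x hx)).resolve_left fun e => hxM ((hM x).2 ⟨hx, e⟩)
  have hggQ : g * g ∈ Q := hC _ fun w hw => by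
    rw [map_mul]
    exact F.sq_central hg (fun v => (invol_all v).1) w hw
  -- lifts of the other transvections square outside `M` too
  have hindep : ∀ (σ : V3 ≃+ V3) (a b : G), F.Acts (π a) σ → F.Acts (π b) σ → a * a ∉ M → b * b ∉ M := by
    intro σ a b ha hb haM hbM
    have hz : a⁻¹ * b ∈ Q := hC _ fun w hw => by
      rw [map_mul, map_inv]
      exact F.same_action ha hb w hw
    set z := a⁻¹ * b with hzdef
    have hzz : a⁻¹ * z * a * z ∈ M := by
      have h1 : a⁻¹ * z * a ∈ Q := by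
        have := (inferInstance : Q.Normal).conj_mem z hz a⁻¹
        rwa [inv_inv] at this
      refine (hM _).2 ⟨Q.mul_mem h1 hz, ?_⟩
      calc a⁻¹ * z * a * z * (a⁻¹ * z * a * z) = a⁻¹ * z * a * (z * (a⁻¹ * z * a)) * z := by group
        _ = a⁻¹ * z * a * (a⁻¹ * z * a * z) * z := by rw [hab z hz _ h1]
        _ = a⁻¹ * (z * z) * a⁻¹⁻¹ * (z * z) := by group
        _ = 1 := by rw [hNc a⁻¹ _ (hsq z hz)]; exact hnn _ (hsq z hz)
    refine haM ?_
    have : a * a = b * b * (a⁻¹ * z * a * z)⁻¹ := by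
      rw [show b = a * z by rw [hzdef]; group]; group
    rw [this]
    exact M.mul_mem hbM (M.inv_mem hzz)
  have hbadσ : ∀ (σ τ : V3 ≃+ V3), (∀ v, σ (σ v) = v) → (∀ v, σ (t1 (σ v)) = τ v) →
      ∀ b, F.Acts (π b) τ → b * b ∉ M := by
    intro σ τ hσ hστ b hb
    obtain ⟨kk, hkk⟩ := F.rep σ
    obtain ⟨k, rfl⟩ := hπs kk
    have hconj : F.Acts (π (k * g * k⁻¹)) τ := by
      rw [map_mul, map_mul, map_inv]
      exact F.acts_conj hkk hg hσ hστ
    refine hindep τ _ b hconj hb fun h => hbad ?_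
    have := (inferInstance : M.Normal).conj_mem _ h k⁻¹
    rwa [show k⁻¹ * (k * g * k⁻¹ * (k * g * k⁻¹)) * k⁻¹⁻¹ = g * g by group] at this
  -- a fixed point outside `M`
  set u := g * g with hu
  let Qb := Q.map π
  let Mb := M.map π
  haveI : Qb.Normal := Subgroup.Normal.map inferInstance π hπs
  haveI : Mb.Normal := Subgroup.Normal.map inferInstance π hπs
  have hmemM : ∀ x, π x ∈ Mb → x ∈ M := by
    rintro x ⟨a, ha, he⟩
    have : a⁻¹ * x ∈ N := by
      rw [← QuotientGroup.eq_one_iff]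
      show π (a⁻¹ * x) = 1
      rw [map_mul, map_inv, he, inv_mul_cancel]
    rw [show x = a * (a⁻¹ * x) by group]
    exact M.mul_mem ha (hNM this)
  let S : Set (G ⧸ N) := (Qb : Set (G ⧸ N)) \ (Mb : Set (G ⧸ N))
  have huS : π u ∈ S := ⟨⟨u, hggQ, rfl⟩, fun h => hbad (hmemM u h)⟩
  have hS8 : S.ncard = 8 := by
    have h1 : Nat.card Qb * Nat.card N = Nat.card Q := card_map_mk N Q hNQ
    have h2 : Nat.card Mb * Nat.card N = Nat.card M := card_map_mk N M hNM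
    rw [Set.ncard_sdiff (show (Mb : Set (G ⧸ N)) ⊆ Qb from Subgroup.map_mono hMQ) (Set.toFinite _),
      ← Nat.card_coe_set_eq, ← Nat.card_coe_set_eq]
    show Nat.card Qb - Nat.card Mb = 8
    rw [hQM, hM16, hN] at h1
    rw [hM16, hN] at h2
    omega
  have hSinv : ∀ x, ∀ v ∈ S, x * v * x⁻¹ ∈ S := fun x v hv =>
    ⟨(inferInstance : Qb.Normal).conj_mem v hv.1 x, fun h => hv.2 (by
      have := (inferInstance : Mb.Normal).conj_mem _ h x⁻¹
      rwa [show x⁻¹ * (x * v * x⁻¹) * x⁻¹⁻¹ = v by group] at this)⟩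
  set K := Subgroup.centralizer ({π u} : Set (G ⧸ N)) with hK
  set K' := K.comap π with hK'
  have hQK : Q ≤ K' := fun x hx => by
    rw [hK', Subgroup.mem_comap, hK, Subgroup.mem_centralizer_singleton_iff, ← map_mul, ← map_mul,
      hab x hx u hggQ]
  let orb : G ⧸ K' → ↥S := fun q => Quotient.liftOn' q
    (fun x => (⟨π x * π u * (π x)⁻¹, hSinv _ _ huS⟩ : ↥S)) (fun a b hab' => by
      have hm : π (a⁻¹ * b) * π u = π u * π (a⁻¹ * b) :=
        Subgroup.mem_centralizer_singleton_iff.1 (QuotientGroup.leftRel_apply.1 hab' : a⁻¹ * b ∈ K')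
      refine Subtype.ext ?_
      show π a * π u * (π a)⁻¹ = π b * π u * (π b)⁻¹
      rw [map_mul, map_inv] at hm
      calc π a * π u * (π a)⁻¹ = π a * (π u * ((π a)⁻¹ * π b)) * (π b)⁻¹ := by group
        _ = π a * ((π a)⁻¹ * π b * π u) * (π b)⁻¹ := by rw [hm]
        _ = π b * π u * (π b)⁻¹ := by group)
  have horb : Function.Injective orb := by
    intro p q
    induction p using QuotientGroup.induction_on with
    | H a =>
      induction q using QuotientGroup.induction_on with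
      | H b =>
        intro h
        have h' : π a * π u * (π a)⁻¹ = π b * π u * (π b)⁻¹ := congrArg Subtype.val h
        rw [QuotientGroup.eq, hK', Subgroup.mem_comap, hK, Subgroup.mem_centralizer_singleton_iff,
          map_mul, map_inv]
        calc (π a)⁻¹ * π b * π u = (π a)⁻¹ * (π b * π u * (π b)⁻¹) * π b := by group
          _ = (π a)⁻¹ * (π a * π u * (π a)⁻¹) * π b := by rw [h']
          _ = π u * ((π a)⁻¹ * π b) := by group
  have hidx8 : K'.index ≤ 8 := by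
    rw [← hS8, Subgroup.index_eq_card, ← Nat.card_coe_set_eq]
    exact Nat.card_le_card_of_injective orb horb
  have hφgne : φ g ≠ 1 := by
    intro h
    have hgQ := hQmem g h
    have hfix : ∀ v, t1 v = v := by
      intro v
      refine F.inj ?_
      obtain ⟨m, hm, hme⟩ := F.mem v
      rw [← hg, ← hme, ← map_mul, hab g hgQ m (hMQ hm), map_mul, mul_inv_cancel_right]
    exact absurd (hfix (vec 0 0 1)) (by decide)
  have hKmap : (K'.map φ).index = K'.index :=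
    Subgroup.index_map_eq K' hφ (by rw [hker]; exact hQK)
  have h2K : 2 ∣ Nat.card (K'.map φ) := by
    have hgK : g ∈ K' := by
      rw [hK', Subgroup.mem_comap, hK, Subgroup.mem_centralizer_singleton_iff, ← map_mul, ← map_mul, hu]
      group
    have hφ2 : φ g * φ g = 1 := by rw [← map_mul]; exact MonoidHom.mem_ker.1 (hker.symm ▸ hggQ)
    haveI := Fact.mk Nat.prime_two
    have h := Subgroup.orderOf_dvd_natCard (K'.map φ) (Subgroup.mem_map_of_mem φ hgK)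
    rwa [orderOf_eq_prime (by rw [pow_two]; exact hφ2) hφgne] at h
  obtain ⟨v, hv, hvfix⟩ : ∃ v ∈ S, ∀ x : G, π x * v * (π x)⁻¹ = v := by
    rcases small_index (K'.map φ) h2K (hKmap ▸ hidx8) with h | h
    · refine ⟨π u, huS, fun x => ?_⟩
      rw [hKmap, Subgroup.index_eq_one] at h
      have : x ∈ K' := h ▸ Subgroup.mem_top x
      exact mul_inv_eq_iff_eq_mul.2 (Subgroup.mem_centralizer_singleton_iff.1 this)
    · rw [hKmap, Subgroup.index_eq_card] at h
      have himg : (Set.range (fun q => (orb q : G ⧸ N))).ncard = 7 := by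
        rw [← Nat.card_coe_set_eq, Nat.card_range_of_injective (f := fun q => (orb q : G ⧸ N)) (Subtype.val_injective.comp horb), h]
      have hsub : Set.range (fun q => (orb q : G ⧸ N)) ⊆ S := by rintro _ ⟨q, rfl⟩; exact (orb q).2
      have hone : (S \ Set.range (fun q => (orb q : G ⧸ N))).ncard = 1 := by
        rw [Set.ncard_sdiff hsub (Set.toFinite _), hS8, himg]
      obtain ⟨v, hv⟩ := Set.ncard_eq_one.1 hone
      have hvm : v ∈ S \ Set.range (fun q => (orb q : G ⧸ N)) := hv ▸ rfl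
      refine ⟨v, hvm.1, fun x => ?_⟩
      have : π x * v * (π x)⁻¹ ∈ S \ Set.range (fun q => (orb q : G ⧸ N)) := by
        refine ⟨hSinv _ _ hvm.1, ?_⟩
        rintro ⟨q, hq⟩
        induction q using QuotientGroup.induction_on with
        | H b =>
          refine hvm.2 ⟨QuotientGroup.mk (x⁻¹ * b), ?_⟩
          show π (x⁻¹ * b) * π u * (π (x⁻¹ * b))⁻¹ = v
          have hq' : π b * π u * (π b)⁻¹ = π x * v * (π x)⁻¹ := hq
          rw [map_mul, map_inv]
          calc (π x)⁻¹ * π b * π u * ((π x)⁻¹ * π b)⁻¹ = (π x)⁻¹ * (π b * π u * (π b)⁻¹) * π x := by group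
            _ = v := by rw [hq']; group
      rw [hv] at this
      exact this
  obtain ⟨⟨x, hxQ, rfl⟩, hxM'⟩ := hv
  have hxM : x ∉ M := fun h => hxM' ⟨x, h, rfl⟩
  have hxN : ∀ a : G, a * x * a⁻¹ * x⁻¹ ∈ N := fun a => by
    rw [← QuotientGroup.eq_one_iff]
    show π (a * x * a⁻¹ * x⁻¹) = 1
    rw [map_mul, map_mul, map_mul, map_inv, map_inv, hvfix a, mul_inv_cancel]
  let cx : G →* ↥N := MonoidHom.mk' (fun a => ⟨a * x * a⁻¹ * x⁻¹, hxN a⟩) (fun a b => by
    refine Subtype.ext ?_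
    show a * b * x * (a * b)⁻¹ * x⁻¹ = a * x * a⁻¹ * x⁻¹ * (b * x * b⁻¹ * x⁻¹)
    set k := b * x * b⁻¹ * x⁻¹ with hk
    calc a * b * x * (a * b)⁻¹ * x⁻¹ = a * k * a⁻¹ * (a * x * a⁻¹ * x⁻¹) := by rw [hk]; group
      _ = k * (a * x * a⁻¹ * x⁻¹) := by rw [hNc a k (hxN b)]
      _ = a * x * a⁻¹ * x⁻¹ * k := comm_of_sq hnn (hxN b) (hxN a))
  have hcxT := hom_two_trivial hφ hker hN.le cx fun a ha => by
    refine MonoidHom.mem_ker.2 (Subtype.ext ?_)
    show a * x * a⁻¹ * x⁻¹ = 1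
    rw [hab a ha x hxQ, mul_inv_cancel_right, mul_inv_cancel]
  have hxc : ∀ a : G, a * x = x * a := fun a => by
    have hm : a ∈ cx.ker := by rw [hcxT]; exact Subgroup.mem_top a
    have := congrArg Subtype.val (MonoidHom.mem_ker.1 hm)
    exact mul_inv_eq_iff_eq_mul.1 (mul_inv_eq_one.1 this)
  set Z := Subgroup.zpowers x with hZdef
  haveI hZn : Z.Normal := ⟨fun a ha b => by
    obtain ⟨i, rfl⟩ := ha
    show b * x ^ i * b⁻¹ ∈ Z
    rw [((show Commute b x from hxc b).zpow_right i).eq, mul_inv_cancel_right]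
    exact Subgroup.zpow_mem _ (Subgroup.mem_zpowers x) i⟩
  have hxx : x * x = n := hbadQ x hxQ hxM
  have hNZ : N ≤ Z := fun a ha => by
    rcases hN12 a ha with rfl | rfl
    · exact Z.one_mem
    · rw [← hxx]; exact Z.mul_mem (Subgroup.mem_zpowers x) (Subgroup.mem_zpowers x)
  have hZQ : Z ≤ Q := Subgroup.zpowers_le.2 hxQ
  have hZM : ∀ a ∈ Z, a ∈ M → a ∈ N := by
    rintro _ ⟨i, rfl⟩ ha
    have ha' : x ^ i ∈ M := ha
    show x ^ i ∈ N
    rcases Int.even_or_odd i with ⟨j, rfl⟩ | ⟨j, rfl⟩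
    · rw [← two_mul, zpow_mul, zpow_two, hxx]
      exact N.zpow_mem hn j
    · exfalso
      refine hxM ?_
      rw [zpow_add_one, zpow_mul, zpow_two, hxx] at ha'
      exact (Subgroup.mul_mem_cancel_left M (M.zpow_mem (hNM hn) j)).1 ha'
  let f : G ⧸ N →* G ⧸ Z := QuotientGroup.lift N (QuotientGroup.mk' Z) (fun a ha => by
    rw [MonoidHom.mem_ker]; exact (QuotientGroup.eq_one_iff a).2 (hNZ ha))
  have hfs : Function.Surjective f := fun a => by
    obtain ⟨a, rfl⟩ := QuotientGroup.mk_surjective a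
    exact ⟨π a, rfl⟩
  have hfinj : ∀ a ∈ Mb, f a = 1 → a = 1 := by
    rintro _ ⟨a, ha, rfl⟩ h
    exact (QuotientGroup.eq_one_iff a).2 (hZM a ((QuotientGroup.eq_one_iff a).1 h) ha)
  haveI : (Mb.map f).Normal := Subgroup.Normal.map inferInstance f hfs
  let F' := F.map f hfs hfinj
  have hlift : ∀ a w, w ∈ Mb → f (π a * w * (π a)⁻¹) = f (π a) * f w * (f (π a))⁻¹ := fun a w _ => by
    rw [map_mul, map_mul, map_inv]
  have hinjM : ∀ a ∈ Mb, ∀ b ∈ Mb, f a = f b → a = b := fun a ha b hb h =>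
    (inv_mul_eq_one.1 (hfinj _ (Mb.mul_mem (Mb.inv_mem ha) hb) (by rw [map_mul, map_inv, h, inv_mul_cancel])))
  have hC' : ∀ h, (∀ w ∈ Mb.map f, h * w = w * h) → h ∈ Mb.map f := by
    intro h hh
    obtain ⟨hb, rfl⟩ := hfs h
    obtain ⟨a, rfl⟩ := hπs hb
    have haQ : a ∈ Q := hC a fun w hw => by
      have h1 := hh (f w) ⟨w, hw, rfl⟩
      exact mul_inv_eq_iff_eq_mul.1 (hinjM _ ((inferInstance : Mb.Normal).conj_mem w hw _) w hw (by
        rw [hlift a w hw, h1, mul_inv_cancel_right]))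
    by_cases haM : a ∈ M
    · exact ⟨π a, ⟨a, haM, rfl⟩, rfl⟩
    · refine ⟨π (a * x), ⟨a * x, ?_, rfl⟩, ?_⟩
      · refine (hM _).2 ⟨Q.mul_mem haQ hxQ, ?_⟩
        calc a * x * (a * x) = a * (x * a) * x := by group
          _ = a * (a * x) * x := by rw [hab x hxQ a haQ]
          _ = (a * a) * (x * x) := by group
          _ = 1 := by rw [hbadQ a haQ haM, hxx]; exact hnn n hn
      · rw [map_mul π, map_mul f, show f (π x) = 1 from (QuotientGroup.eq_one_iff x).2 (Subgroup.mem_zpowers x),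
          mul_one]
  obtain ⟨h₁, h₂, ha₁, ha₂, hs₁, hs₂, hs₃⟩ := parity F' hC'
  obtain ⟨b₁, rfl⟩ := hfs h₁
  obtain ⟨b₂, rfl⟩ := hfs h₂
  obtain ⟨a₁, rfl⟩ := hπs b₁
  obtain ⟨a₂, rfl⟩ := hπs b₂
  have hback : ∀ (a : G) (σ : V3 ≃+ V3), F'.Acts (f (π a)) σ → F.Acts (π a) σ := fun a σ ha v =>
    hinjM _ ((inferInstance : Mb.Normal).conj_mem _ (F.mem v) _) _ (F.mem _) (by
      rw [hlift a _ (F.mem v)]; exact ha v)
  have hA₁ := hback a₁ t1 ha₁
  have hA₂ := hback a₂ t2 ha₂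
  have hA₁₂ : F.Acts (π (a₁ * a₂)) t3 := by
    rw [map_mul]; exact F.acts_mul hA₁ hA₂ fun v => (invol_all v).2.2.2.2.1
  have hc₁Q : a₁ * a₁ ∈ Q := hC _ fun w hw => by
    rw [map_mul]; exact F.sq_central hA₁ (fun v => (invol_all v).1) w hw
  have hc₂Q : a₂ * a₂ ∈ Q := hC _ fun w hw => by
    rw [map_mul]; exact F.sq_central hA₂ (fun v => (invol_all v).2.1) w hw
  have hbad₁ : a₁ * a₁ ∉ M := hindep t1 g a₁ hg hA₁ hbad
  have hbad₂ : a₂ * a₂ ∉ M := hbadσ h2 t2 (fun v => (invol_all v).2.2.2.2.2.2.1) conj_h2 a₂ hA₂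
  have hbad₃ : a₁ * a₂ * (a₁ * a₂) ∉ M :=
    hbadσ h3 t3 (fun v => (invol_all v).2.2.2.2.2.2.2.1) conj_h3 _ hA₁₂
  set c := a₁ * a₂ * a₁⁻¹ * a₂⁻¹ with hcdef
  have hcQ : c ∈ Q := hC _ fun w hw => by
    rw [hcdef, map_mul, map_mul, map_mul, map_inv, map_inv]
    exact F.comm_central hA₁ hA₂ (fun v => (invol_all v).2.2.2.2.1) (fun v => (invol_all v).2.2.2.2.2.1) w hw
  -- a fixed lift of the centre
  obtain ⟨ym, hym, hyme⟩ := F.mem (vec 0 0 1)
  set mp := a₁ * ym * a₁⁻¹ * ym⁻¹ with hmp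
  have hmpM : mp ∈ M := M.mul_mem ((inferInstance : M.Normal).conj_mem ym hym a₁) (M.inv_mem hym)
  have hmpe : π mp = F.e cp := by
    rw [hmp, map_mul, map_mul, map_mul, map_inv, map_inv, hyme, hA₁, F.inv, ← F.add]
    exact congrArg F.e (by decide)
  have hfix₁ : a₁ * mp * a₁⁻¹ = mp := by
    have h1 : mp⁻¹ = mp := inv_eq_of_mul_eq_one_right ((hM mp).1 hmpM).2
    calc a₁ * mp * a₁⁻¹ = (a₁ * a₁) * ym * (a₁ * a₁)⁻¹ * (a₁ * ym * a₁⁻¹)⁻¹ := by rw [hmp]; group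
      _ = ym * (a₁ * ym * a₁⁻¹)⁻¹ := by rw [hab _ hc₁Q ym (hMQ hym), mul_inv_cancel_right]
      _ = mp⁻¹ := by rw [hmp]; group
      _ = mp := h1
  have hfix₂ : a₂ * mp * a₂⁻¹ = mp := by
    have hν : a₂ * ym * a₂⁻¹ * ym⁻¹ ∈ N := by
      rw [← QuotientGroup.eq_one_iff]
      show π (a₂ * ym * a₂⁻¹ * ym⁻¹) = 1
      rw [map_mul, map_mul, map_mul, map_inv, map_inv, hyme, hA₂, F.inv, ← F.add]
      exact F.eq_one.2 (by decide)
    set ν := a₂ * ym * a₂⁻¹ * ym⁻¹ with hνdef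
    calc a₂ * mp * a₂⁻¹ = c⁻¹ * (a₁ * (a₂ * ym * a₂⁻¹) * a₁⁻¹) * c * (a₂ * ym * a₂⁻¹)⁻¹ := by
          rw [hmp, hcdef]; group
      _ = c⁻¹ * (a₁ * (a₂ * ym * a₂⁻¹) * a₁⁻¹ * c) * (a₂ * ym * a₂⁻¹)⁻¹ := by group
      _ = c⁻¹ * (c * (a₁ * (a₂ * ym * a₂⁻¹) * a₁⁻¹)) * (a₂ * ym * a₂⁻¹)⁻¹ := by
          rw [← hab c hcQ _ ((inferInstance : Q.Normal).conj_mem _ ((inferInstance : Q.Normal).conj_mem ym (hMQ hym) a₂) a₁)]
      _ = a₁ * (ν * ym) * a₁⁻¹ * (ν * ym)⁻¹ := by rw [hνdef]; group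
      _ = (a₁ * ν * a₁⁻¹) * mp * ν⁻¹ := by rw [hmp]; group
      _ = ν * mp * ν⁻¹ := by rw [hNc a₁ ν hν]
      _ = mp := by rw [hab ν (hNQ hν) mp (hMQ hmpM), mul_inv_cancel_right]
  have hfixZ : ∀ r : G, f (π r) = 1 ∨ f (π r) = F'.e cp → a₁ * r = r * a₁ ∧ a₂ * r = r * a₂ := by
    intro r hr
    have hcz : ∀ a : G, ∀ z ∈ Z, a * z = z * a := by
      rintro a _ ⟨i, rfl⟩
      exact ((show Commute a x from hxc a).zpow_right i).eq
    rcases hr with h | h
    · exact ⟨hcz _ r ((QuotientGroup.eq_one_iff r).1 h), hcz _ r ((QuotientGroup.eq_one_iff r).1 h)⟩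
    · have hz : mp⁻¹ * r ∈ Z := by
        rw [← QuotientGroup.eq_one_iff]
        show f (π (mp⁻¹ * r)) = 1
        rw [map_mul π, map_inv π, map_mul f, map_inv f, h, hmpe]
        exact inv_mul_cancel _
      set z := mp⁻¹ * r with hzdef
      have hr' : r = mp * z := by rw [hzdef]; group
      constructor
      · rw [hr']; exact ((show Commute a₁ mp from mul_inv_eq_iff_eq_mul.1 hfix₁).mul_right (hcz a₁ z hz)).eq
      · rw [hr']; exact ((show Commute a₂ mp from mul_inv_eq_iff_eq_mul.1 hfix₂).mul_right (hcz a₂ z hz)).eq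
  rw [← map_mul f, ← map_mul π] at hs₁ hs₂
  rw [← map_inv f, ← map_inv f, ← map_inv π, ← map_inv π, ← map_mul f, ← map_mul f, ← map_mul f,
    ← map_mul π, ← map_mul π, ← map_mul π] at hs₃
  obtain ⟨-, hu₁⟩ := hfixZ _ hs₁
  obtain ⟨hc₁, -⟩ := hfixZ c hs₃
  have hcc : c * c = 1 := by
    have h1 : a₂ * (a₁ * a₁) * a₂⁻¹ = a₁ * a₁ := mul_inv_eq_iff_eq_mul.2 hu₁
    have h2 : a₂ * (a₁ * a₁) * a₂⁻¹ = c⁻¹ * (a₁ * c⁻¹) * a₁ := by rw [hcdef]; group
    have h3 : a₁ * c⁻¹ = c⁻¹ * a₁ := (show Commute a₁ c from hc₁).inv_right.eq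
    rw [h1, h3] at h2
    have h4 : (c⁻¹ * c⁻¹) * (a₁ * a₁) = a₁ * a₁ := by
      calc (c⁻¹ * c⁻¹) * (a₁ * a₁) = c⁻¹ * (c⁻¹ * a₁) * a₁ := by group
        _ = a₁ * a₁ := h2.symm
    have h5 := mul_eq_right.1 h4
    rwa [← mul_inv_rev, inv_eq_one] at h5
  refine hbad₃ ?_
  have h12 : a₁ * a₁ * (a₂ * a₂) ∈ M := by
    refine (hM _).2 ⟨Q.mul_mem hc₁Q hc₂Q, ?_⟩
    calc a₁ * a₁ * (a₂ * a₂) * (a₁ * a₁ * (a₂ * a₂))
        = a₁ * a₁ * ((a₂ * a₂) * (a₁ * a₁)) * (a₂ * a₂) := by group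
      _ = a₁ * a₁ * ((a₁ * a₁) * (a₂ * a₂)) * (a₂ * a₂) := by rw [hab _ hc₂Q _ hc₁Q]
      _ = (a₁ * a₁ * (a₁ * a₁)) * (a₂ * a₂ * (a₂ * a₂)) := by group
      _ = 1 := by rw [hbadQ _ hc₁Q hbad₁, hbadQ _ hc₂Q hbad₂]; exact hnn n hn
  have heq : a₁ * a₂ * (a₁ * a₂) = c * (a₁ * a₁ * (a₂ * a₂)) := by
    calc a₁ * a₂ * (a₁ * a₂) = c * (a₂ * (a₁ * a₁) * a₂⁻¹) * (a₂ * a₂) := by rw [hcdef]; group
      _ = c * (a₁ * a₁) * (a₂ * a₂) := by rw [mul_inv_eq_iff_eq_mul.2 hu₁]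
      _ = c * (a₁ * a₁ * (a₂ * a₂)) := by group
  rw [heq]
  exact M.mul_mem ((hM c).2 ⟨hcQ, hcc⟩) h12

/-- Splitting off the top of a trivial layer. -/
theorem split_trivial [Q.Normal] (hφ : Function.Surjective φ) (hker : φ.ker = Q) (N M : Subgroup G) [N.Normal] [M.Normal]
    (hNM : N ≤ M) (hMQ : M ≤ Q) (hN : Nat.card N = 2) (hQM : Nat.card Q = 2 * Nat.card M)
    (hM16 : Nat.card M = 16) (hM : ∀ x, x ∈ M ↔ x ∈ Q ∧ x * x = 1)
    (hab : ∀ a ∈ Q, ∀ b ∈ Q, a * b = b * a) (hsq : ∀ x ∈ Q, x * x ∈ N)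
    (F : Frame (M.map (QuotientGroup.mk' N)))
    (hC : ∀ g, (∀ w ∈ M.map (QuotientGroup.mk' N), QuotientGroup.mk' N g * w = w * QuotientGroup.mk' N g) → g ∈ Q) :
    ∃ X : Subgroup G, M ≤ X ∧ Function.Surjective (φ.comp X.subtype) ∧ ∀ x ∈ X, φ x = 1 → x ∈ M := by
  have hall := square_mem hφ hker N M hNM hMQ hN hQM hM16 hM hab hsq F hC
  have hπs := QuotientGroup.mk'_surjective N
  obtain ⟨g₁, hg₁⟩ := F.rep t1
  obtain ⟨a₁, rfl⟩ := hπs g₁
  have hsquare : ∀ (σ τ : V3 ≃+ V3), (∀ v, σ (σ v) = v) → (∀ v, σ (t1 (σ v)) = τ v) →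
      ∃ b, F.Acts (QuotientGroup.mk' N b) τ ∧ b * b ∈ M := by
    intro σ τ hσ hστ
    obtain ⟨kk, hkk⟩ := F.rep σ
    obtain ⟨k, rfl⟩ := hπs kk
    refine ⟨k * a₁ * k⁻¹, ?_, ?_⟩
    · rw [map_mul, map_mul, map_inv]
      exact F.acts_conj hkk hg₁ hσ hστ
    · rw [show k * a₁ * k⁻¹ * (k * a₁ * k⁻¹) = k * (a₁ * a₁) * k⁻¹ by group]
      exact (inferInstance : M.Normal).conj_mem _ (hall a₁ hg₁) k
  obtain ⟨g, hg, hgg⟩ := hsquare h2 t2 (fun v => (invol_all v).2.2.2.2.2.2.1) conj_h2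
  obtain ⟨h, hh, hhh⟩ := hsquare hs ts (fun v => (invol_all v).2.2.2.2.2.2.2.2) conj_hs
  have hgh : ∀ v, QuotientGroup.mk' N (g * h * (g * h)) * F.e v * (QuotientGroup.mk' N (g * h * (g * h)))⁻¹ = F.e (t1 v) := by
    intro v
    rw [map_mul, map_mul, ← gh_square v, ← hg, ← hh, ← hg, ← hh]
    group
  refine split_top hφ hker M hMQ hQM g h hgg hhh (hall _ hgh) fun h1 => ?_
  have hQ : g * h * (g * h) ∈ Q := by rw [← hker, MonoidHom.mem_ker, map_mul]; exact h1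
  have hfix : ∀ v, t1 v = v := by
    intro v
    refine F.inj ?_
    obtain ⟨m, hm, hme⟩ := F.mem v
    rw [← hgh, ← hme, ← map_mul, hab _ hQ m (hMQ hm), map_mul, mul_inv_cancel_right]
  exact absurd (hfix (vec 0 0 1)) (by decide)

end Cfsg.Agent.Lib.Inv59.RankFour.Seven
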