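import Mathlib
import Cfsg.Agent.Lib.Inv59.RankFour.Seven.Tops
import Cfsg.Agent.Lib.Inv59.RankFour.Seven.Trivial

/-!
# A second layer below a central layer of order two
-/

set_option autoImplicit false
set_option linter.unusedSectionVars false
set_option linter.style.haveILetI false
set_option synthInstance.maxSize 4000
set_option synthInstance.maxHeartbeats 400000

namespace Cfsg.Agent.Lib.Inv59.RankFour.Seven

universe u v

variable {G : Type u} [Group G] [Finite G]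

/-- A layer `N` below the Frattini subgroup `Φ` of `Q` with `|Φ : N| = 2`. -/
structure Deep (Q Φ N : Subgroup G) (φ : G →* L3) (y x₀ : G) : Prop where
  surj : Function.Surjective φ
  ker : φ.ker = Q
  order : orderOf y = 7
  pgroup : IsPGroup 2 Q
  n_le : N ≤ Φ
  le : Φ ≤ Q
  cardQ : Nat.card Q = 16 * Nat.card Φ
  card : Nat.card Φ = 2 * Nat.card N
  sqQ : ∀ x ∈ Q, x * x ∈ Φ
  gen : ∀ M : Subgroup G, (∀ x ∈ Q, x * x ∈ M) → Φ ≤ M
  comm : ∀ a ∈ Φ, ∀ x ∈ Q, a * x * a⁻¹ * x⁻¹ ∈ N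
  sqΦ : ∀ a ∈ Φ, a * a ∈ N
  cen : ∀ n ∈ N, ∀ x ∈ Q, x * n = n * x
  sqN : ∀ n ∈ N, n * n = 1
  x_mem : x₀ ∈ Q
  x_nmem : x₀ ∉ Φ
  x_fix : y * x₀ * y⁻¹ * x₀⁻¹ ∈ Φ
  x_only : ∀ x ∈ Q, y * x * y⁻¹ * x⁻¹ ∈ Φ → x ∈ Φ ∨ x₀⁻¹ * x ∈ Φ

namespace Deep

variable {Q Φ N : Subgroup G} {φ : G →* L3} {y x₀ : G} [Q.Normal] [Φ.Normal] [N.Normal]
  (D : Deep Q Φ N φ y x₀)

include D

theorem nQ : N ≤ Q := D.n_le.trans D.le

/-- The quotient by `N`. -/
theorem base : ∃ M : Subgroup G, M.Normal ∧ Φ ≤ M ∧ Nat.card M = 8 * Nat.card Φ ∧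
    (∀ x, x ∈ M ↔ x ∈ Q ∧ x * x ∈ N) ∧ (∀ x ∈ M, y * x * y⁻¹ * x⁻¹ ∈ Φ → x ∈ Φ) ∧
    (∀ a ∈ Q, ∀ b ∈ Q, a * b * a⁻¹ * b⁻¹ ∈ N) ∧ x₀ * x₀ ∉ N ∧ (∀ x ∈ Q, x ∈ M ∨ x₀⁻¹ * x ∈ M) ∧
    (∀ z ∈ Φ, z ∈ N ∨ (x₀ * x₀)⁻¹ * z ∈ N) ∧ (∀ x ∈ Q, x * (x₀ * x₀) = x₀ * x₀ * x) := by
  let π := QuotientGroup.mk' N
  have hπs : Function.Surjective π := QuotientGroup.mk'_surjective N
  have hone : ∀ x, π x = 1 ↔ x ∈ N := fun x => QuotientGroup.eq_one_iff x
  haveI : (Q.map π).Normal := Subgroup.Normal.map inferInstance π hπs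
  haveI : (Φ.map π).Normal := Subgroup.Normal.map inferInstance π hπs
  have hW : Nat.card ↥(Φ.map π) = 2 := by
    have h : Nat.card ↥(Φ.map π) * Nat.card N = Nat.card Φ := card_map_mk N Φ D.n_le
    rw [D.card] at h
    exact Nat.eq_of_mul_eq_mul_right Nat.card_pos h
  have hQ : Nat.card ↥(Q.map π) = 32 := by
    have h : Nat.card ↥(Q.map π) * Nat.card N = Nat.card Q := card_map_mk N Q D.nQ
    rw [D.cardQ, D.card, ← mul_assoc] at h
    exact Nat.eq_of_mul_eq_mul_right Nat.card_pos h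
  have hmem : ∀ x, π x ∈ Φ.map π → x ∈ Φ := fun x h => mem_of_map D.n_le h
  have hcm : ∀ x, π y * π x * (π y)⁻¹ * (π x)⁻¹ = π (y * x * y⁻¹ * x⁻¹) := fun x => by simp
  obtain ⟨hab, hx2, Mb, hMn, hWM, hM16, hchar, hfree⟩ := trivial_top (order_map D.order N (D.pgroup.to_le D.nQ))
    (Q.map π) (Φ.map π) hW (Subgroup.map_mono D.le) hQ (by
      rintro _ ⟨x, hx, rfl⟩
      rw [← map_mul]; exact ⟨_, D.sqQ x hx, rfl⟩)
    (x₀ := π x₀) ⟨x₀, D.x_mem, rfl⟩ (fun h => D.x_nmem (hmem _ h)) (by rw [hcm]; exact ⟨_, D.x_fix, rfl⟩) (by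
      rintro _ ⟨x, hx, rfl⟩ h
      rw [hcm] at h
      refine (D.x_only x hx (hmem _ h)).imp (fun e => ⟨x, e, rfl⟩) (fun e => ?_)
      rw [← map_inv, ← map_mul]; exact ⟨_, e, rfl⟩) (by
      by_contra h
      push Not at h
      have hle : Φ ≤ N := D.gen N fun x hx => (hone _).1 (by rw [map_mul]; exact h _ ⟨x, hx, rfl⟩)
      have := Subgroup.card_le_of_le hle
      have := Nat.card_pos (α := ↥N)
      have := D.card
      omega)
  have hcomm : ∀ a ∈ Q, ∀ b ∈ Q, a * b * a⁻¹ * b⁻¹ ∈ N := fun a ha b hb => (hone _).1 (by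
    rw [map_mul, map_mul, map_mul, map_inv, map_inv, hab _ ⟨a, ha, rfl⟩ _ ⟨b, hb, rfl⟩]
    group)
  have hwN : x₀ * x₀ ∉ N := fun h => hx2 (by rw [← map_mul]; exact (hone _).2 h)
  have hmemQ : ∀ x, π x ∈ Q.map π → x ∈ Q := fun x h => mem_of_map D.nQ h
  have hM : ∀ x, x ∈ Mb.comap π ↔ x ∈ Q ∧ x * x ∈ N := by
    intro x
    rw [Subgroup.mem_comap, hchar, ← map_mul, hone]
    exact and_congr_left fun _ => ⟨hmemQ x, fun h => ⟨x, h, rfl⟩⟩
  refine ⟨Mb.comap π, inferInstance, fun x hx => hWM ⟨x, hx, rfl⟩, ?_, hM, ?_, hcomm, hwN, ?_, ?_, ?_⟩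
  · have hle : N ≤ Mb.comap π := fun x hx => by
      rw [Subgroup.mem_comap, (hone x).2 hx]; exact Mb.one_mem
    have h : Nat.card ↥((Mb.comap π).map π) * Nat.card N = Nat.card ↥(Mb.comap π) := card_map_mk N _ hle
    rw [Subgroup.map_comap_eq_self_of_surjective hπs, hM16] at h
    rw [← h, D.card]; ring
  · intro x hx h
    exact hmem x (hfree _ hx (by rw [hcm]; exact ⟨_, h, rfl⟩))
  · intro x hx
    by_cases hxx : x * x ∈ N
    · exact Or.inl ((hM x).2 ⟨hx, hxx⟩)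
    right
    refine (hM _).2 ⟨Q.mul_mem (Q.inv_mem D.x_mem) hx, (hone _).1 ?_⟩
    obtain ⟨w, hw, hw1, hww, hW12⟩ := two_elems hW
    have e1 : π x * π x = w := by
      refine (hW12 _ ?_).resolve_left fun e => hxx ((hone _).1 (by rw [map_mul]; exact e))
      rw [← map_mul]; exact ⟨_, D.sqQ x hx, rfl⟩
    have e2 : π x₀ * π x₀ = w := by
      refine (hW12 _ ?_).resolve_left hx2
      rw [← map_mul]; exact ⟨_, D.sqQ _ D.x_mem, rfl⟩
    rw [map_mul, map_mul, map_inv]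
    calc (π x₀)⁻¹ * π x * ((π x₀)⁻¹ * π x) = (π x₀)⁻¹ * (π x * (π x₀)⁻¹) * π x := by group
      _ = (π x₀)⁻¹ * ((π x₀)⁻¹ * π x) * π x := by
        rw [hab _ ⟨x, hx, rfl⟩ _ (Subgroup.inv_mem _ ⟨x₀, D.x_mem, rfl⟩)]
      _ = (π x₀ * π x₀)⁻¹ * (π x * π x) := by group
      _ = 1 := by rw [e1, e2, inv_mul_cancel]
  · intro z hz
    obtain ⟨w, hw, hw1, hww, hW12⟩ := two_elems hW
    have e2 : π x₀ * π x₀ = w := by
      refine (hW12 _ ?_).resolve_left hx2
      rw [← map_mul]; exact ⟨_, D.sqQ _ D.x_mem, rfl⟩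
    rcases hW12 (π z) ⟨z, hz, rfl⟩ with e | e
    · exact Or.inl ((hone z).1 e)
    · exact Or.inr ((hone _).1 (by rw [map_mul, map_inv, map_mul, e2, e, inv_mul_cancel]))
  · intro x hx
    have hc := hcomm x hx x₀ D.x_mem
    have hcx := D.cen _ hc x₀ D.x_mem
    have hcc := D.sqN _ hc
    set c := x * x₀ * x⁻¹ * x₀⁻¹ with hcdef
    calc x * (x₀ * x₀) = c * (x₀ * c) * (x₀ * x) := by rw [hcdef]; group
      _ = c * (c * x₀) * (x₀ * x) := by rw [hcx]
      _ = (c * c) * (x₀ * x₀ * x) := by group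
      _ = x₀ * x₀ * x := by rw [hcc, one_mul]

omit D in
/-- The commutator with a fixed element as a homomorphism on an abelian group. -/
theorem comm_hom {A : Subgroup G} (z : G) (hA : ∀ a ∈ A, z * a * z⁻¹ * a⁻¹ ∈ N) (hN : ∀ n ∈ N, ∀ a ∈ A, a * n = n * a) :
    ∀ a ∈ A, ∀ b ∈ A, z * (a * b) * z⁻¹ * (a * b)⁻¹ =
      (z * a * z⁻¹ * a⁻¹) * (z * b * z⁻¹ * b⁻¹) := by
  intro a ha b hb
  calc z * (a * b) * z⁻¹ * (a * b)⁻¹ = (z * a * z⁻¹ * a⁻¹) * (a * (z * b * z⁻¹ * b⁻¹)) * a⁻¹ := by group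
    _ = (z * a * z⁻¹ * a⁻¹) * ((z * b * z⁻¹ * b⁻¹) * a) * a⁻¹ := by rw [hN _ (hA b hb) a ha]
    _ = _ := by group

/-- Splitting off the top in the quotient by `N`. -/
theorem split_mod (M : Subgroup G) [M.Normal] (hΦM : Φ ≤ M) (hMcard : Nat.card M = 8 * Nat.card Φ)
    (hM : ∀ x, x ∈ M ↔ x ∈ Q ∧ x * x ∈ N) (hMfree : ∀ x ∈ M, y * x * y⁻¹ * x⁻¹ ∈ Φ → x ∈ Φ)
    (hcomm : ∀ a ∈ Q, ∀ b ∈ Q, a * b * a⁻¹ * b⁻¹ ∈ N) :
    ∃ X : Subgroup G, M ≤ X ∧ Function.Surjective (φ.comp X.subtype) ∧ ∀ x ∈ X, φ x = 1 → x ∈ M := by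
  have hMQ : M ≤ Q := fun x hx => ((hM x).1 hx).1
  let π := QuotientGroup.mk' N
  have hπs : Function.Surjective π := QuotientGroup.mk'_surjective N
  have hone : ∀ x, π x = 1 ↔ x ∈ N := fun x => QuotientGroup.eq_one_iff x
  haveI : (Q.map π).Normal := Subgroup.Normal.map inferInstance π hπs
  haveI : (Φ.map π).Normal := Subgroup.Normal.map inferInstance π hπs
  haveI : (M.map π).Normal := Subgroup.Normal.map inferInstance π hπs
  obtain ⟨ψ, hψ, hkψ, hψe⟩ := quot7 D.surj D.ker N D.nQ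
  have hΦc2 : Nat.card ↥(Φ.map π) = 2 := by
    have h : Nat.card ↥(Φ.map π) * Nat.card N = Nat.card Φ := card_map_mk N Φ D.n_le
    rw [D.card] at h
    exact Nat.eq_of_mul_eq_mul_right Nat.card_pos h
  have hMc : Nat.card ↥(M.map π) = 16 := by
    have h : Nat.card ↥(M.map π) * Nat.card N = Nat.card M := card_map_mk N M (D.n_le.trans hΦM)
    rw [hMcard, D.card, ← mul_assoc] at h
    exact Nat.eq_of_mul_eq_mul_right Nat.card_pos h
  have hQc : Nat.card ↥(Q.map π) = 2 * Nat.card ↥(M.map π) := by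
    have h : Nat.card ↥(Q.map π) * Nat.card N = Nat.card Q := card_map_mk N Q D.nQ
    rw [D.cardQ, D.card, ← mul_assoc] at h
    rw [hMc]
    exact Nat.eq_of_mul_eq_mul_right Nat.card_pos h
  have habQ : ∀ a ∈ Q.map π, ∀ b ∈ Q.map π, a * b = b * a := by
    rintro _ ⟨a, ha, rfl⟩ _ ⟨b, hb, rfl⟩
    have := (hone _).2 (hcomm a ha b hb)
    rw [map_mul, map_mul, map_mul, map_inv, map_inv, mul_inv_eq_one] at this
    exact mul_inv_eq_iff_eq_mul.1 this
  have hsqb : ∀ x ∈ Q.map π, x * x ∈ Φ.map π := by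
    rintro _ ⟨x, hx, rfl⟩
    rw [← map_mul]; exact ⟨_, D.sqQ x hx, rfl⟩
  have hMchar : ∀ x, x ∈ M.map π ↔ x ∈ Q.map π ∧ x * x = 1 := by
    intro x
    constructor
    · rintro ⟨a, ha, rfl⟩
      exact ⟨⟨a, hMQ ha, rfl⟩, by rw [← map_mul]; exact (hone _).2 ((hM a).1 ha).2⟩
    · rintro ⟨⟨a, ha, rfl⟩, h⟩
      exact ⟨a, (hM a).2 ⟨ha, (hone _).1 (by rw [map_mul]; exact h)⟩, rfl⟩
  obtain ⟨⟨F'⟩, hC'⟩ := frame_top (y := π y) hψ hkψ (Φ.map π) (M.map π) (Subgroup.map_mono hΦM)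
    (Subgroup.map_mono hMQ) (by rw [hMc, hΦc2])
    (fun x hx => by rw [((hMchar x).1 hx).2]; exact Subgroup.one_mem _) (by
      rintro x hx m hm
      rw [habQ x hx m ((hMchar m).1 hm).1, mul_inv_cancel_right, mul_inv_cancel]
      exact Subgroup.one_mem _) (by
      rintro _ ⟨a, ha, rfl⟩ h
      refine ⟨a, hMfree a ha (mem_of_map D.n_le ?_), rfl⟩
      rwa [← map_inv, ← map_inv, ← map_mul, ← map_mul, ← map_mul] at h)
  obtain ⟨X, hMX, hXs, hXk⟩ := split_trivial hψ hkψ (Φ.map π) (M.map π) (Subgroup.map_mono hΦM)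
    (Subgroup.map_mono hMQ) hΦc2 hQc hMc hMchar habQ hsqb F' hC'
  refine ⟨X.comap π, fun x hx => hMX ⟨x, hx, rfl⟩, fun l => ?_, fun g hg hgc =>
    mem_of_map (D.n_le.trans hΦM) (hXk _ hg ((hψe g).trans hgc))⟩
  obtain ⟨⟨v, hv⟩, he⟩ := hXs l
  obtain ⟨x, rfl⟩ := hπs v
  exact ⟨⟨x, hv⟩, (hψe x).symm.trans he⟩

/-- Below a natural layer. -/
theorem eight_false (hr : Cfsg.SectionalPRankLE 2 4 G) (h8 : Nat.card N = 8) (hfree : Free N y)
    (hcent : ∀ g, (∀ w ∈ N, g * w = w * g) ↔ g ∈ Q) (F : Frame N) : False := by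
  obtain ⟨M, hMn, hΦM, hMcard, hM, hMfree, hcomm, hwN, hcases, hΦN, hwc⟩ := D.base
  have hMQ : M ≤ Q := fun x hx => ((hM x).1 hx).1
  set w := x₀ * x₀ with hwdef
  have hwΦ : w ∈ Φ := D.sqQ _ D.x_mem
  have hwyN : y * w * y⁻¹ * w⁻¹ ∈ N := by
    rcases hΦN _ ((inferInstance : Φ.Normal).conj_mem w hwΦ y) with h | h
    · refine absurd ?_ hwN
      have := (inferInstance : N.Normal).conj_mem _ h y⁻¹
      rwa [show y⁻¹ * (y * w * y⁻¹) * y⁻¹⁻¹ = w by group] at this
    · rw [show y * w * y⁻¹ * w⁻¹ = w * (w⁻¹ * (y * w * y⁻¹)) * w⁻¹ by group]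
      exact (inferInstance : N.Normal).conj_mem _ h w
  have hww : w * w = 1 := by
    refine hfree _ (D.sqΦ w hwΦ) ?_
    set n := y * w * y⁻¹ * w⁻¹ with hn
    have e : y * w * y⁻¹ = n * w := by rw [hn]; group
    calc y * (w * w) * y⁻¹ = (y * w * y⁻¹) * (y * w * y⁻¹) := by group
      _ = n * (w * n) * w := by rw [e]; group
      _ = n * (n * w) * w := by rw [D.cen n hwyN w (D.le hwΦ)]
      _ = n * n * (w * w) := by group
      _ = w * w := by rw [D.sqN n hwyN, one_mul]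
  have hΦ2 : ∀ z ∈ Φ, z * z = 1 := by
    intro z hz
    rcases hΦN z hz with h | h
    · exact D.sqN z h
    · rw [show z = w * (w⁻¹ * z) by group]
      calc w * (w⁻¹ * z) * (w * (w⁻¹ * z)) = w * ((w⁻¹ * z) * w) * (w⁻¹ * z) := by group
        _ = w * (w * (w⁻¹ * z)) * (w⁻¹ * z) := by rw [D.cen _ h w (D.le hwΦ)]
        _ = (w * w) * ((w⁻¹ * z) * (w⁻¹ * z)) := by group
        _ = 1 := by rw [hww, D.sqN _ h, one_mul]
  have hΦc : ∀ z ∈ Φ, ∀ x ∈ M, x * z = z * x := by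
    intro z hz x hx
    rcases hΦN z hz with h | h
    · exact D.cen z h x (hMQ hx)
    · rw [show z = w * (w⁻¹ * z) by group]
      exact ((show Commute x w from hwc x (hMQ hx)).mul_right (D.cen _ h x (hMQ hx))).eq
  obtain ⟨hMab, hroot, hne⟩ := quad D.order hr M Φ N F D.n_le hΦM hΦ2 hΦc (fun x hx => ((hM x).1 hx).2)
    hMcard hfree hMfree
  obtain ⟨X, hMX, hXs, hXk⟩ := D.split_mod M hΦM hMcard hM hMfree hcomm
  refine core_in hr M Φ N F X hMX (cover D.ker N _ (fun x hx v hv => D.cen v hv x hx) hXs) hMab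
    (fun x hx => ((hM x).1 hx).2) hroot (fun x => ⟨fun h => ⟨hΦM h, hΦ2 x h⟩, fun h => hne x h.1 h.2⟩)
    D.n_le D.card.le fun g hg hgc => hXk g hg ?_
  exact MonoidHom.mem_ker.1 (D.ker.symm ▸ (hcent g).1 hgc)

omit D in
/-- The final section in the case of a cyclic centre of order four. -/
theorem final_two {H : Type u} [Group H] [Finite H] (hrH : Cfsg.SectionalPRankLE 2 4 H)
    {ψ : H →* L3} (hψ : Function.Surjective ψ) (R N' O : Subgroup H) [R.Normal] [N'.Normal] [O.Normal]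
    (hkψ : ψ.ker = R) {z : H} (hz : orderOf z = 7) (hN'O : N' ≤ O) (hOR : O ≤ R) (hN2 : Nat.card N' = 2)
    (hR : Nat.card R = 2 * Nat.card O) (hO16 : Nat.card O = 16) (hOc : ∀ x, x ∈ O ↔ x ∈ R ∧ x * x = 1)
    (hab : ∀ a ∈ R, ∀ b ∈ R, a * b = b * a) (hsq : ∀ x ∈ R, x * x ∈ N')
    (hfree : ∀ x ∈ O, z * x * z⁻¹ * x⁻¹ ∈ N' → x ∈ N') {w : H} (hwR : w ∈ R) (hwO : w ∉ O)
    (hwc : ∀ g : H, g * w = w * g) : False := by
  classical
  obtain ⟨⟨F⟩, hC⟩ := frame_top (y := z) hψ hkψ N' O hN'O hOR (by rw [hO16, hN2])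
    (fun x hx => by rw [((hOc x).1 hx).2]; exact N'.one_mem)
    (fun x hx m hm => by
      rw [hab x hx m (hOR hm), mul_inv_cancel_right, mul_inv_cancel]; exact N'.one_mem) hfree
  obtain ⟨X, hOX, hXs, hXk⟩ := split_trivial hψ hkψ N' O hN'O hOR hN2 hR hO16 hOc hab hsq F hC
  obtain ⟨hzX, hkX⟩ := seven_mem hψ hkψ hz O X hOX hXs hXk hOR hR
  haveI : (O.subgroupOf X).Normal := inferInstance
  have hNX : N' ≤ X := hN'O.trans hOX
  obtain ⟨⟨F₂⟩, hC₂⟩ := frame_top (y := (⟨z, hzX⟩ : ↥X)) hXs hkX (N'.subgroupOf X) (O.subgroupOf X)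
    (fun x hx => hN'O hx) le_rfl
    (by rw [Nat.card_congr (Subgroup.subgroupOfEquivOfLe hOX).toEquiv,
      Nat.card_congr (Subgroup.subgroupOfEquivOfLe hNX).toEquiv, hO16, hN2])
    (fun x hx => by
      rw [show x * x = 1 from Subtype.ext ((hOc _).1 hx).2]; exact Subgroup.one_mem _)
    (fun x hx m hm => by
      rw [show x * m * x⁻¹ * m⁻¹ = 1 from Subtype.ext (by
        show (x : H) * m * (x : H)⁻¹ * (m : H)⁻¹ = 1
        rw [hab (x : H) (hOR hx) (m : H) (hOR hm), mul_inv_cancel_right, mul_inv_cancel])]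
      exact Subgroup.one_mem _)
    (fun x hx h => hfree _ hx h)
  let π := QuotientGroup.mk' (N'.subgroupOf X)
  have hπs : Function.Surjective π := QuotientGroup.mk'_surjective _
  obtain ⟨h₁, h₂, ha₁, ha₂, hs₁, hs₂, hs₃⟩ := parity F₂ (fun g hg => by
    obtain ⟨a, rfl⟩ := hπs g
    exact ⟨a, hC₂ a hg, rfl⟩)
  obtain ⟨a₁, rfl⟩ := hπs h₁
  obtain ⟨a₂, rfl⟩ := hπs h₂
  -- the subgroup above the centre of the transvections
  set Zs := ((Subgroup.zpowers (F₂.e cp)).comap π).map X.subtype with hZs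
  have hZmem : ∀ r : ↥X, (π r = 1 ∨ π r = F₂.e cp) → (r : H) ∈ Zs := fun r hr => ⟨r, by
    show π r ∈ Subgroup.zpowers (F₂.e cp)
    rcases hr with e | e <;> rw [e]
    exacts [Subgroup.one_mem _, Subgroup.mem_zpowers _], rfl⟩
  have hNZ : ∀ x ∈ N', x ∈ Zs := fun x hx =>
    hZmem ⟨x, hNX hx⟩ (Or.inl ((QuotientGroup.eq_one_iff _).2 hx))
  have hcp1 : F₂.e cp ≠ 1 := fun e => (by decide : cp ≠ 0) (F₂.eq_one.1 e)
  have hZ4 : Nat.card Zs = 4 := by
    rw [hZs, ← Nat.card_congr (Subgroup.equivMapOfInjective _ X.subtype X.subtype_injective).toEquiv]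
    have h : Nat.card ↥(((Subgroup.zpowers (F₂.e cp)).comap π).map π) * Nat.card ↥(N'.subgroupOf X) =
        Nat.card ↥((Subgroup.zpowers (F₂.e cp)).comap π) := card_map_mk _ _ fun x hx => by
      rw [Subgroup.mem_comap, show π x = 1 from (QuotientGroup.eq_one_iff x).2 hx]; exact Subgroup.one_mem _
    rw [Subgroup.map_comap_eq_self_of_surjective hπs, Nat.card_zpowers,
      orderOf_eq_prime (p := 2) (by rw [pow_two, F₂.sq]) hcp1,
      Nat.card_congr (Subgroup.subgroupOfEquivOfLe hNX).toEquiv, hN2] at h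
    omega
  have hcp_pow : ∀ r ∈ Subgroup.zpowers (F₂.e cp), r = 1 ∨ r = F₂.e cp := by
    rintro _ ⟨i, rfl⟩
    show F₂.e cp ^ i = 1 ∨ F₂.e cp ^ i = F₂.e cp
    have h2 : F₂.e cp ^ (2 : ℤ) = 1 := by rw [zpow_two, F₂.sq]
    rcases Int.even_or_odd i with ⟨j, rfl⟩ | ⟨j, rfl⟩
    · left; rw [← two_mul, zpow_mul, h2, one_zpow]
    · right; rw [zpow_add_one, zpow_mul, h2, one_zpow, one_mul]
  have hZO : Zs ≤ O := by
    rintro _ ⟨r, hr, rfl⟩
    rcases hcp_pow (π r) hr with e | e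
    · exact hN'O ((QuotientGroup.eq_one_iff r).1 e)
    · exact mem_of_map (N := N'.subgroupOf X) (A := O.subgroupOf X) (fun x hx => hN'O hx) (e ▸ F₂.mem cp)
  have hωZ : ∀ (a : ↥X) (σ : V3 ≃+ V3), F₂.Acts (π a) σ → (∀ v, σ v + v = 0 ∨ σ v + v = cp) →
      ∀ o ∈ O, cm (a : H) o ∈ Zs := by
    intro a σ ha hσ o ho
    obtain ⟨v, hv⟩ := F₂.surj (π ⟨o, hOX ho⟩) ⟨_, ho, rfl⟩
    refine hZmem (a * ⟨o, hOX ho⟩ * a⁻¹ * ⟨o, hOX ho⟩⁻¹) ?_
    rw [map_mul, map_mul, map_mul, map_inv, map_inv, ← hv, ha, F₂.inv, ← F₂.add]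
    exact (hσ v).imp F₂.eq_one.2 (congrArg F₂.e)
  have h1cp : ∀ v : V3, (t1 v + v = 0 ∨ t1 v + v = cp) ∧ (t2 v + v = 0 ∨ t2 v + v = cp) :=
    fun v => ⟨(t_cases v).1, (t_cases v).2.1⟩
  set S : Set H := ((O : Set H) ∪ {w}) ∪ {(a₁ : H), (a₂ : H)} with hS
  have hcmO : ∀ s ∈ S, ∀ o ∈ O, cm s o ∈ Zs := by
    rintro s ((hs | rfl) | rfl | rfl) o ho
    · rw [cm, hab _ (hOR hs) _ (hOR ho), mul_inv_cancel_right, mul_inv_cancel]; exact Zs.one_mem
    · rw [cm, ← hwc o, mul_inv_cancel_right, mul_inv_cancel]; exact Zs.one_mem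
    · exact hωZ a₁ t1 ha₁ (fun v => (h1cp v).1) o ho
    · exact hωZ a₂ t2 ha₂ (fun v => (h1cp v).2) o ho
  have hswap : ∀ s t : H, cm t s = (cm s t)⁻¹ := fun s t => by unfold cm; group
  have hcm : ∀ s ∈ S, ∀ t ∈ S, cm s t ∈ Zs := by
    have hwS : ∀ t : H, cm w t = 1 := fun t => by rw [cm, ← hwc t]; group
    have hself : ∀ g : H, cm g g ∈ Zs := fun g => by
      rw [show cm g g = 1 by unfold cm; group]; exact Zs.one_mem
    intro s hs t ht
    rcases ht with (ht | ht) | ht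
    · exact hcmO s hs t ht
    · rw [Set.mem_singleton_iff] at ht
      rw [ht, hswap w s, hwS]; exact Zs.inv_mem Zs.one_mem
    · rcases hs with (hs' | hs') | hs'
      · rw [hswap t s]; exact Zs.inv_mem (hcmO t (Or.inr ht) s hs')
      · rw [Set.mem_singleton_iff] at hs'
        rw [hs', hwS]; exact Zs.one_mem
      · have h12 : cm (a₁ : H) a₂ ∈ Zs := hZmem (a₁ * a₂ * a₁⁻¹ * a₂⁻¹) (by
          rw [map_mul, map_mul, map_mul, map_inv, map_inv]; exact hs₃)
        rcases hs' with rfl | rfl <;> rcases ht with rfl | rfl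
        · exact hself _
        · exact h12
        · rw [hswap (a₁ : H) a₂]; exact Zs.inv_mem h12
        · exact hself _
  have hsqS : ∀ s ∈ S, s * s ∈ Zs := by
    rintro s ((hs | rfl) | rfl | rfl)
    · rw [((hOc s).1 hs).2]; exact Zs.one_mem
    · exact hNZ _ (hsq _ hwR)
    · exact hZmem (a₁ * a₁) (by rw [map_mul]; exact hs₁)
    · exact hZmem (a₂ * a₂) (by rw [map_mul]; exact hs₂)
  have hnorm : ∀ s ∈ S, ∀ r ∈ Zs, s * r * s⁻¹ ∈ Zs := by
    intro s hs r hr
    rw [show s * r * s⁻¹ = cm s r * r by unfold cm; group]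
    exact Zs.mul_mem (hcmO s hs r (hZO hr)) hr
  obtain ⟨hPn, hPs⟩ := gen_section S Zs hnorm hsqS hcm
  set P := Subgroup.closure S
  have hOP : ∀ o ∈ O, o ∈ P := fun o ho => Subgroup.subset_closure (Or.inl (Or.inl ho))
  have hle := section_le hrH P Zs (fun r hr => hOP r (hZO hr)) hPn hPs
  rw [hZ4] at hle
  -- too many elements
  let ge : ZMod 2 → ZMod 2 → H := fun a b => (if a = 0 then 1 else (a₁ : H)) * (if b = 0 then 1 else (a₂ : H))
  let we : ZMod 2 → H := fun i => if i = 0 then 1 else w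
  have hge : ∀ a b, ge a b ∈ P := fun a b => by
    refine P.mul_mem ?_ ?_ <;> split <;>
      first | exact P.one_mem | exact Subgroup.subset_closure (Or.inr (by simp))
  have hwe : ∀ i, we i ∈ P ∧ we i ∈ R := fun i => by
    show (if i = 0 then 1 else w) ∈ P ∧ (if i = 0 then 1 else w) ∈ R
    split
    · exact ⟨P.one_mem, R.one_mem⟩
    · exact ⟨Subgroup.subset_closure (Or.inl (Or.inr rfl)), hwR⟩
  let f : (ZMod 2 × ZMod 2) × ZMod 2 × ↥O → ↥P := fun q =>
    ⟨ge q.1.1 q.1.2 * (we q.2.1 * q.2.2), P.mul_mem (hge _ _) (P.mul_mem (hwe _).1 (hOP _ q.2.2.2))⟩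
  have hinj : Function.Injective f := by
    rintro ⟨⟨a, b⟩, i, ⟨o, ho⟩⟩ ⟨⟨a', b'⟩, i', ⟨o', ho'⟩⟩ he
    have he' : ge a b * (we i * o) = ge a' b' * (we i' * o') := congrArg Subtype.val he
    let gX : ZMod 2 → ZMod 2 → ↥X := fun a b => (if a = 0 then 1 else a₁) * (if b = 0 then 1 else a₂)
    have hgX : ∀ a b, (gX a b : H) = ge a b := fun a b => by
      show (((if a = 0 then (1 : ↥X) else a₁) * (if b = 0 then 1 else a₂) : ↥X) : H) = _
      rw [Subgroup.coe_mul]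
      show _ = (if a = 0 then 1 else (a₁ : H)) * (if b = 0 then 1 else (a₂ : H))
      split <;> split <;> simp
    have hact : ∀ a b v, π (gX a b) * F₂.e v * (π (gX a b))⁻¹ =
        F₂.e ((if a = 0 then id else t1) ((if b = 0 then id else t2) v)) := by
      intro a b v
      show π ((if a = 0 then 1 else a₁) * (if b = 0 then 1 else a₂)) * F₂.e v *
        (π ((if a = 0 then 1 else a₁) * (if b = 0 then 1 else a₂)))⁻¹ = _
      split <;> split <;>
        first
          | (simp; done)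
          | (simp only [one_mul, mul_one, id]; first | exact ha₁ v | exact ha₂ v)
          | (simp only [← ha₁ (t2 v), ← ha₂ v, map_mul]; group)
    have key : ∀ a b a' b' : ZMod 2,
        (∀ v, (if a = 0 then id else (t1 : V3 → V3)) ((if b = 0 then id else (t2 : V3 → V3)) v) =
          (if a' = 0 then id else (t1 : V3 → V3)) ((if b' = 0 then id else (t2 : V3 → V3)) v)) →
        a = a' ∧ b = b' := by decide +kernel
    obtain ⟨rfl, rfl⟩ := key a b a' b' fun v => F₂.inj (by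
      rw [← hact, ← hact]
      obtain ⟨m, hm, hme⟩ := F₂.mem v
      have hd : (ge a' b')⁻¹ * ge a b ∈ R := by
        rw [show (ge a' b')⁻¹ * ge a b = we i' * o' * (we i * o)⁻¹ by
          rw [eq_mul_inv_iff_mul_eq, mul_assoc, he', inv_mul_cancel_left]]
        exact R.mul_mem (R.mul_mem (hwe i').2 (hOR ho')) (R.inv_mem (R.mul_mem (hwe i).2 (hOR ho)))
      rw [← hme, ← map_inv, ← map_mul, ← map_mul, ← map_inv, ← map_mul, ← map_mul]
      refine congrArg π (Subtype.ext ?_)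
      show (gX a b : H) * (m : H) * (gX a b : H)⁻¹ = (gX a' b' : H) * (m : H) * (gX a' b' : H)⁻¹
      rw [hgX, hgX]
      calc ge a b * (m : H) * (ge a b)⁻¹
          = ge a' b' * (((ge a' b')⁻¹ * ge a b) * m) * (ge a b)⁻¹ := by group
        _ = ge a' b' * ((m : H) * ((ge a' b')⁻¹ * ge a b)) * (ge a b)⁻¹ := by rw [hab _ hd (m : H) (hOR hm)]
        _ = ge a' b' * (m : H) * (ge a' b')⁻¹ := by group)
    have he2 : we i * o = we i' * o' := mul_left_cancel he'
    have hb : ∀ x : ZMod 2, x = 0 ∨ x = 1 := by decide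
    have hw0 : we 0 = 1 := if_pos rfl
    have hw1 : we 1 = w := if_neg (by decide)
    rcases hb i with rfl | rfl <;> rcases hb i' with rfl | rfl <;> simp only [hw0, hw1, one_mul] at he2
    · subst he2; rfl
    · exact absurd (by rw [show w = o * o'⁻¹ by rw [he2]; group]; exact O.mul_mem ho (O.inv_mem ho')) hwO
    · exact absurd (by rw [show w = o' * o⁻¹ by rw [← he2]; group]; exact O.mul_mem ho' (O.inv_mem ho)) hwO
    · obtain rfl := mul_left_cancel he2; rfl
  have hcard := Nat.card_le_card_of_injective f hinj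
  simp only [Nat.card_prod, Nat.card_zmod, hO16] at hcard
  omega

/-- Below a layer of order two. -/
theorem two_false (hr : Cfsg.SectionalPRankLE 2 4 G) (hN2 : Nat.card N = 2) : False := by
  classical
  obtain ⟨M, hMn, hΦM, hMcard, hM, hMfree, hcomm, hwN, hcases, hΦN, hwc⟩ := D.base
  have hMQ : M ≤ Q := fun x hx => ((hM x).1 hx).1
  set w := x₀ * x₀ with hwdef
  have hwΦ : w ∈ Φ := D.sqQ _ D.x_mem
  have hwQ : w ∈ Q := D.le hwΦ
  have hNc := two_central hN2
  have hwG : ∀ g : G, g * w = w * g := by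
    have hin : ∀ g : G, g * w * g⁻¹ * w⁻¹ ∈ N := by
      intro g
      rcases hΦN _ ((inferInstance : Φ.Normal).conj_mem w hwΦ g) with h | h
      · refine absurd ?_ hwN
        have := (inferInstance : N.Normal).conj_mem _ h g⁻¹
        rwa [show g⁻¹ * (g * w * g⁻¹) * g⁻¹⁻¹ = w by group] at this
      · rw [show g * w * g⁻¹ * w⁻¹ = w * (w⁻¹ * (g * w * g⁻¹)) * w⁻¹ by group]
        exact (inferInstance : N.Normal).conj_mem _ h w
    let cx : G →* ↥N := MonoidHom.mk' (fun g => ⟨g * w * g⁻¹ * w⁻¹, hin g⟩) (fun a b => by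
      refine Subtype.ext ?_
      show a * b * w * (a * b)⁻¹ * w⁻¹ = a * w * a⁻¹ * w⁻¹ * (b * w * b⁻¹ * w⁻¹)
      have e := hNc _ (hin b)
      set c := b * w * b⁻¹ * w⁻¹ with hc
      calc a * b * w * (a * b)⁻¹ * w⁻¹ = (a * c) * (w * a⁻¹ * w⁻¹) := by rw [hc]; group
        _ = (c * a) * (w * a⁻¹ * w⁻¹) := by rw [e]
        _ = c * (a * w * a⁻¹ * w⁻¹) := by group
        _ = a * w * a⁻¹ * w⁻¹ * c := (e _).symm)
    have hT := hom_two_trivial D.surj D.ker hN2.le cx fun a ha => by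
      refine MonoidHom.mem_ker.2 (Subtype.ext ?_)
      show a * w * a⁻¹ * w⁻¹ = 1
      rw [hwc a ha, mul_inv_cancel_right, mul_inv_cancel]
    intro g
    have hm : g ∈ cx.ker := by rw [hT]; exact Subgroup.mem_top g
    exact mul_inv_eq_iff_eq_mul.1 (mul_inv_eq_one.1 (congrArg Subtype.val (MonoidHom.mem_ker.1 hm) :))
  have hΦc : ∀ z ∈ Φ, ∀ g : G, g * z = z * g := by
    intro z hz g
    rcases hΦN z hz with h | h
    · exact hNc z h g
    · rw [show z = w * (w⁻¹ * z) by group]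
      exact ((show Commute g w from hwG g).mul_right (hNc _ h g)).eq
  have hsqw : ∀ z ∈ Φ, z ∉ N → z * z = w * w := by
    intro z hz hzN
    have h := (hΦN z hz).resolve_left hzN
    rw [show z = w * (w⁻¹ * z) by group]
    calc w * (w⁻¹ * z) * (w * (w⁻¹ * z)) = w * ((w⁻¹ * z) * w) * (w⁻¹ * z) := by group
      _ = w * (w * (w⁻¹ * z)) * (w⁻¹ * z) := by rw [hNc _ h w]
      _ = (w * w) * ((w⁻¹ * z) * (w⁻¹ * z)) := by group
      _ = w * w := by rw [D.sqN _ h, mul_one]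
  -- the centre is cyclic
  have hww : w * w ≠ 1 := by
    intro hw2
    have hw1 : w ≠ 1 := fun e => hwN (e ▸ N.one_mem)
    set Z := Subgroup.zpowers w with hZ
    haveI : Z.Normal := ⟨fun a ha b => by
      obtain ⟨i, rfl⟩ := ha
      show b * w ^ i * b⁻¹ ∈ Z
      rw [((show Commute b w from hwG b).zpow_right i).eq, mul_inv_cancel_right]
      exact Subgroup.zpow_mem _ (Subgroup.mem_zpowers w) i⟩
    have hZΦ : Z ≤ Φ := Subgroup.zpowers_le.2 hwΦ
    have hΦ2 : ∀ z ∈ Φ, z * z = 1 := fun z hz => by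
      by_cases h : z ∈ N
      · exact D.sqN z h
      · rw [hsqw z hz h, hw2]
    have hZ2 : Nat.card Z = 2 := by
      rw [Nat.card_zpowers]
      exact orderOf_eq_prime (by rw [pow_two]; exact hw2) hw1
    have D' : Deep Q Φ Z φ y x₀ := { D with
      n_le := hZΦ
      card := by rw [hZ2, D.card, hN2]
      comm := fun a ha x hx => by
        rw [← hΦc a ha x, mul_inv_cancel_right, mul_inv_cancel]; exact Z.one_mem
      sqΦ := fun a ha => by rw [hΦ2 a ha]; exact Z.one_mem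
      cen := fun a ha x _ => hΦc a (hZΦ ha) x
      sqN := fun a ha => hΦ2 a (hZΦ ha) }
    obtain ⟨-, -, -, -, -, -, -, h, -⟩ := D'.base
    exact h (Subgroup.mem_zpowers w)
  obtain ⟨n, hn, hn1, hnn, hN12⟩ := two_elems hN2
  have hwn : w * w = n := (hN12 _ (D.sqΦ w hwΦ)).resolve_left hww
  have hM32 : Nat.card M = 32 := by rw [hMcard, D.card, hN2]
  have hΦ4 : Nat.card Φ = 4 := by rw [D.card, hN2]
  have hMy : ∀ a ∈ M, y * a * y⁻¹ ∈ M := fun a ha => hMn.conj_mem a ha y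
  -- `M` is abelian
  have hbil : ∀ z ∈ M, ∀ a ∈ M, ∀ b ∈ M, cm z (a * b) = cm z a * cm z b := fun z hz =>
    comm_hom (N := N) z (fun a ha => hcomm z (hMQ hz) a (hMQ ha)) (fun m hm a _ => hNc m hm a)
  have hMab : ∀ a ∈ M, ∀ b ∈ M, a * b = b * a := by
    let C : Subgroup G := M ⊓ Subgroup.centralizer (M : Set G)
    suffices h : C = M by
      intro a ha b hb
      exact (Subgroup.mem_centralizer_iff.1 (h.symm ▸ ha : a ∈ C).2 b hb).symm
    have hΦC : Φ ≤ C := fun z hz => ⟨hΦM hz, Subgroup.mem_centralizer_iff.2 fun g _ => hΦc z hz g⟩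
    by_contra hne
    have hCΦ : ∀ a ∈ C, a ∈ Φ := by
      let π := QuotientGroup.mk' Φ
      have hV8 : Nat.card ↥(M.map π) = 8 := by
        have h : Nat.card ↥(M.map π) * Nat.card Φ = Nat.card M := card_map_mk Φ M hΦM
        rw [hM32, hΦ4] at h
        omega
      have hy' := order_map D.order Φ (D.pgroup.to_le D.le)
      have hfr : Free (M.map π) (π y) := by
        rintro _ ⟨x, hx, rfl⟩ he
        refine (QuotientGroup.eq_one_iff x).2 (hMfree x hx ((QuotientGroup.eq_one_iff _).1 ?_))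
        show π (y * x * y⁻¹ * x⁻¹) = 1
        rw [map_mul, map_mul, map_mul, map_inv, map_inv, he, mul_inv_cancel]
      rcases seven_subgroup hy' hV8 hfr (C.map π) (Subgroup.map_mono inf_le_left) (by
          rintro _ ⟨a, ⟨ha, hac⟩, rfl⟩
          refine ⟨y * a * y⁻¹, ⟨hMy a ha, Subgroup.mem_centralizer_iff.2 fun g hg => ?_⟩, by simp [π]⟩
          have h1 := Subgroup.mem_centralizer_iff.1 hac _ (hMn.conj_mem g hg y⁻¹)
          calc g * (y * a * y⁻¹) = y * (y⁻¹ * g * y⁻¹⁻¹ * a) * y⁻¹ := by group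
            _ = y * (a * (y⁻¹ * g * y⁻¹⁻¹)) * y⁻¹ := by rw [h1]
            _ = y * a * y⁻¹ * g := by group) with h | h
      · exact fun a ha => (QuotientGroup.eq_one_iff a).1 (Subgroup.mem_bot.1 (h ▸ ⟨a, ha, rfl⟩))
      · refine absurd (le_antisymm inf_le_left fun x hx => ?_) hne
        exact mem_of_map hΦC (h.symm ▸ ⟨x, hx, rfl⟩)
    obtain ⟨a, ha, haΦ⟩ : ∃ a ∈ M, a ∉ Φ := by
      by_contra h
      push Not at h
      have := Subgroup.card_le_of_le (show M ≤ Φ from h)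
      omega
    obtain ⟨d, hd, had⟩ : ∃ d ∈ M, cm a d ≠ 1 := by
      by_contra h
      push Not at h
      refine haΦ (hCΦ a ⟨ha, Subgroup.mem_centralizer_iff.2 fun g hg => ?_⟩)
      exact (mul_inv_eq_iff_eq_mul.1 (mul_inv_eq_one.1 (h g hg))).symm
    have hcmN : ∀ u ∈ M, ∀ v ∈ M, cm u v ∈ N := fun u hu v hv => hcomm u (hMQ hu) v (hMQ hv)
    let A : Subgroup G := M ⊓ Subgroup.centralizer {a}
    have hAmem : ∀ x ∈ M, x ∈ A ↔ cm a x = 1 := fun x hx => by
      rw [cm, mul_inv_eq_one, mul_inv_eq_iff_eq_mul]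
      exact ⟨fun h => (Subgroup.mem_centralizer_singleton_iff.1 h.2).symm,
        fun h => ⟨hx, Subgroup.mem_centralizer_singleton_iff.2 h.symm⟩⟩
    -- index two
    have hsplitA : ∀ x ∈ M, x ∈ A ∨ d⁻¹ * x ∈ A := by
      intro x hx
      rcases hN12 _ (hcmN a ha x hx) with e | e
      · exact Or.inl ((hAmem x hx).2 e)
      · right
        have hm := M.mul_mem (M.inv_mem hd) hx
        have h1 := hbil a ha d hd _ hm
        rw [mul_inv_cancel_left, e, (hN12 _ (hcmN a ha d hd)).resolve_left had] at h1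
        exact (hAmem _ hm).2 (mul_eq_left.1 h1.symm)
    have hA16 : 16 ≤ Nat.card A := by
      have hsub : (M : Set G) ⊆ (A : Set G) ∪ (fun x => d * x) '' (A : Set G) := fun x hx =>
        (hsplitA x hx).imp id fun h => ⟨_, h, mul_inv_cancel_left d x⟩
      have h := (Set.ncard_le_ncard hsub (Set.toFinite _)).trans (Set.ncard_union_le _ _)
      rw [Set.ncard_image_of_injective _ (mul_right_injective d), ← Nat.card_coe_set_eq, ← Nat.card_coe_set_eq,
        show Nat.card ↥(M : Set G) = 32 from hM32] at h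
      have h' : 32 ≤ Nat.card ↥A + Nat.card ↥A := h
      omega
    obtain ⟨c, hcA, hcΦ, hcaΦ⟩ : ∃ c ∈ A, c ∉ Φ ∧ a⁻¹ * c ∉ Φ := by
      by_contra h
      push Not at h
      have hsub : (A : Set G) ⊆ (Φ : Set G) ∪ (fun x => a * x) '' (Φ : Set G) := fun x hx => by
        by_cases hxΦ : x ∈ Φ
        · exact Or.inl hxΦ
        · exact Or.inr ⟨_, h x hx hxΦ, mul_inv_cancel_left a x⟩
      have h' := (Set.ncard_le_ncard hsub (Set.toFinite _)).trans (Set.ncard_union_le _ _)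
      rw [Set.ncard_image_of_injective _ (mul_right_injective a), ← Nat.card_coe_set_eq, ← Nat.card_coe_set_eq,
        show Nat.card ↥(Φ : Set G) = 4 from hΦ4] at h'
      have h'' : Nat.card ↥A ≤ 4 + 4 := h'
      omega
    -- `A` is abelian
    have hAc : ∀ x ∈ A, cm c x = 1 := by
      let B : Subgroup G := A ⊓ Subgroup.centralizer {c}
      suffices h : B = A by
        intro x hx
        rw [cm, mul_inv_eq_one, mul_inv_eq_iff_eq_mul]
        exact (Subgroup.mem_centralizer_singleton_iff.1 (h.symm ▸ hx : x ∈ B).2).symm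
      have hAM : A ≤ M := inf_le_left
      have haA : a ∈ A := (hAmem a ha).2 (by unfold cm; group)
      have hac : cm c a = 1 := by
        rw [cm, mul_inv_eq_one, mul_inv_eq_iff_eq_mul]
        exact Subgroup.mem_centralizer_singleton_iff.1 hcA.2
      have hΦA : Φ ≤ A := fun z hz => ⟨hΦM hz, Subgroup.mem_centralizer_singleton_iff.2 (hΦc z hz a).symm⟩
      have hΦB : Φ ≤ B := fun z hz => ⟨hΦA hz, Subgroup.mem_centralizer_singleton_iff.2 (hΦc z hz c).symm⟩
      have haB : a ∈ B := ⟨haA, Subgroup.mem_centralizer_singleton_iff.2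
        (mul_inv_eq_iff_eq_mul.1 (mul_inv_eq_one.1 hac)).symm⟩
      have hcB : c ∈ B := ⟨hcA, Subgroup.mem_centralizer_singleton_iff.2 rfl⟩
      refine Subgroup.eq_of_le_of_card_ge inf_le_left ?_
      -- four cosets of `Φ`
      let f : ZMod 2 × ZMod 2 × ↥Φ → ↥B := fun q => ⟨(if q.1 = 0 then 1 else a) * (if q.2.1 = 0 then 1 else c) * q.2.2,
        B.mul_mem (B.mul_mem (by split <;> first | exact B.one_mem | exact haB)
          (by split <;> first | exact B.one_mem | exact hcB)) (hΦB q.2.2.2)⟩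
      have hf : Function.Injective f := by
        rintro ⟨i, j, ⟨u, hu⟩⟩ ⟨i', j', ⟨v, hv⟩⟩ e
        have e' : (if i = 0 then 1 else a) * (if j = 0 then 1 else c) * u =
            (if i' = 0 then 1 else a) * (if j' = 0 then 1 else c) * v := congrArg Subtype.val e
        have hz : ((if i = 0 then 1 else a) * (if j = 0 then 1 else c))⁻¹ *
            ((if i' = 0 then 1 else a) * (if j' = 0 then 1 else c)) ∈ Φ := by
          rw [show ((if i = 0 then 1 else a) * (if j = 0 then 1 else c))⁻¹ *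
            ((if i' = 0 then 1 else a) * (if j' = 0 then 1 else c)) = u * v⁻¹ by
              rw [eq_mul_inv_iff_mul_eq, mul_assoc, ← e', inv_mul_cancel_left]]
          exact Φ.mul_mem hu (Φ.inv_mem hv)
        have hcan : ∀ p, p ∈ Φ ↔ p⁻¹ ∈ Φ := fun p => Φ.inv_mem_iff.symm
        have ha2 : a * a ∈ Φ := D.sqQ a (hMQ ha)
        have hc2 : c * c ∈ Φ := D.sqQ c (hMQ hcA.1)
        have hac' : a * c = c * a := (Subgroup.mem_centralizer_singleton_iff.1 hcA.2).symm
        have n1 : a⁻¹ * c ∉ Φ := hcaΦ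
        have n2 : c⁻¹ * a ∉ Φ := fun h => hcaΦ (by
          rw [hcan, mul_inv_rev, inv_inv]; exact h)
        have n3 : a * c ∉ Φ := fun h => hcaΦ (by
          rw [show a⁻¹ * c = (a * a)⁻¹ * (a * c) by group]; exact Φ.mul_mem (Φ.inv_mem ha2) h)
        have n4 : c * a ∉ Φ := hac' ▸ n3
        have hb : ∀ x : ZMod 2, x = 0 ∨ x = 1 := by decide
        rcases hb i with rfl | rfl <;> rcases hb i' with rfl | rfl <;> rcases hb j with rfl | rfl <;>
          rcases hb j' with rfl | rfl <;> simp at hz e' <;>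
          first
            | (subst e'; rfl)
            | exact absurd hz haΦ
            | exact absurd hz hcΦ
            | exact absurd hz n1
            | exact absurd hz n2
            | exact absurd hz n3
            | exact absurd hz n4
            | exact absurd ((hcan _).2 (by simpa using hz)) haΦ
            | exact absurd ((hcan _).2 (by simpa using hz)) hcΦ
            | exact absurd ((hcan _).2 (by simpa [mul_inv_rev] using hz)) n3
            | exact absurd ((hcan _).2 (by simpa [mul_inv_rev] using hz)) n4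
            | exact absurd ((hcan _).2 (by simpa [mul_inv_rev, mul_assoc] using hz)) n3
            | exact absurd (show c ∈ Φ by simpa [mul_assoc] using hz) hcΦ
            | exact absurd (show a ∈ Φ by
                rw [show a = c * (c⁻¹ * a⁻¹ * c)⁻¹ * c⁻¹ by group]
                exact (inferInstance : Φ.Normal).conj_mem _ (Φ.inv_mem (by simpa [mul_assoc] using hz)) c) haΦ
            | exact absurd (show a ∈ Φ by
                rw [show a = c * (c⁻¹ * a * c) * c⁻¹ by group]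
                exact (inferInstance : Φ.Normal).conj_mem _ (by simpa [mul_assoc] using hz) c) haΦ
      have hc16 := Nat.card_le_card_of_injective f hf
      simp only [Nat.card_prod, Nat.card_zmod, hΦ4] at hc16
      have hMA : Nat.card A ≤ 16 := by
        have hlt : A < M := lt_of_le_of_ne hAM fun e => had ((hAmem d hd).1 (e.symm ▸ hd))
        have hdvd := Subgroup.card_dvd_of_le hlt.le
        rw [hM32] at hdvd
        by_contra hgt
        have h32 : Nat.card A = 32 := by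
          have := Nat.le_of_dvd (by norm_num) hdvd
          obtain ⟨k, hk⟩ := hdvd
          have hk2 : k < 2 := by
            by_contra hk'
            have := Nat.mul_le_mul (show 17 ≤ Nat.card ↥A by omega) (show 2 ≤ k by omega)
            omega
          interval_cases k <;> omega
        exact hlt.ne (Subgroup.eq_of_le_of_card_ge hAM (by rw [h32, hM32]))
      have h16 : Nat.card ↥(A ⊓ Subgroup.centralizer {c}) = Nat.card ↥B := rfl
      omega
    have hcentral : ∀ e ∈ A, cm e d = 1 → (∀ x ∈ A, cm e x = 1) → e ∈ Φ := fun e he h1 h2 => by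
      refine hCΦ e ⟨he.1, Subgroup.mem_centralizer_iff.2 fun g hg => ?_⟩
      have : cm e g = 1 := by
        rcases hsplitA g hg with h | h
        · exact h2 g h
        · have := hbil e he.1 d hd _ h.1
          rwa [mul_inv_cancel_left, h1, h2 _ h, one_mul] at this
      exact (mul_inv_eq_iff_eq_mul.1 (mul_inv_eq_one.1 this)).symm
    have hswap : ∀ u v : G, cm v u = (cm u v)⁻¹ := fun u v => by unfold cm; group
    by_cases hcd : cm c d = 1
    · exact hcΦ (hcentral c hcA hcd hAc)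
    · have haA : a ∈ A := (hAmem a ha).2 (by unfold cm; group)
      have hl : ∀ v ∈ M, cm (a * c) v = cm a v * cm c v := by
        intro v hv
        rw [hswap v (a * c), hbil v hv a ha c hcA.1, mul_inv_rev, ← hswap, ← hswap]
        exact hNc _ (hcmN a ha v hv) _
      refine haΦ (?_ : a ∈ Φ)
      have hz := hcentral (a * c) (A.mul_mem haA hcA) (by
        rw [hl d hd, (hN12 _ (hcmN a ha d hd)).resolve_left had,
          (hN12 _ (hcmN c hcA.1 d hd)).resolve_left hcd, hnn]) fun x hx => by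
        rw [hl x hx.1, (hAmem x hx.1).1 hx, hAc x hx, one_mul]
      exfalso
      refine hcaΦ ?_
      rw [show a⁻¹ * c = (a * a)⁻¹ * (a * c) by group]
      exact Φ.mul_mem (Φ.inv_mem (D.sqQ a (hMQ ha))) hz
  -- split off the top, then the elements of order two
  obtain ⟨X, hMX, hXs, hXk⟩ := D.split_mod M hΦM hMcard hM hMfree hcomm
  obtain ⟨hyX, hkX⟩ := seven_mem D.surj D.ker D.order M X hMX hXs hXk hMQ (by rw [hMcard, D.cardQ]; ring)
  let O : Subgroup G :=
    { carrier := {x | x ∈ M ∧ x * x = 1}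
      one_mem' := ⟨M.one_mem, one_mul 1⟩
      mul_mem' := by
        rintro p q ⟨hp, hp2⟩ ⟨hq, hq2⟩
        refine ⟨M.mul_mem hp hq, ?_⟩
        calc p * q * (p * q) = p * (q * p) * q := by group
          _ = (p * p) * (q * q) := by rw [hMab q hq p hp]; group
          _ = 1 := by rw [hp2, hq2, one_mul]
      inv_mem' := by
        rintro p ⟨hp, hp2⟩
        exact ⟨M.inv_mem hp, by rw [← mul_inv_rev, hp2, inv_one]⟩ }
  haveI : O.Normal := ⟨fun p hp g => ⟨hMn.conj_mem p hp.1 g, by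
    rw [show g * p * g⁻¹ * (g * p * g⁻¹) = g * (p * p) * g⁻¹ by group, hp.2]; simp⟩⟩
  have hwM : w ∈ M := hΦM hwΦ
  have hwO : w ∉ O := fun h => hww h.2
  have hO : Nat.card O = 16 := by
    let sq : ↥M →* ↥N := MonoidHom.mk' (fun p => ⟨(p : G) * p, ((hM p).1 p.2).2⟩) (fun p q => Subtype.ext (by
      show (p : G) * q * (p * q) = (p : G) * p * ((q : G) * q)
      calc (p : G) * q * (p * q) = p * ((q : G) * p) * q := by group
        _ = p * ((p : G) * q) * q := by rw [hMab q q.2 p p.2]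
        _ = (p : G) * p * ((q : G) * q) := by group))
    have hs : sq.range = ⊤ := by
      refine eq_top_iff.2 fun z _ => ?_
      rcases hN12 z z.2 with e | e
      · rw [show z = 1 from Subtype.ext e]; exact sq.range.one_mem
      · exact ⟨⟨w, hwM⟩, Subtype.ext (hwn.trans e.symm)⟩
    have h := Subgroup.card_mul_index sq.ker
    rw [Subgroup.index_ker, hs, Subgroup.card_top, hN2, hM32] at h
    have e : Nat.card sq.ker = Nat.card O := Nat.card_congr
      { toFun := fun p => ⟨p.1.1, p.1.2, congrArg Subtype.val (MonoidHom.mem_ker.1 p.2)⟩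
        invFun := fun p => ⟨⟨p.1, p.2.1⟩, MonoidHom.mem_ker.2 (Subtype.ext p.2.2)⟩
        left_inv := fun p => rfl
        right_inv := fun p => rfl }
    omega
  have hNO : N ≤ O := fun z hz => ⟨hΦM (D.n_le hz), D.sqN z hz⟩
  have hOM : O ≤ M := fun z hz => hz.1
  refine final_two (hrH := SectionalRank.subgroup hr X) (ψ := φ.comp X.subtype) hXs (M.subgroupOf X)
    (N.subgroupOf X) (O.subgroupOf X) hkX (z := ⟨y, hyX⟩) ((Subgroup.orderOf_mk _ _).trans D.order)
    (fun z hz => hNO hz) (fun z hz => hOM hz)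
    (by rw [Nat.card_congr (Subgroup.subgroupOfEquivOfLe ((D.n_le.trans hΦM).trans hMX)).toEquiv, hN2])
    (by rw [Nat.card_congr (Subgroup.subgroupOfEquivOfLe hMX).toEquiv,
      Nat.card_congr (Subgroup.subgroupOfEquivOfLe (hOM.trans hMX)).toEquiv, hM32, hO])
    (by rw [Nat.card_congr (Subgroup.subgroupOfEquivOfLe (hOM.trans hMX)).toEquiv, hO])
    (fun x => ⟨fun h => ⟨h.1, Subtype.ext h.2⟩, fun h => ⟨h.1, congrArg Subtype.val h.2⟩⟩)
    (fun p hp q hq => Subtype.ext (hMab _ hp _ hq)) (fun p hp => ((hM _).1 hp).2)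
    (fun p hp hpy => ?_) (w := ⟨w, hMX hwM⟩) hwM hwO (fun g => Subtype.ext (hwG g))
  by_contra hpN
  refine hww ?_
  rw [← hsqw p (hMfree p hp.1 (D.n_le hpy)) hpN]
  exact hp.2

end Deep

end Cfsg.Agent.Lib.Inv59.RankFour.Seven
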