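import Mathlib
import Cfsg.Agent.Lib.Inv59.RankFour.Seven.Tops

/-!
# No natural layer below the natural module
-/

set_option autoImplicit false
set_option linter.unusedSectionVars false
set_option linter.style.haveILetI false
set_option synthInstance.maxSize 4000
set_option synthInstance.maxHeartbeats 400000

namespace Cfsg.Agent.Lib.Inv59.RankFour.Seven

universe u v

variable {G : Type u} [Group G] [Finite G]

theorem sq_out : (∀ v : V3, t2 v + v ≠ q2) ∧ (∀ v : V3, ts v + v ≠ cp) ∧ (∀ v : V3, t1 v + v ≠ q1) ∧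
    ts cp = cp := by decide +kernel

/-- Lifts of the involutions with a fixed point outside the commutator space square into `M`
when `Q ∖ M` inverts `M`. -/
theorem square_in {Q : Subgroup G} (M W : Subgroup G) [M.Normal] [W.Normal] (F : Frame W) (hWM : W ≤ M)
    (hQW : ∀ g, (∀ w ∈ W, g * w = w * g) → g ∈ Q) (hMab : ∀ a ∈ M, ∀ b ∈ M, a * b = b * a)
    (hroot : ∀ w ∈ W, ∃ x ∈ M, x * x = w) (hne : ∀ x ∈ M, x * x = 1 → x ∈ W)
    (hinv : ∀ s ∈ Q, s ∉ M → ∀ x ∈ M, s * x * s⁻¹ = x⁻¹) {g : G} {σ : V3 ≃+ V3} (hg : F.Acts g σ)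
    (hσ : ∀ v, σ (σ v) = v) {q : V3} (hq : σ q = q) (hout : ∀ v, σ v + v ≠ q) : g * g ∈ M := by
  by_contra hbad
  obtain ⟨x, hx, hxq⟩ := hroot _ (F.mem q)
  have hs := hinv _ (hQW _ (F.sq_central hg hσ)) hbad x hx
  set a := g * x * g⁻¹ with ha
  have haM : a ∈ M := (inferInstance : M.Normal).conj_mem x hx g
  have hab := hMab a haM x hx
  have h2 : g * a * g⁻¹ = x⁻¹ := by rw [← hs, ha]; group
  -- the commutator has order two
  have hm : cm g x ∈ M := M.mul_mem haM (M.inv_mem hx)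
  have hmm : cm g x * cm g x = 1 := by
    have e : cm g x = a * x⁻¹ := rfl
    rw [e]
    calc a * x⁻¹ * (a * x⁻¹) = a * (x⁻¹ * a) * x⁻¹ := by group
      _ = a * (a * x⁻¹) * x⁻¹ := by rw [hMab a haM _ (M.inv_mem hx)]
      _ = (g * (x * x) * g⁻¹) * (x * x)⁻¹ := by rw [ha]; group
      _ = 1 := by rw [hxq, hg, hq, mul_inv_cancel]
  obtain ⟨v, hv⟩ := F.surj _ (hne _ hm hmm)
  refine hout v (F.inj ?_)
  have e1 : cm g (cm g x) = F.e (σ v + v) := by rw [← hv, F.add, cm, hg, F.inv]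
  rw [← e1]
  calc cm g (cm g x) = (g * a * g⁻¹) * (g * x * g⁻¹)⁻¹ * (a * x⁻¹)⁻¹ := by rw [ha, cm, cm]; group
    _ = x⁻¹ * a⁻¹ * (x * a⁻¹) := by rw [h2, ha]; group
    _ = (a * x)⁻¹ * (x * a⁻¹) := by group
    _ = (x * a)⁻¹ * (x * a⁻¹) := by rw [hab]
    _ = (g * (x * x) * g⁻¹)⁻¹ := by rw [ha]; group
    _ = F.e q := by rw [hxq, hg, hq, F.inv]

variable {Q W : Subgroup G} {φ : G →* L3} {y : G} [Q.Normal] [W.Normal]

/-- The Frattini quotient of order eight over a natural module. -/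
theorem eight_eight (hr : Cfsg.SectionalPRankLE 2 4 G) (hy : orderOf y = 7) (F : Frame W) (hWQ : W ≤ Q)
    (hcent : ∀ g, (∀ w ∈ W, g * w = w * g) ↔ g ∈ Q) (hfreeW : Free W y) (hsq : ∀ x ∈ Q, x * x ∈ W)
    (hQ : Nat.card Q = 64) (hfree : ∀ x ∈ Q, y * x * y⁻¹ * x⁻¹ ∈ W → x ∈ W) : False := by
  have hW2 : ∀ w ∈ W, w * w = 1 := fun w hw => by
    obtain ⟨v, rfl⟩ := F.surj w hw
    exact F.sq v
  obtain ⟨hab, hroot, hne⟩ := quad hy hr Q W W F le_rfl hWQ hW2 (fun z hz x hx => (hcent x).2 hx z hz) hsq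
    (by rw [hQ, F.card]) hfreeW hfree
  exact core_in hr Q W W F ⊤ le_top (fun g => ⟨g, trivial, fun w _ => rfl⟩) hab hsq hroot
    (fun x => ⟨fun h => ⟨hWQ h, hW2 x h⟩, fun h => hne x h.1 h.2⟩) le_rfl (by omega)
    fun g _ hg => (hcent g).1 hg

/-- The Frattini quotient of order sixteen over a natural module. -/
theorem eight_sixteen (hφ : Function.Surjective φ) (hker : φ.ker = Q) (hr : Cfsg.SectionalPRankLE 2 4 G)
    (hy : orderOf y = 7) (F : Frame W) (hWQ : W ≤ Q)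
    (hcent : ∀ g, (∀ w ∈ W, g * w = w * g) ↔ g ∈ Q) (hfreeW : Free W y) (hsq : ∀ x ∈ Q, x * x ∈ W)
    (hQ : Nat.card Q = 128) {x₀ : G} (hx₀ : x₀ ∈ Q) (hx₀W : x₀ ∉ W) (hfix : y * x₀ * y⁻¹ * x₀⁻¹ ∈ W)
    (honly : ∀ x ∈ Q, y * x * y⁻¹ * x⁻¹ ∈ W → x ∈ W ∨ x₀⁻¹ * x ∈ W) : False := by
  classical
  have hW2 : ∀ w ∈ W, w * w = 1 := fun w hw => by
    obtain ⟨v, rfl⟩ := F.surj w hw
    exact F.sq v
  have hcW : ∀ w ∈ W, ∀ x ∈ Q, x * w = w * x := fun w hw x hx => (hcent x).2 hx w hw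
  have hWn : ∀ (g : G), ∀ w ∈ W, g * w * g⁻¹ ∈ W := fun g w hw => (inferInstance : W.Normal).conj_mem w hw g
  let π := QuotientGroup.mk' W
  have hπs : Function.Surjective π := QuotientGroup.mk'_surjective W
  have hone : ∀ x, π x = 1 ↔ x ∈ W := fun x => QuotientGroup.eq_one_iff x
  obtain ⟨ψ, hψ, hkψ, hψe⟩ := quot7 hφ hker W hWQ
  set V := Q.map π with hV
  haveI : V.Normal := Subgroup.Normal.map inferInstance π hπs
  have hV2 : ∀ v ∈ V, v * v = 1 := by
    rintro _ ⟨x, hx, rfl⟩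
    rw [← map_mul]; exact (hone _).2 (hsq x hx)
  have hV16 : Nat.card V = 16 := by
    have h : Nat.card ↥V * Nat.card W = Nat.card Q := card_map_mk W Q hWQ
    rw [hQ, F.card] at h
    omega
  have hcomm : ∀ a ∈ Q, ∀ b ∈ Q, a * b * a⁻¹ * b⁻¹ ∈ W := fun a ha b hb => (hone _).1 (by
    rw [map_mul, map_mul, map_mul, map_inv, map_inv,
      comm_of_sq hV2 (⟨a, ha, rfl⟩ : π a ∈ V) ⟨b, hb, rfl⟩]
    group)
  have hWp : IsPGroup 2 W := isPGroup_of_sq hW2
  have hy' := order_map hy W hWp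
  have hcm : ∀ x, π (y * x * y⁻¹ * x⁻¹) = π y * π x * (π y)⁻¹ * (π x)⁻¹ := fun x => by simp
  have h₀ : OneFixed V (π y) (π x₀) := by
    refine ⟨⟨x₀, hx₀, rfl⟩, fun e => hx₀W ((hone _).1 e), ?_, ?_⟩
    · have := (hone _).2 hfix
      rwa [hcm, mul_inv_eq_one] at this
    · rintro _ ⟨x, hx, rfl⟩ he
      rcases honly x hx ((hone _).1 (by rw [hcm, he, mul_inv_cancel])) with h | h
      · exact Or.inl ((hone _).2 h)
      · right
        have e := (hone _).2 h
        rw [map_mul, map_inv, inv_mul_eq_one] at e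
        exact e.symm
  -- squares of the elements congruent to `x₀`
  have hx₀y : y * (x₀ * x₀) * y⁻¹ = x₀ * x₀ := by
    set n := y * x₀ * y⁻¹ * x₀⁻¹ with hn
    have e : y * x₀ * y⁻¹ = n * x₀ := by rw [hn]; group
    calc y * (x₀ * x₀) * y⁻¹ = (y * x₀ * y⁻¹) * (y * x₀ * y⁻¹) := by group
      _ = n * (x₀ * n) * x₀ := by rw [e]; group
      _ = n * (n * x₀) * x₀ := by rw [hcW n hfix x₀ hx₀]
      _ = n * n * (x₀ * x₀) := by group
      _ = x₀ * x₀ := by rw [hW2 n hfix, one_mul]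
  have hx₀2 : x₀ * x₀ = 1 := hfreeW _ (hsq x₀ hx₀) hx₀y
  obtain ⟨U₀, hU₀V, hU₀8, hU₀y, hU₀free, hx₀U₀, -, hcos₀⟩ :=
    range7 hy' hV2 hV16 (fun v hv => (inferInstance : V.Normal).conj_mem v hv _) h₀
  -- an invariant hyperplane
  obtain ⟨U, hUn, hUV, hU8, hUfree⟩ : ∃ U : Subgroup (G ⧸ W), U.Normal ∧ U ≤ V ∧ Nat.card U = 8 ∧ Free U (π y) := by
    refine (orbit8 hy' hψ hkψ V hV2 hV16 (fun a ha b hb => comm_of_sq hV2 ha hb) h₀).elim (fun hv₀ => ?_) id
    -- `x₀` is central modulo `W`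
    have hgx : ∀ g : G, g * x₀ * g⁻¹ * x₀⁻¹ ∈ W := fun g => (hone _).1 (by
      have := hv₀ (π g)
      rw [map_mul, map_mul, map_mul, map_inv, map_inv, this, mul_inv_cancel])
    have hbil : ∀ a ∈ Q, ∀ b ∈ Q, cm x₀ (a * b) = cm x₀ a * cm x₀ b := by
      intro a ha b hb
      have h := hcW _ (hcomm x₀ hx₀ b hb) a ha
      unfold cm
      calc x₀ * (a * b) * x₀⁻¹ * (a * b)⁻¹
          = (x₀ * a * x₀⁻¹ * a⁻¹) * (a * (x₀ * b * x₀⁻¹ * b⁻¹)) * a⁻¹ := by group
        _ = (x₀ * a * x₀⁻¹ * a⁻¹) * ((x₀ * b * x₀⁻¹ * b⁻¹) * a) * a⁻¹ := by rw [h]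
        _ = _ := by group
    have hequiv : ∀ g : G, ∀ a ∈ Q, g * cm x₀ a * g⁻¹ = cm x₀ (g * a * g⁻¹) := by
      intro g a ha
      have hga : g * a * g⁻¹ ∈ Q := (inferInstance : Q.Normal).conj_mem a ha g
      have hz := hcW _ (hgx g)
      set z := g * x₀ * g⁻¹ * x₀⁻¹ with hzdef
      set b := g * a * g⁻¹ with hb
      calc g * cm x₀ a * g⁻¹ = (z * x₀) * b * (z * x₀)⁻¹ * b⁻¹ := by rw [cm, hzdef, hb]; group
        _ = z * (x₀ * b * x₀⁻¹) * z⁻¹ * b⁻¹ := by group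
        _ = (x₀ * b * x₀⁻¹) * z * z⁻¹ * b⁻¹ := by
          rw [hz _ ((inferInstance : Q.Normal).conj_mem b hga x₀)]
        _ = cm x₀ b := by rw [cm]; group
    let K : Subgroup G := Q ⊓ Subgroup.centralizer {x₀}
    have hK : ∀ a ∈ Q, a ∈ K ↔ cm x₀ a = 1 := fun a ha => by
      rw [cm, mul_inv_eq_one, mul_inv_eq_iff_eq_mul]
      exact ⟨fun h => (Subgroup.mem_centralizer_singleton_iff.1 h.2).symm,
        fun h => ⟨ha, Subgroup.mem_centralizer_singleton_iff.2 h.symm⟩⟩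
    set Z := (Subgroup.zpowers (π x₀)).comap π with hZdef
    haveI : (Subgroup.zpowers (π x₀)).Normal := ⟨fun a ha b => by
      obtain ⟨i, rfl⟩ := ha
      show b * π x₀ ^ i * b⁻¹ ∈ _
      rw [← conj_zpow, hv₀]
      exact Subgroup.zpow_mem _ (Subgroup.mem_zpowers _) i⟩
    have hv₀2 : π x₀ * π x₀ = 1 := hV2 _ h₀.mem
    have hZmem : ∀ x, x ∈ Z ↔ x ∈ W ∨ x₀⁻¹ * x ∈ W := by
      intro x
      constructor
      · rintro ⟨i, hi⟩
        have hi' : π x₀ ^ i = π x := hi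
        have h2 : π x₀ ^ (2 : ℤ) = 1 := by rw [zpow_two, hv₀2]
        rcases Int.even_or_odd i with ⟨j, rfl⟩ | ⟨j, rfl⟩
        · left
          refine (hone x).1 ?_
          rw [← hi', ← two_mul, zpow_mul, h2, one_zpow]
        · right
          refine (hone _).1 ?_
          rw [map_mul, map_inv, ← hi', zpow_add_one, zpow_mul, h2, one_zpow, one_mul, inv_mul_cancel]
      · rintro (h | h)
        · show π x ∈ Subgroup.zpowers (π x₀)
          rw [(hone x).2 h]; exact Subgroup.one_mem _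
        · show π x ∈ Subgroup.zpowers (π x₀)
          have e := (hone _).2 h
          rw [map_mul, map_inv, inv_mul_eq_one] at e
          rw [← e]; exact Subgroup.mem_zpowers _
    have hWZ : W ≤ Z := fun x hx => (hZmem x).2 (Or.inl hx)
    have hZQ : Z ≤ Q := fun x hx => by
      rcases (hZmem x).1 hx with h | h
      · exact hWQ h
      · rw [show x = x₀ * (x₀⁻¹ * x) by group]; exact Q.mul_mem hx₀ (hWQ h)
    have hZ2 : ∀ z ∈ Z, z * z = 1 := by
      intro z hz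
      rcases (hZmem z).1 hz with h | h
      · exact hW2 z h
      · rw [show z = x₀ * (x₀⁻¹ * z) by group]
        calc x₀ * (x₀⁻¹ * z) * (x₀ * (x₀⁻¹ * z)) = x₀ * ((x₀⁻¹ * z) * x₀) * (x₀⁻¹ * z) := by group
          _ = x₀ * (x₀ * (x₀⁻¹ * z)) * (x₀⁻¹ * z) := by rw [hcW _ h x₀ hx₀]
          _ = x₀ * x₀ * ((x₀⁻¹ * z) * (x₀⁻¹ * z)) := by group
          _ = 1 := by rw [hx₀2, hW2 _ h, one_mul]
    have hZK : ∀ z ∈ Z, cm x₀ z = 1 := by
      intro z hz
      rcases (hZmem z).1 hz with h | h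
      · rw [cm, hcW z h x₀ hx₀, mul_inv_cancel_right, mul_inv_cancel]
      · have hc := hcW _ h x₀ hx₀
        rw [show z = x₀ * (x₀⁻¹ * z) by group, cm]
        calc x₀ * (x₀ * (x₀⁻¹ * z)) * x₀⁻¹ * (x₀ * (x₀⁻¹ * z))⁻¹
            = x₀ * ((x₀ * (x₀⁻¹ * z)) * x₀⁻¹) * (x₀ * (x₀⁻¹ * z))⁻¹ := by group
          _ = x₀ * (((x₀⁻¹ * z) * x₀) * x₀⁻¹) * (x₀ * (x₀⁻¹ * z))⁻¹ := by rw [hc]
          _ = 1 := by group
    have hbZ : ∀ x ∈ Q, x ∉ Z → π x ≠ 1 ∧ π x ≠ π x₀ := fun x hx hxZ =>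
      ⟨fun e => hxZ (hWZ ((hone x).1 e)), fun e => hxZ (show π x ∈ Subgroup.zpowers (π x₀) by rw [e]; exact Subgroup.mem_zpowers _)⟩
    -- `y` is free modulo `Z`
    have hfreeZ : ∀ x ∈ Q, y * x * y⁻¹ * x⁻¹ ∈ Z → x ∈ Z := by
      intro x hx h
      rcases (hZmem _).1 h with h1 | h1
      · exact (hZmem x).2 (honly x hx h1)
      · exfalso
        refine hx₀U₀ ?_
        have e := (hone _).2 h1
        rw [map_mul, map_inv, inv_mul_eq_one] at e
        rw [e, hcm]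
        rcases hcos₀ (π x) ⟨x, hx, rfl⟩ with hu | hu
        · exact U₀.mul_mem (hU₀y _ hu) (U₀.inv_mem hu)
        · have := U₀.mul_mem (hU₀y _ hu) (U₀.inv_mem hu)
          rwa [show π y * (π x₀ * π x) * (π y)⁻¹ * (π x₀ * π x)⁻¹ =
            (π y * π x₀ * (π y)⁻¹) * ((π y * π x * (π y)⁻¹ * (π x)⁻¹) * (π x₀)⁻¹) by group, h₀.fix,
            inv_eq_of_mul_eq_one_right hv₀2, comm_of_sq hV2 (V.mul_mem
              ((inferInstance : V.Normal).conj_mem _ (⟨x, hx, rfl⟩ : π x ∈ V) (π y))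
              (V.inv_mem (⟨x, hx, rfl⟩ : π x ∈ V))) h₀.mem,
            ← mul_assoc, hv₀2, one_mul] at this
    have hZc : Nat.card Z = 16 := by
      have hle : W ≤ Z := hWZ
      have h : Nat.card ↥(Z.map π) * Nat.card W = Nat.card Z := card_map_mk W Z hle
      rw [hZdef, Subgroup.map_comap_eq_self_of_surjective hπs, Nat.card_zpowers,
        orderOf_eq_prime (p := 2) (by rw [pow_two]; exact hv₀2) h₀.ne, F.card] at h
      rw [hZdef]
      omega
    by_cases hall : ∀ a ∈ Q, cm x₀ a = 1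
    · exfalso
      have hZcen : ∀ z ∈ Z, ∀ x ∈ Q, x * z = z * x := by
        intro z hz x hx
        rcases (hZmem z).1 hz with h | h
        · exact hcW z h x hx
        · rw [show z = x₀ * (x₀⁻¹ * z) by group]
          exact ((show Commute x x₀ from (mul_inv_eq_iff_eq_mul.1 (mul_inv_eq_one.1 (hall x hx))).symm).mul_right
            (hcW _ h x hx)).eq
      obtain ⟨hab, hroot, hne⟩ := quad hy hr Q Z W F hWZ hZQ hZ2 hZcen hsq (by rw [hQ, hZc]) hfreeW hfreeZ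
      exact core_in hr Q Z W F ⊤ le_top (fun g => ⟨g, trivial, fun w _ => rfl⟩) hab hsq hroot
        (fun x => ⟨fun h => ⟨hZQ h, hZ2 x h⟩, fun h => hne x h.1 h.2⟩) hWZ (by rw [hZc, F.card])
        fun g _ hg => (hcent g).1 hg
    push Not at hall
    obtain ⟨a₁, ha₁, ha₁c⟩ := hall
    -- commutation with `x₀` is injective modulo `Z`
    have hinj : ∀ a ∈ Q, cm x₀ a = 1 → a ∈ Z := by
      let π' := QuotientGroup.mk' Z
      have hV8 : Nat.card ↥(Q.map π') = 8 := by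
        have h : Nat.card ↥(Q.map π') * Nat.card Z = Nat.card Q := card_map_mk Z Q hZQ
        rw [hQ, hZc] at h
        omega
      have hy'' := order_map hy Z (isPGroup_of_sq hZ2)
      have hfr : Free (Q.map π') (π' y) := by
        rintro _ ⟨x, hx, rfl⟩ he
        refine (QuotientGroup.eq_one_iff x).2 (hfreeZ x hx ((QuotientGroup.eq_one_iff _).1 ?_))
        show π' (y * x * y⁻¹ * x⁻¹) = 1
        rw [map_mul, map_mul, map_mul, map_inv, map_inv, he, mul_inv_cancel]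
      rcases seven_subgroup hy'' hV8 hfr (K.map π') (Subgroup.map_mono inf_le_left) (by
          rintro _ ⟨a, ha, rfl⟩
          refine ⟨y * a * y⁻¹, (hK _ ((inferInstance : Q.Normal).conj_mem a ha.1 y)).2 ?_, by simp [π']⟩
          rw [← hequiv y a ha.1, (hK a ha.1).1 ha, mul_one, mul_inv_cancel]) with h | h
      · exact fun a ha hac => (QuotientGroup.eq_one_iff a).1
          (Subgroup.mem_bot.1 (h ▸ ⟨a, (hK a ha).2 hac, rfl⟩))
      · exfalso
        obtain ⟨k, hk, hke⟩ := (h.symm ▸ ⟨a₁, ha₁, rfl⟩ : π' a₁ ∈ K.map π')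
        have hz : k⁻¹ * a₁ ∈ Z := by
          rw [← QuotientGroup.eq_one_iff]
          show π' (k⁻¹ * a₁) = 1
          rw [map_mul, map_inv, hke, inv_mul_cancel]
        apply ha₁c
        rw [show a₁ = k * (k⁻¹ * a₁) by group, hbil k hk.1 _ (hZQ hz), (hK k hk.1).1 hk, hZK _ hz, one_mul]
    -- exactly one of the two lifts is an involution
    have hdich : ∀ x ∈ Q, x ∉ Z → x * x = 1 ∨ x * x = cm x₀ x := by
      intro x hx hxZ
      obtain ⟨a, ha⟩ : ∃ a, F.e a = cm x₀ x := F.surj _ (hcomm x₀ hx₀ x hx)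
      obtain ⟨c, hc⟩ := F.surj _ (hsq x hx)
      by_contra hcon
      push Not at hcon
      have ha0 : a ≠ 0 := fun e => hxZ (hinj x hx (by rw [← ha, e, F.zero]))
      have hc0 : c ≠ 0 := fun e => hcon.1 (by rw [← hc, e, F.zero])
      have hca : c ≠ a := fun e => hcon.2 (by rw [← hc, ← ha, e])
      obtain ⟨k, hk1, hk2⟩ := square_stabilizer F ha0 hc0 hca
      refine hk2 ?_
      rw [hc]
      rw [ha, hequiv k x hx] at hk1
      have hkx : k * x * k⁻¹ ∈ Q := (inferInstance : Q.Normal).conj_mem x hx k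
      have hd : x⁻¹ * (k * x * k⁻¹) ∈ Z := by
        refine hinj _ (Q.mul_mem (Q.inv_mem hx) hkx) ?_
        have h1 := hbil x hx _ (Q.mul_mem (Q.inv_mem hx) hkx)
        rw [mul_inv_cancel_left, hk1] at h1
        exact mul_eq_left.1 h1.symm
      -- the square of `k` fixes the coset
      have hk2x : π (k * k * x * (k * k)⁻¹) = π x := by
        rcases (hZmem _).1 hd with h | h
        · have e := (hone _).2 h
          rw [map_mul, map_inv, inv_mul_eq_one, map_mul, map_mul, map_inv] at e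
          simp only [map_mul, map_inv, mul_inv_rev]
          calc π k * π k * π x * ((π k)⁻¹ * (π k)⁻¹) = π k * (π k * π x * (π k)⁻¹) * (π k)⁻¹ := by group
            _ = π x := by rw [← e, ← e]
        · have e := (hone _).2 h
          rw [map_mul, map_inv, inv_mul_eq_one, map_mul, map_inv, map_mul, map_mul, map_inv] at e
          have e' : π k * π x * (π k)⁻¹ = π x * π x₀ := by
            calc π k * π x * (π k)⁻¹ = π x * ((π x)⁻¹ * (π k * π x * (π k)⁻¹)) := by group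
              _ = π x * π x₀ := by rw [← e]
          simp only [map_mul, map_inv, mul_inv_rev]
          calc π k * π k * π x * ((π k)⁻¹ * (π k)⁻¹) = π k * (π k * π x * (π k)⁻¹) * (π k)⁻¹ := by group
            _ = π k * (π x * π x₀) * (π k)⁻¹ := by rw [e']
            _ = π k * π x * (π k)⁻¹ * (π k * π x₀ * (π k)⁻¹) := by group
            _ = π x := by rw [e', hv₀, mul_assoc, hv₀2, mul_one]
      have hz : x⁻¹ * (k * k * x * (k * k)⁻¹) ∈ W := (hone _).1 (by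
        rw [map_mul, map_inv, hk2x, inv_mul_cancel])
      set z := x⁻¹ * (k * k * x * (k * k)⁻¹) with hzdef
      rw [show k * k * (x * x) * (k * k)⁻¹ = (k * k * x * (k * k)⁻¹) * (k * k * x * (k * k)⁻¹) by group,
        show k * k * x * (k * k)⁻¹ = x * z by rw [hzdef]; group]
      calc x * z * (x * z) = x * (z * x) * z := by group
        _ = x * (x * z) * z := by rw [hcW z hz x hx]
        _ = x * x * (z * z) := by group
        _ = x * x := by rw [hW2 z hz, mul_one]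
    have hflip : ∀ x ∈ Q, x₀ * x * (x₀ * x) = cm x₀ x * (x * x) := by
      intro x hx
      have hi : x₀⁻¹ = x₀ := inv_eq_of_mul_eq_one_right hx₀2
      calc x₀ * x * (x₀ * x) = x₀ * x * x₀⁻¹ * x := by rw [hi]; group
        _ = cm x₀ x * (x * x) := by rw [cm]; group
    let T : Set (G ⧸ W) := {v | ∃ x ∈ Q, x ∉ Z ∧ x * x = 1 ∧ π x = v}
    have hTV : ∀ t ∈ T, t ∈ V ∧ t ≠ 1 ∧ t ≠ π x₀ := by
      rintro _ ⟨x, hx, hxZ, -, rfl⟩
      exact ⟨⟨x, hx, rfl⟩, hbZ x hx hxZ⟩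
    have hTg : ∀ g, ∀ t ∈ T, g * t * g⁻¹ ∈ T := by
      rintro g _ ⟨x, hx, hxZ, hx2, rfl⟩
      obtain ⟨g, rfl⟩ := hπs g
      refine ⟨g * x * g⁻¹, (inferInstance : Q.Normal).conj_mem x hx g, fun h => hxZ ?_, ?_, by simp [π]⟩
      · have := (inferInstance : Z.Normal).conj_mem _ h g⁻¹
        rwa [show g⁻¹ * (g * x * g⁻¹) * g⁻¹⁻¹ = x by group] at this
      · rw [show g * x * g⁻¹ * (g * x * g⁻¹) = g * (x * x) * g⁻¹ by group, hx2]; simp
    have hmiss : ∀ t ∈ T, π x₀ * t ∉ T := by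
      rintro _ ⟨x, hx, hxZ, hx2, rfl⟩ ⟨x', hx', hx'Z, hx'2, he⟩
      have hz : (x₀ * x)⁻¹ * x' ∈ W := (hone _).1 (by rw [map_mul, map_inv, he, map_mul, inv_mul_cancel])
      set z := (x₀ * x)⁻¹ * x' with hzdef
      have hxx : x₀ * x ∈ Q := Q.mul_mem hx₀ hx
      rw [show x' = x₀ * x * z by rw [hzdef]; group] at hx'2
      refine hxZ (hinj x hx ?_)
      have e := hflip x hx
      rw [hx2, mul_one] at e
      rw [← e]
      calc x₀ * x * (x₀ * x) = x₀ * x * ((x₀ * x) * (z * z)) := by rw [hW2 z hz, mul_one]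
        _ = x₀ * x * ((x₀ * x * z) * z) := by group
        _ = x₀ * x * ((z * (x₀ * x)) * z) := by rw [hcW z hz _ hxx]
        _ = 1 := by rw [← hx'2]; group
    have hcover : ∀ v ∈ V, v ≠ 1 → v ≠ π x₀ → v ∈ T ∨ π x₀ * v ∈ T := by
      rintro _ ⟨x, hx, rfl⟩ h1 h2
      have hxZ : x ∉ Z := fun h => by
        rcases (hZmem x).1 h with e | e
        · exact h1 ((hone x).2 e)
        · refine h2 ?_
          have e' := (hone _).2 e
          rw [map_mul, map_inv, inv_mul_eq_one] at e'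
          exact e'.symm
      rcases hdich x hx hxZ with e | e
      · exact Or.inl ⟨x, hx, hxZ, e, rfl⟩
      · refine Or.inr ⟨x₀ * x, Q.mul_mem hx₀ hx, fun h => hxZ ?_, ?_, map_mul π _ _⟩
        · have hx₀Z : x₀ ∈ Z := (hZmem x₀).2 (Or.inr (by rw [inv_mul_cancel]; exact W.one_mem))
          exact (Z.mul_mem_cancel_left hx₀Z).1 h
        · rw [hflip x hx, e]
          exact hW2 _ (hcomm x₀ hx₀ x hx)
    have hdisj : ∀ t ∈ T, t ∉ (fun v => π x₀ * v) '' T := by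
      rintro t ht ⟨s, hs, rfl⟩
      exact hmiss s hs ht
    have h14 : ((V : Set (G ⧸ W)) \ {1, π x₀}).ncard = 14 := by
      rw [Set.ncard_sdiff (Set.insert_subset V.one_mem (Set.singleton_subset_iff.2 h₀.mem)),
        Set.ncard_pair h₀.ne.symm, ← Nat.card_coe_set_eq, show Nat.card ↥(V : Set (G ⧸ W)) = 16 from hV16]
    have hunion : T ∪ (fun v => π x₀ * v) '' T = (V : Set (G ⧸ W)) \ {1, π x₀} := by
      ext v
      constructor
      · rintro (h | ⟨t, ht, rfl⟩)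
        · exact ⟨(hTV v h).1, by simp [(hTV v h).2.1, (hTV v h).2.2]⟩
        · refine ⟨V.mul_mem h₀.mem (hTV t ht).1, ?_⟩
          simp only [Set.mem_insert_iff, Set.mem_singleton_iff, not_or]
          refine ⟨fun e => (hTV t ht).2.2 ?_, fun e => (hTV t ht).2.1 (mul_eq_left.1 e)⟩
          rw [mul_eq_one_iff_inv_eq, inv_eq_of_mul_eq_one_right hv₀2] at e
          exact e.symm
      · rintro ⟨hv, hn⟩
        simp only [Set.mem_insert_iff, Set.mem_singleton_iff, not_or] at hn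
        refine (hcover v hv hn.1 hn.2).imp id fun h => ⟨_, h, ?_⟩
        show π x₀ * (π x₀ * v) = v
        rw [← mul_assoc, hv₀2, one_mul]
    have hT7 : T.ncard = 7 := by
      have := congrArg Set.ncard hunion
      rw [Set.ncard_union_eq (Set.disjoint_left.2 hdisj) (Set.toFinite _) (Set.toFinite _),
        Set.ncard_image_of_injective _ (mul_right_injective _), h14] at this
      omega
    exact ⟨U₀, seven_set hy' hV2 h₀ hU₀V hU₀8 hU₀y hU₀free hcos₀ T hTV hTg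
      ((Set.ncard_pos (Set.toFinite T)).1 (by omega)) hT7.le, hU₀V, hU₀8, hU₀free⟩
  -- the preimage of the hyperplane
  haveI := hUn
  set M := U.comap π with hMdef
  have hWM : W ≤ M := fun x hx => by rw [hMdef, Subgroup.mem_comap, (hone x).2 hx]; exact U.one_mem
  have hMQ : M ≤ Q := fun x hx => mem_of_map hWQ (hUV hx)
  have hMc : Nat.card M = 64 := by
    have h : Nat.card ↥(M.map π) * Nat.card W = Nat.card M := card_map_mk W M hWM
    rw [hMdef, Subgroup.map_comap_eq_self_of_surjective hπs, hU8, F.card] at h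
    rw [hMdef]; omega
  have hMfree : ∀ x ∈ M, y * x * y⁻¹ * x⁻¹ ∈ W → x ∈ W := fun x hx h => (hone x).1 (hUfree _ hx (by
    have := (hone _).2 h
    rwa [hcm, mul_inv_eq_one] at this))
  obtain ⟨hMab, hroot, hne⟩ := quad hy hr M W W F le_rfl hWM hW2 (fun z hz x hx => hcW z hz x (hMQ hx))
    (fun x hx => hsq x (hMQ hx)) (by rw [hMc, F.card]) hfreeW hMfree
  have hx₀M : x₀ ∉ M := fun h => hx₀W (hMfree x₀ h hfix)
  have hMidx : (M.subgroupOf Q).index = 2 := by
    have h := Subgroup.card_mul_index (M.subgroupOf Q)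
    rw [Nat.card_congr (Subgroup.subgroupOfEquivOfLe hMQ).toEquiv, hMc, hQ] at h
    omega
  have hcases : ∀ x ∈ Q, x ∉ M → x₀⁻¹ * x ∈ M := by
    intro x hx hxM
    exact (Subgroup.mul_mem_iff_of_index_two hMidx (a := ⟨x₀⁻¹, Q.inv_mem hx₀⟩) (b := ⟨x, hx⟩)).2
      ⟨fun h => absurd (M.inv_mem_iff.1 h) hx₀M, fun h => absurd h hxM⟩
  have hbil : ∀ a ∈ M, ∀ b ∈ M, cm x₀ (a * b) = cm x₀ a * cm x₀ b := by
    intro a ha b hb
    have h := hcW _ (hcomm x₀ hx₀ b (hMQ hb)) a (hMQ ha)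
    unfold cm
    calc x₀ * (a * b) * x₀⁻¹ * (a * b)⁻¹
        = (x₀ * a * x₀⁻¹ * a⁻¹) * (a * (x₀ * b * x₀⁻¹ * b⁻¹)) * a⁻¹ := by group
      _ = (x₀ * a * x₀⁻¹ * a⁻¹) * ((x₀ * b * x₀⁻¹ * b⁻¹) * a) * a⁻¹ := by rw [h]
      _ = _ := by group
  have hequiv : ∀ g : G, ∀ a ∈ M, g * cm x₀ a * g⁻¹ = cm x₀ (g * a * g⁻¹) := by
    intro g a ha
    have hgx₀ : g * x₀ * g⁻¹ ∈ Q := (inferInstance : Q.Normal).conj_mem x₀ hx₀ g
    have hnot : g * x₀ * g⁻¹ ∉ M := fun h => hx₀M (by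
      have := (inferInstance : M.Normal).conj_mem _ h g⁻¹
      rwa [show g⁻¹ * (g * x₀ * g⁻¹) * g⁻¹⁻¹ = x₀ by group] at this)
    have hm := hcases _ hgx₀ hnot
    have hb : g * a * g⁻¹ ∈ M := (inferInstance : M.Normal).conj_mem a ha g
    set m := x₀⁻¹ * (g * x₀ * g⁻¹) with hmdef
    set b := g * a * g⁻¹ with hbdef
    calc g * cm x₀ a * g⁻¹ = (x₀ * m) * b * (x₀ * m)⁻¹ * b⁻¹ := by rw [cm, hmdef, hbdef]; group
      _ = x₀ * (m * b * m⁻¹) * x₀⁻¹ * b⁻¹ := by group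
      _ = cm x₀ b := by rw [hMab m hm b hb, mul_inv_cancel_right, cm]
  let K : Subgroup G := M ⊓ Subgroup.centralizer {x₀}
  have hK : ∀ a ∈ M, a ∈ K ↔ cm x₀ a = 1 := fun a ha => by
    rw [cm, mul_inv_eq_one, mul_inv_eq_iff_eq_mul]
    exact ⟨fun h => (Subgroup.mem_centralizer_singleton_iff.1 h.2).symm,
      fun h => ⟨ha, Subgroup.mem_centralizer_singleton_iff.2 h.symm⟩⟩
  have hWK : W ≤ K := fun w hw => (hK w (hWM hw)).2 (by
    rw [cm, hcW w hw x₀ hx₀, mul_inv_cancel_right, mul_inv_cancel])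
  have hU_eq : M.map π = U := Subgroup.map_comap_eq_self_of_surjective hπs U
  rcases seven_subgroup hy' hU8 hUfree (K.map π) ((Subgroup.map_mono inf_le_left).trans hU_eq.le) (by
      rintro _ ⟨a, ha, rfl⟩
      refine ⟨y * a * y⁻¹, (hK _ ((inferInstance : M.Normal).conj_mem a ha.1 y)).2 ?_, by simp [π]⟩
      rw [← hequiv y a ha.1, (hK a ha.1).1 ha, mul_one, mul_inv_cancel]) with h | h
  · -- commutation with `x₀` is squaring
    have hinj : ∀ a ∈ M, cm x₀ a = 1 → a ∈ W := fun a ha hac =>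
      (hone a).1 (Subgroup.mem_bot.1 (h ▸ ⟨a, (hK a ha).2 hac, rfl⟩))
    have hinv₀ : ∀ x ∈ M, cm x₀ x = x * x := by
      intro x hx
      obtain ⟨a, ha⟩ := F.surj _ (hsq x (hMQ hx))
      obtain ⟨c, hc⟩ : ∃ c, F.e c = cm x₀ x := F.surj _ (hcomm x₀ hx₀ x (hMQ hx))
      by_cases ha0 : a = 0
      · have hxW := hne x hx (by rw [← ha, ha0, F.zero])
        rw [← ha, ha0, F.zero, cm, hcW x hxW x₀ hx₀, mul_inv_cancel_right, mul_inv_cancel]
      have hc0 : c ≠ 0 := fun e => ha0 (F.eq_one.1 (by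
        rw [ha]; exact hW2 x (hinj x hx (by rw [← hc, e, F.zero]))))
      by_contra hcon
      obtain ⟨k, hk1, hk2⟩ := square_stabilizer F ha0 hc0 (fun e => hcon (by rw [← hc, ← ha, e]))
      refine hk2 ?_
      rw [ha] at hk1
      have hkx : k * x * k⁻¹ ∈ M := (inferInstance : M.Normal).conj_mem x hx k
      have hd : x⁻¹ * (k * x * k⁻¹) ∈ W := by
        refine hne _ (M.mul_mem (M.inv_mem hx) hkx) ?_
        calc x⁻¹ * (k * x * k⁻¹) * (x⁻¹ * (k * x * k⁻¹))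
            = x⁻¹ * ((k * x * k⁻¹) * x⁻¹) * (k * x * k⁻¹) := by group
          _ = x⁻¹ * (x⁻¹ * (k * x * k⁻¹)) * (k * x * k⁻¹) := by rw [hMab _ hkx _ (M.inv_mem hx)]
          _ = (x * x)⁻¹ * (k * (x * x) * k⁻¹) := by group
          _ = 1 := by rw [hk1, inv_mul_cancel]
      have hkc : k * F.e c * k⁻¹ = F.e c := by
        rw [hc, hequiv k x hx, show k * x * k⁻¹ = x * (x⁻¹ * (k * x * k⁻¹)) by group,
          hbil x hx _ (hWM hd), (hK _ (hWM hd)).1 (hWK hd), mul_one]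
      calc k * k * F.e c * (k * k)⁻¹ = k * (k * F.e c * k⁻¹) * k⁻¹ := by group
        _ = F.e c := by rw [hkc, hkc]
    have hinvM : ∀ s ∈ Q, s ∉ M → ∀ x ∈ M, s * x * s⁻¹ = x⁻¹ := by
      intro s hs hsM x hx
      have hm := hcases s hs hsM
      have h4 : x * x * (x * x) = 1 := hW2 _ (hsq x (hMQ hx))
      have e : x₀ * x * x₀⁻¹ = x * x * x := by rw [← hinv₀ x hx, cm]; group
      calc s * x * s⁻¹ = x₀ * ((x₀⁻¹ * s) * x * (x₀⁻¹ * s)⁻¹) * x₀⁻¹ := by group
        _ = x * x * x := by rw [hMab _ hm x hx, mul_inv_cancel_right, e]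
        _ = x⁻¹ := eq_inv_of_mul_eq_one_left (by rw [mul_assoc]; exact h4)
    obtain ⟨g, hg⟩ := F.rep t2
    obtain ⟨k, hk⟩ := F.rep ts
    have hgk : F.Acts (g * k * (g * k)) t1 := by
      intro v
      rw [← gh_square v, ← hg, ← hk, ← hg, ← hk]
      group
    have hgg := square_in M W F hWM (fun g hg => (hcent g).1 hg) hMab hroot hne hinvM hg
      (fun v => (invol_all v).2.1) q_facts.2.2.2.1 sq_out.1
    have hkk := square_in M W F hWM (fun g hg => (hcent g).1 hg) hMab hroot hne hinvM hk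
      (fun v => (invol_all v).2.2.2.1) sq_out.2.2.2 sq_out.2.1
    have h4 := square_in M W F hWM (fun g hg => (hcent g).1 hg) hMab hroot hne hinvM hgk
      (fun v => (invol_all v).1) q_facts.1 sq_out.2.2.1
    obtain ⟨X, hMX, hXs, hXk⟩ := split_top hφ hker M hMQ (by rw [hQ, hMc]) g k hgg hkk h4 fun h1 => by
      have hmQ : g * k * (g * k) ∈ Q := by rw [← hker, MonoidHom.mem_ker, map_mul]; exact h1
      have hfx : ∀ v, t1 v = v := fun v => F.inj (by
        rw [← hgk, (hcent _).2 hmQ _ (F.mem v), mul_inv_cancel_right])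
      exact absurd (hfx (vec 0 0 1)) (by decide)
    exact core_in hr M W W F X hMX (cover hker W X (fun x hx w hw => hcW w hw x hx) hXs) hMab
      (fun x hx => hsq x (hMQ hx)) hroot (fun x => ⟨fun h => ⟨hWM h, hW2 x h⟩, fun h => hne x h.1 h.2⟩)
      le_rfl (by omega) fun g hgX hg => hXk g hgX (MonoidHom.mem_ker.1 (hker.symm ▸ (hcent g).1 hg))
  · -- `Q` is abelian
    have hcx : ∀ a ∈ M, x₀ * a = a * x₀ := by
      intro a ha
      have hK' : a ∈ K := mem_of_map hWK (h.symm ▸ (ha : π a ∈ U))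
      exact (Subgroup.mem_centralizer_singleton_iff.1 hK'.2).symm
    have hab : ∀ a ∈ Q, ∀ b ∈ Q, a * b = b * a := by
      have h1 : ∀ a ∈ Q, ∀ m ∈ M, a * m = m * a := by
        intro a ha m hm
        by_cases haM : a ∈ M
        · exact hMab a haM m hm
        · rw [show a = x₀ * (x₀⁻¹ * a) by group]
          exact ((show Commute x₀ m from hcx m hm).mul_left (hMab _ (hcases a ha haM) m hm)).eq
      intro a ha b hb
      by_cases hbM : b ∈ M
      · exact h1 a ha b hbM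
      · rw [show b = x₀ * (x₀⁻¹ * b) by group]
        refine ((show Commute a x₀ from ?_).mul_right (h1 a ha _ (hcases b hb hbM))).eq
        by_cases haM : a ∈ M
        · exact (hcx a haM).symm
        · rw [show a = x₀ * (x₀⁻¹ * a) by group]
          exact (Commute.refl x₀).mul_left (show Commute (x₀⁻¹ * a) x₀ from (hcx _ (hcases a ha haM)).symm)
    let Z : Subgroup G :=
      { carrier := {x | x ∈ Q ∧ x * x = 1}
        one_mem' := ⟨Q.one_mem, one_mul 1⟩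
        mul_mem' := by
          rintro p q ⟨hp, hp2⟩ ⟨hq, hq2⟩
          refine ⟨Q.mul_mem hp hq, ?_⟩
          calc p * q * (p * q) = p * (q * p) * q := by group
            _ = (p * p) * (q * q) := by rw [hab q hq p hp]; group
            _ = 1 := by rw [hp2, hq2, one_mul]
        inv_mem' := by
          rintro p ⟨hp, hp2⟩
          exact ⟨Q.inv_mem hp, by rw [← mul_inv_rev, hp2, inv_one]⟩ }
    haveI : Z.Normal := ⟨fun p hp g => ⟨(inferInstance : Q.Normal).conj_mem p hp.1 g, by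
      rw [show g * p * g⁻¹ * (g * p * g⁻¹) = g * (p * p) * g⁻¹ by group, hp.2]; simp⟩⟩
    have hsub : (Z : Set G) ⊆ (W : Set G) ∪ (fun z => x₀ * z) '' (W : Set G) := by
      rintro z ⟨hz, hz2⟩
      by_cases hzM : z ∈ M
      · exact Or.inl (hne z hzM hz2)
      · refine Or.inr ⟨x₀⁻¹ * z, hne _ (hcases z hz hzM) ?_, mul_inv_cancel_left x₀ z⟩
        calc x₀⁻¹ * z * (x₀⁻¹ * z) = x₀⁻¹ * (z * x₀⁻¹) * z := by group
          _ = (x₀ * x₀)⁻¹ * (z * z) := by rw [hab z hz _ (Q.inv_mem hx₀)]; group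
          _ = 1 := by rw [hx₀2, hz2, inv_one, one_mul]
    have hZc : Nat.card Z ≤ 2 * Nat.card W := by
      have h := (Set.ncard_le_ncard hsub (Set.toFinite _)).trans (Set.ncard_union_le _ _)
      rw [Set.ncard_image_of_injective _ (mul_right_injective x₀), ← Nat.card_coe_set_eq,
        ← Nat.card_coe_set_eq] at h
      exact h.trans (le_of_eq (two_mul _).symm)
    exact core_in hr Q Z W F ⊤ le_top (fun g => ⟨g, trivial, fun w _ => rfl⟩) hab hsq
      (fun w hw => (hroot w hw).imp fun x hx => ⟨hMQ hx.1, hx.2⟩) (fun x => Iff.rfl)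
      (fun w hw => ⟨hWQ hw, hW2 w hw⟩) hZc fun g _ hg => (hcent g).1 hg

end Cfsg.Agent.Lib.Inv59.RankFour.Seven
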