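import Mathlib
import Cfsg.Agent.Lib.Inv59.RankFour.Seven.Deep
import Cfsg.Agent.Lib.Inv59.RankFour.Seven.LayerEight

/-!
# `O₂` when the quotient is `L₃(2)`, sectional 2-rank at most 4
-/

set_option autoImplicit false
set_option linter.unusedSectionVars false
set_option linter.style.haveILetI false
set_option synthInstance.maxSize 4000
set_option synthInstance.maxHeartbeats 400000

namespace Cfsg.Agent.Lib.Inv59.RankFour.Seven

universe u v

variable {G : Type u} [Group G] [Finite G]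

/-- A chief layer seen in the quotient. -/
theorem layer_quot (Q A N : Subgroup G) [N.Normal] (hNA : N < A)
    (hchief : ∀ M : Subgroup G, M.Normal → N ≤ M → M ≤ A → M = N ∨ M = A)
    (hcom : ∀ a ∈ A, ∀ x ∈ Q, a * x * a⁻¹ * x⁻¹ ∈ N) (hsq : ∀ a ∈ A, a * a ∈ N) :
    A.map (QuotientGroup.mk' N) ≠ ⊥ ∧ (∀ w ∈ A.map (QuotientGroup.mk' N), w * w = 1) ∧
      (∀ w ∈ A.map (QuotientGroup.mk' N), ∀ x ∈ Q.map (QuotientGroup.mk' N), x * w = w * x) ∧
      ∀ M : Subgroup (G ⧸ N), M.Normal → M ≤ A.map (QuotientGroup.mk' N) →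
        M = ⊥ ∨ M = A.map (QuotientGroup.mk' N) := by
  let π := QuotientGroup.mk' N
  have hπs : Function.Surjective π := QuotientGroup.mk'_surjective N
  refine ⟨fun h => ?_, ?_, ?_, fun M hM hle => ?_⟩
  · obtain ⟨a, ha, haN⟩ := SetLike.exists_of_lt hNA
    exact haN ((QuotientGroup.eq_one_iff a).1 (Subgroup.mem_bot.1 (h ▸ ⟨a, ha, rfl⟩)))
  · rintro _ ⟨a, ha, rfl⟩
    rw [← map_mul]
    exact (QuotientGroup.eq_one_iff _).2 (hsq a ha)
  · rintro _ ⟨a, ha, rfl⟩ _ ⟨x, hx, rfl⟩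
    have h : π (a * x * a⁻¹ * x⁻¹) = 1 := (QuotientGroup.eq_one_iff _).2 (hcom a ha x hx)
    rw [map_mul, map_mul, map_mul, map_inv, map_inv] at h
    exact (mul_inv_eq_iff_eq_mul.1 (mul_inv_eq_one.1 h)).symm
  · have h1 : N ≤ M.comap π := fun n hn => by
      rw [Subgroup.mem_comap, show π n = 1 from (QuotientGroup.eq_one_iff n).2 hn]
      exact M.one_mem
    have h2 : M.comap π ≤ A := by
      refine (Subgroup.comap_mono hle).trans ?_
      rw [Subgroup.comap_map_eq, QuotientGroup.ker_mk', sup_eq_left.2 hNA.le]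
    rcases hchief _ inferInstance h1 h2 with h | h
    · left; rw [← Subgroup.map_comap_eq_self_of_surjective hπs M, h, QuotientGroup.map_mk'_self]
    · right; rw [← Subgroup.map_comap_eq_self_of_surjective hπs M, h]

variable {Q : Subgroup G} [Q.Normal] {φ : G →* L3}

/-- The structure of `O₂` when the quotient is `L₃(2)`. -/
theorem seven_main (hφ : Function.Surjective φ) (hker : φ.ker = Q) (hQ : IsPGroup 2 Q)
    (hC : Subgroup.centralizer (Q : Set G) ≤ Q) (hr : Cfsg.SectionalPRankLE 2 4 G) :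
    ((∀ x ∈ Q, x * x = 1) ∧ (Nat.card Q = 8 ∨ Nat.card Q = 16)) ∨
      Nonempty (↥Q ≃* Multiplicative (ZMod 4) × (Fin 3 → Multiplicative (ZMod 2))) := by
  classical
  haveI := Fact.mk Nat.prime_two
  set Φ := (frattini ↥Q).map Q.subtype with hΦdef
  haveI : Φ.Normal := by rw [hΦdef]; infer_instance
  have hΦQ : Φ ≤ Q := Subgroup.map_subtype_le _
  have hsqΦ : ∀ x ∈ Q, x * x ∈ Φ := fun x hx => by
    refine ⟨(⟨x, hx⟩ : ↥Q) ^ 2, SquareMaps.sq_mem_frattini hQ _, ?_⟩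
    rw [pow_two]; rfl
  have hΦgen : ∀ M : Subgroup G, (∀ x ∈ Q, x * x ∈ M) → Φ ≤ M := by
    rintro M hM _ ⟨x, hx, rfl⟩
    exact SquareMaps.frattini_le (M.subgroupOf Q) (fun x => by
      rw [Subgroup.mem_subgroupOf, Subgroup.coe_pow, pow_two]; exact hM x x.2) hx
  let π := QuotientGroup.mk' Φ
  have hone : ∀ x, π x = 1 ↔ x ∈ Φ := fun x => QuotientGroup.eq_one_iff x
  set V := Q.map π with hV
  haveI : V.Normal := Subgroup.Normal.map inferInstance π (QuotientGroup.mk'_surjective Φ)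
  have hV2 : ∀ v ∈ V, v * v = 1 := by
    rintro _ ⟨x, hx, rfl⟩
    rw [← map_mul]
    exact (hone _).2 (hsqΦ x hx)
  have hcm : Nat.card ↥V * Nat.card Φ = Nat.card Q := card_map_mk Φ Q hΦQ
  have hV16 : Nat.card V ≤ 16 := by
    have h := section_le hr Q Φ hΦQ (fun g _ k hk => (inferInstance : Φ.Normal).conj_mem k hk g) hsqΦ
    rw [← hcm] at h
    exact Nat.le_of_mul_le_mul_right h Nat.card_pos
  obtain ⟨y, hy⟩ := exists_seven hφ
  have hyQ : y ∉ Q := by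
    intro h
    obtain ⟨m, hm⟩ := IsPGroup.iff_orderOf.1 hQ ⟨y, h⟩
    rw [Subgroup.orderOf_mk, hy] at hm
    have := (Nat.prime_dvd_prime_iff_eq (by norm_num : Nat.Prime 7) Nat.prime_two).1
      ((show Nat.Prime 7 by norm_num).dvd_of_dvd_pow hm.dvd)
    omega
  have hy1 : orderOf (π y) = 7 := order_map hy Φ (hQ.to_le hΦQ)
  have hcy : ∀ x, π (y * x * y⁻¹ * x⁻¹) = π y * π x * (π y)⁻¹ * (π x)⁻¹ := fun x => by simp
  -- the two shapes of `Q / Φ`
  have hshape : (Nat.card Q = 8 * Nat.card Φ ∧ ∀ x ∈ Q, y * x * y⁻¹ * x⁻¹ ∈ Φ → x ∈ Φ) ∨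
      (Nat.card Q = 16 * Nat.card Φ ∧ ∃ x₀ ∈ Q, x₀ ∉ Φ ∧ y * x₀ * y⁻¹ * x₀⁻¹ ∈ Φ ∧
        ∀ x ∈ Q, y * x * y⁻¹ * x⁻¹ ∈ Φ → x ∈ Φ ∨ x₀⁻¹ * x ∈ Φ) := by
    rcases moved7 hy1 V hV2 hV16 (fun v hv => (inferInstance : V.Normal).conj_mem v hv _) with
      hall | ⟨h8, hfree⟩ | ⟨h16, v₀, ⟨x₀, hx₀, rfl⟩, hne, hfix, honly⟩
    · exfalso
      have h := eq_two_of_trivial Q hQ hC (by norm_num : Nat.Prime 7) hy fun x hx => by
        refine (hone _).1 ?_
        rw [hcy, hall (π x) ⟨x, hx, rfl⟩, mul_inv_cancel]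
      norm_num at h
    · refine Or.inl ⟨by rw [← hcm, h8], fun x hx h => (hone x).1 (hfree _ ⟨x, hx, rfl⟩ ?_)⟩
      have := (hone _).2 h
      rwa [hcy, mul_inv_eq_one] at this
    · refine Or.inr ⟨by rw [← hcm, h16], x₀, hx₀, fun h => hne ((hone x₀).2 h), (hone _).1 ?_, fun x hx h => ?_⟩
      · rw [hcy, hfix, mul_inv_cancel]
      · have := (hone _).2 h
        rw [hcy, mul_inv_eq_one] at this
        rcases honly _ ⟨x, hx, rfl⟩ this with e | e
        · exact Or.inl ((hone x).1 e)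
        · exact Or.inr ((hone _).1 (by rw [map_mul, map_inv, e, inv_mul_cancel]))
  by_cases hΦ : Φ = ⊥
  · left
    refine ⟨fun x hx => Subgroup.mem_bot.1 (hΦ ▸ hsqΦ x hx), ?_⟩
    have hc1 : Nat.card Φ = 1 := by rw [hΦ, Subgroup.card_bot]
    rcases hshape with ⟨h, -⟩ | ⟨h, -⟩ <;> rw [hc1, mul_one] at h
    · exact Or.inl h
    · exact Or.inr h
  obtain ⟨N, hNn, hNlt, hchief, hcom, hsqN⟩ := exists_layer Q Φ hQ hΦQ hΦ
  haveI := hNn
  have hNQ : N ≤ Q := hNlt.le.trans hΦQ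
  let πN := QuotientGroup.mk' N
  have hπN : Function.Surjective πN := QuotientGroup.mk'_surjective N
  obtain ⟨φN, hφN, hkN, -⟩ := quot7 hφ hker N hNQ
  have hrN := sectionalRank_of_surjective hr πN hπN
  haveI : (Q.map πN).Normal := Subgroup.Normal.map inferInstance πN hπN
  haveI : (Φ.map πN).Normal := Subgroup.Normal.map inferInstance πN hπN
  obtain ⟨hWne, hW2, hWc, hmin⟩ := layer_quot Q Φ N hNlt hchief hcom hsqN
  have hyN : orderOf (πN y) = 7 := order_map hy N (hQ.to_le hNQ)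
  have hyQN : πN y ∉ Q.map πN := fun h => hyQ (mem_of_map hNQ h)
  have hQc := card_map_mk N Q hNQ
  have hΦc := card_map_mk N Φ hNlt.le
  have hmul : ∀ k, Nat.card Q = k * Nat.card Φ → Nat.card ↥(Q.map πN) = k * Nat.card ↥(Φ.map πN) := by
    intro k hk
    have h1 : Nat.card ↥(Q.map πN) * Nat.card N = Nat.card Q := hQc
    have h2 : Nat.card ↥(Φ.map πN) * Nat.card N = Nat.card Φ := hΦc
    rw [hk, ← h2, ← mul_assoc] at h1
    exact Nat.eq_of_mul_eq_mul_right Nat.card_pos h1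
  have hQsq : ∀ x ∈ Q.map πN, x * x ∈ Φ.map πN := by
    rintro _ ⟨x, hx, rfl⟩
    rw [← map_mul]
    exact ⟨_, hsqΦ x hx, rfl⟩
  have hdown : ∀ x, πN y * πN x * (πN y)⁻¹ * (πN x)⁻¹ ∈ Φ.map πN ↔ y * x * y⁻¹ * x⁻¹ ∈ Φ := fun x => by
    rw [← map_inv, ← map_inv, ← map_mul, ← map_mul, ← map_mul]
    exact ⟨mem_of_map hNlt.le, fun h => ⟨_, h, rfl⟩⟩
  have honlyN : ∀ x₀, (∀ x ∈ Q, y * x * y⁻¹ * x⁻¹ ∈ Φ → x ∈ Φ ∨ x₀⁻¹ * x ∈ Φ) →
      ∀ x ∈ Q.map πN, πN y * x * (πN y)⁻¹ * x⁻¹ ∈ Φ.map πN → x ∈ Φ.map πN ∨ (πN x₀)⁻¹ * x ∈ Φ.map πN := by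
    rintro x₀ h _ ⟨x, hx, rfl⟩ he
    refine (h x hx ((hdown x).1 he)).imp (fun e => ⟨x, e, rfl⟩) (fun e => ?_)
    rw [← map_inv, ← map_mul]; exact ⟨_, e, rfl⟩
  rcases layer7 hyN hyQN hφN hkN hrN (Φ.map πN) hWne hW2 hWc hmin with hW | ⟨hW, hWfree, hWcent, ⟨F⟩⟩
  swap
  · exfalso
    rcases hshape with ⟨h, hfree⟩ | ⟨h, x₀, hx₀, hx₀Φ, hfix, honly⟩
    · refine eight_eight hrN hyN F (Subgroup.map_mono hΦQ) hWcent hWfree hQsq (by rw [hmul 8 h, hW]) ?_
      rintro _ ⟨x, hx, rfl⟩ he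
      exact ⟨x, hfree x hx ((hdown x).1 he), rfl⟩
    · exact eight_sixteen hφN hkN hrN hyN F (Subgroup.map_mono hΦQ) hWcent hWfree hQsq (by rw [hmul 16 h, hW])
        (x₀ := πN x₀) ⟨x₀, hx₀, rfl⟩ (fun e => hx₀Φ (mem_of_map hNlt.le e)) ((hdown x₀).2 hfix) (honlyN x₀ honly)
  rcases hshape with ⟨h, hfree⟩ | ⟨h, x₀, hx₀, hx₀Φ, hfix, honly⟩
  · exfalso
    have hall := all_good hyN (Q.map πN) (Φ.map πN) hW (Subgroup.map_mono hΦQ) (by rw [hmul 8 h, hW])
      (fun a ha => (inferInstance : (Q.map πN).Normal).conj_mem a ha _) hQsq (by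
        rintro _ ⟨x, hx, rfl⟩ he
        exact ⟨x, hfree x hx ((hdown x).1 he), rfl⟩)
    have hle : Φ ≤ N := hΦgen N fun x hx => by
      rw [← QuotientGroup.eq_one_iff]
      exact (map_mul πN x x).trans (hall _ ⟨x, hx, rfl⟩)
    exact not_le_of_gt hNlt hle
  have hΦN : Nat.card Φ = 2 * Nat.card N := by rw [← hW]; exact hΦc.symm
  by_cases hN : N = ⊥
  · right
    have h2 : Nat.card Φ = 2 := by rw [hΦN, hN, Subgroup.card_bot]
    refine top_iso hy Q Φ h2 hΦQ (by rw [h, h2]) hsqΦ hx₀ hx₀Φ hfix honly ?_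
    by_contra hall
    push Not at hall
    exact hΦ (le_bot_iff.1 (hΦgen ⊥ fun x hx => Subgroup.mem_bot.2 (hall x hx)))
  exfalso
  obtain ⟨N', hN'n, hN'lt, hchief', hcom', hsqN'⟩ := exists_layer Q N hQ hNQ hN
  haveI := hN'n
  have hN'Q : N' ≤ Q := hN'lt.le.trans hNQ
  have hN'Φ : N' ≤ Φ := hN'lt.le.trans hNlt.le
  let π' := QuotientGroup.mk' N'
  have hπ' : Function.Surjective π' := QuotientGroup.mk'_surjective N'
  obtain ⟨φ', hφ', hk', -⟩ := quot7 hφ hker N' hN'Q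
  have hr' := sectionalRank_of_surjective hr π' hπ'
  haveI : (Q.map π').Normal := Subgroup.Normal.map inferInstance π' hπ'
  haveI : (Φ.map π').Normal := Subgroup.Normal.map inferInstance π' hπ'
  haveI : (N.map π').Normal := Subgroup.Normal.map inferInstance π' hπ'
  obtain ⟨hne', h2', hc', hmin'⟩ := layer_quot Q N N' hN'lt hchief' hcom' hsqN'
  have hy' : orderOf (π' y) = 7 := order_map hy N' (hQ.to_le hN'Q)
  have hyQ' : π' y ∉ Q.map π' := fun e => hyQ (mem_of_map hN'Q e)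
  have hcy' : ∀ x, π' (y * x * y⁻¹ * x⁻¹) = π' y * π' x * (π' y)⁻¹ * (π' x)⁻¹ := fun x => by simp [π']
  have hΦc' : Nat.card ↥(Φ.map π') * Nat.card N' = Nat.card Φ := card_map_mk N' Φ hN'Φ
  have D : Deep (Q.map π') (Φ.map π') (N.map π') φ' (π' y) (π' x₀) :=
    { surj := hφ'
      ker := hk'
      order := hy'
      pgroup := hQ.map π'
      n_le := Subgroup.map_mono hNlt.le
      le := Subgroup.map_mono hΦQ
      cardQ := by
        have h1 : Nat.card ↥(Q.map π') * Nat.card N' = Nat.card Q := card_map_mk N' Q hN'Q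
        rw [h, ← hΦc', ← mul_assoc] at h1
        exact Nat.eq_of_mul_eq_mul_right Nat.card_pos h1
      card := by
        have h1 : Nat.card ↥(N.map π') * Nat.card N' = Nat.card N := card_map_mk N' N hN'lt.le
        have h2 := hΦc'
        rw [hΦN, ← h1, ← mul_assoc] at h2
        exact Nat.eq_of_mul_eq_mul_right Nat.card_pos h2
      sqQ := by
        rintro _ ⟨x, hx, rfl⟩
        rw [← map_mul]; exact ⟨_, hsqΦ x hx, rfl⟩
      gen := fun M hM => by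
        refine Subgroup.map_le_iff_le_comap.2 (hΦgen _ fun x hx => ?_)
        rw [Subgroup.mem_comap, map_mul]
        exact hM _ ⟨x, hx, rfl⟩
      comm := by
        rintro _ ⟨a, ha, rfl⟩ _ ⟨x, hx, rfl⟩
        exact ⟨_, hcom a ha x hx, by rw [map_mul, map_mul, map_mul, map_inv, map_inv]⟩
      sqΦ := by
        rintro _ ⟨a, ha, rfl⟩
        rw [← map_mul]; exact ⟨_, hsqN a ha, rfl⟩
      cen := hc'
      sqN := h2'
      x_mem := ⟨x₀, hx₀, rfl⟩
      x_nmem := fun e => hx₀Φ (mem_of_map hN'Φ e)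
      x_fix := by rw [← hcy']; exact ⟨_, hfix, rfl⟩
      x_only := by
        rintro _ ⟨x, hx, rfl⟩ he
        rw [← hcy'] at he
        refine (honly x hx (mem_of_map hN'Φ he)).imp (fun e => ⟨x, e, rfl⟩) (fun e => ?_)
        rw [← map_inv, ← map_mul]; exact ⟨_, e, rfl⟩ }
  rcases layer7 hy' hyQ' hφ' hk' hr' (N.map π') hne' h2' hc' hmin' with h2 | ⟨h8, hfree8, hcent8, ⟨F⟩⟩
  · exact D.two_false hr' h2
  · exact D.eight_false hr' h8 hfree8 hcent8 F

end Cfsg.Agent.Lib.Inv59.RankFour.Seven
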